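import Groth.Agent.L21.Bundle.RankTwoExt
import Groth.Agent.L17.CohClass

/-!
Extensions of line bundles: simplicity and indecomposability; sections of normalised rank two bundles.
-/

set_option autoImplicit false
set_option backward.isDefEq.respectTransparency false
set_option linter.style.haveILetI false
universe u

open CategoryTheory CategoryTheory.Limits AlgebraicGeometry TopologicalSpace

noncomputable section

namespace Groth.L21.Bundle

open Groth.L21.RR (h)
open Groth.L03.ShStab.Scalar (sc)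

theorem isInvertible_of_rank {X : Scheme.{u}} {L : X.Modules} (hL : FlatMod.IsFinLocFreeOfRank 1 L) :
    PicF.IsInvertible L := fun x => by
  obtain ⟨U, hx, ⟨e⟩⟩ := hL x
  exact ⟨U, hx, ⟨e ≪≫ coproductUniqueIso (fun _ : Fin 1 => Coh.structureModule (↑U : Scheme.{u}))⟩⟩

variable {X : Scheme.{u}} [IsIntegral X] [IsLocallyNoetherian X] (k : Type u) [Field k]
  [X.Over (Spec (CommRingCat.of k))] [IsProper (X ↘ Spec (CommRingCat.of k))]
  (hreg : ∀ x : X, IsRegularLocalRing (X.presheaf.stalk x)) (hd : topologicalKrullDim X ≤ 1)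

attribute [local irreducible] dg rk

include hreg hd in
/-- Extensions of bundles are bundles. -/
theorem locFree_extension {a b : ℕ} {S : ShortComplex X.Modules} (hS : S.ShortExact)
    (hA : FlatMod.IsFinLocFreeOfRank a S.X₁) (hB : FlatMod.IsFinLocFreeOfRank b S.X₃) :
    FlatMod.IsFinLocFreeOfRank (a + b) S.X₂ := by
  have hc := Groth.L17.CohClass.isCoh_of_shortExact S hS (isCoh_of_rank hA) (isCoh_of_rank hB)
  have htf : TorSh.IsTorsionFree S.X₂ := fun x => by
    have hm := hS.map_of_exact (Groth.L00.Stk.F X x)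
    have hf : Function.Injective (sm S.f x) := (ModuleCat.mono_iff_injective _).1 hm.mono_f
    have he : LinearMap.range (sm S.f x) = LinearMap.ker (sm S.g x) := hm.exact.moduleCat_range_eq_ker
    haveI := isPrincipalIdealRing_stalk hreg hd x
    obtain ⟨θa⟩ := Groth.L22.CurveDeg.nonempty_stalk_equiv hA x
    obtain ⟨θb⟩ := Groth.L22.CurveDeg.nonempty_stalk_equiv hB x
    haveI := Module.Free.of_equiv θa
    haveI := Module.Free.of_equiv θb
    haveI := hreg x
    refine Module.IsTorsionFree.mk fun r hr v w hvw => ?_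
    simp only at hvw
    have h1 : r • (v - w) = 0 := by rw [smul_sub, hvw, sub_self]
    have h2 : sm S.g x (v - w) = 0 := (smul_eq_zero.1 (by rw [← map_smul, h1, map_zero])).resolve_left hr.ne_zero
    obtain ⟨u, hu⟩ : v - w ∈ LinearMap.range (sm S.f x) := he ▸ h2
    have h3 : r • u = 0 := hf (by rw [map_smul, hu, h1, map_zero])
    rw [(smul_eq_zero.1 h3).resolve_left hr.ne_zero, map_zero] at hu
    exact sub_eq_zero.1 hu.symm
  have h := locFree_of_torsionFree hreg hd hc htf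
  rwa [rk_add hS hc, rk_eq hA, rk_eq hB] at h

include hreg hd in
/-- A nonzero homomorphism of line bundles raises the degree; with equality it is an isomorphism. -/
theorem line_hom_facts {L M : X.Modules} (hL : FlatMod.IsFinLocFreeOfRank 1 L)
    (hM : FlatMod.IsFinLocFreeOfRank 1 M) (f : L ⟶ M) (hf : f ≠ 0) :
    Mono f ∧ dg k L ≤ dg k M ∧ (dg k L = dg k M → IsIso f) := by
  obtain ⟨a, b, K, I, i, j, hi, hj, hK, hI, hab, hb, hbs, hdeg, hK0, hle, hiso⟩ := hom_facts k hreg hd hL hM hf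
  have ha : a = 0 := by omega
  have hb1 : b = 1 := by omega
  have hcK := coh_kernel (isCoh_of_rank hL) (isCoh_of_rank hM) f
  have hKf := locFree_of_mono hreg hd (kernel.ι f) hcK hL
  have h1 := hle hb1
  rw [hK0 ha, zero_add] at hdeg
  rw [← hdeg, dg_eq k hL, dg_eq k hM] at h1
  refine ⟨?_, h1, fun he => hiso ha hb1 ?_⟩
  · have h2 := rk_le_of_mono (kernel.ι f) hcK (isCoh_of_rank hL)
    rw [rk_eq hL] at h2
    rcases Nat.eq_zero_or_pos (rk (kernel f)) with h3 | h3
    · exact Preadditive.mono_of_isZero_kernel f (isZero_of_rank_zero (h3 ▸ hKf))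
    · exact absurd (eq_zero_of_comp_eq_zero hreg hd hM hcK (isCoh_of_rank hL) (kernel.ι f)
        (by rw [rk_eq hL]; omega) f (kernel.condition f)) hf
  · rw [← hdeg, dg_eq k hL, dg_eq k hM, he]

include hreg hd in
/-- A nonsplit extension of line bundles with no maps back and decreasing degree is simple. -/
theorem simple_of_nonsplit [IsAlgClosed k] {S : ShortComplex X.Modules} (hS : S.ShortExact)
    (hL : FlatMod.IsFinLocFreeOfRank 1 S.X₁) (hM : FlatMod.IsFinLocFreeOfRank 1 S.X₃)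
    (hdeg : dg k S.X₃ < dg k S.X₁) (hhom : ∀ g : S.X₃ ⟶ S.X₁, g = 0) (hns : ¬ IsSplitEpi S.g)
    (φ : S.X₂ ⟶ S.X₂) :
    ∃ c : k, (SheafOfModules.toSheaf X.ringCatSheaf).map φ =
      Coh.smulAb S.X₂ (Coh.toGlobal (X ↘ Spec (CommRingCat.of k)) c) := by
  haveI := hS.mono_f
  haveI := hS.epi_g
  have hlines : ∀ {L : X.Modules}, FlatMod.IsFinLocFreeOfRank 1 L → ModFun.IsSlopeStable k X L 1 :=
    fun {L} _ G r' i _ h1 h2 => by omega
  have hg0 : S.f ≫ φ ≫ S.g = 0 := by
    by_contra hne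
    exact absurd (line_hom_facts k hreg hd hL hM _ hne).2.1 (by omega)
  let a : S.X₁ ⟶ S.X₁ := hS.exact.lift (S.f ≫ φ) (by rw [Category.assoc, hg0])
  have ha : a ≫ S.f = S.f ≫ φ := hS.exact.lift_f _ _
  obtain ⟨c, hc⟩ := exists_scalar_of_stable k hreg hd Nat.one_pos hL (hlines hL) a
  let cg := Coh.toGlobal (X ↘ Spec (CommRingCat.of k)) c
  have ha' : a = sc S.X₁ cg :=
    (SheafOfModules.toSheaf X.ringCatSheaf).map_injective (hc.trans (toSheaf_sc _ _).symm)
  let ψ := φ - sc S.X₂ cg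
  have hψ : S.f ≫ ψ = 0 := by
    simp only [ψ, Preadditive.comp_sub, ← ha, ha', sc_natural, sub_self]
  let χ : S.X₃ ⟶ S.X₂ := hS.exact.desc ψ hψ
  have hχ : S.g ≫ χ = ψ := hS.exact.g_desc _ _
  have hχ0 : χ ≫ S.g = 0 := by
    by_contra hne
    haveI := (line_hom_facts k hreg hd hM hM _ hne).2.2 rfl
    exact hns (IsSplitEpi.mk' ⟨inv (χ ≫ S.g) ≫ χ, by rw [Category.assoc, IsIso.inv_hom_id]⟩)
  have h1 : χ = 0 := by
    have h2 := hS.exact.lift_f χ hχ0
    rw [hhom (hS.exact.lift χ hχ0), zero_comp] at h2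
    exact h2.symm
  refine ⟨c, ?_⟩
  rw [show φ = sc S.X₂ cg from sub_eq_zero.1 (hχ.symm.trans (by rw [h1, comp_zero]))]
  exact toSheaf_sc _ _

omit [IsIntegral X] [IsLocallyNoetherian X] [X.Over (Spec (CommRingCat.of k))]
  [IsProper (X ↘ Spec (CommRingCat.of k))] in
theorem isSplitEpi_of_retraction {S : ShortComplex X.Modules} (hS : S.ShortExact) (r : S.X₂ ⟶ S.X₁)
    (hr : S.f ≫ r = 𝟙 S.X₁) : IsSplitEpi S.g :=
  let σ := ShortComplex.Splitting.ofExactOfRetraction S hS.exact r hr hS.epi_g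
  IsSplitEpi.mk' ⟨σ.s, σ.s_g⟩

omit [X.Over (Spec (CommRingCat.of k))] [IsProper (X ↘ Spec (CommRingCat.of k))] in
theorem coh_retract {E A : X.Modules} (hE : Coh.IsCoh E) (j : A ⟶ E) (p : E ⟶ A) (h : j ≫ p = 𝟙 A) :
    Coh.IsCoh A := by
  have h0 : j ≫ (𝟙 E - p ≫ j) = 0 := by
    rw [Preadditive.comp_sub, Category.comp_id, ← Category.assoc, h, Category.id_comp, sub_self]
  let e : kernel (𝟙 E - p ≫ j) ≅ A :=
    { hom := kernel.ι _ ≫ p
      inv := kernel.lift _ j h0
      hom_inv_id := by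
        rw [← cancel_mono (kernel.ι (𝟙 E - p ≫ j)), Category.assoc, Category.assoc, kernel.lift_ι, Category.id_comp]
        have := kernel.condition (𝟙 E - p ≫ j)
        rw [Preadditive.comp_sub, Category.comp_id, sub_eq_zero] at this
        exact this.symm
      inv_hom_id := by rw [kernel.lift_ι_assoc, h] }
  exact Groth.L16.CohSupport.isCoh_of_iso e (coh_kernel hE hE _)

include k hreg hd in
theorem split_of_factor {S : ShortComplex X.Modules} (hS : S.ShortExact) {A : X.Modules}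
    (hA : FlatMod.IsFinLocFreeOfRank 1 A) (hL : FlatMod.IsFinLocFreeOfRank 1 S.X₁)
    (hM : FlatMod.IsFinLocFreeOfRank 1 S.X₃)
    (j : A ⟶ S.X₂) (p : S.X₂ ⟶ A) (h : S.f ≫ p ≫ j = S.f) : IsSplitEpi S.g := by
  haveI := hS.mono_f
  haveI := hS.epi_g
  have hne : S.f ≫ p ≠ 0 := fun h0 => by
    rw [← Category.assoc, h0, zero_comp] at h
    exact not_isZero_of_rank Nat.one_pos hL (IsZero.of_mono_eq_zero _ h.symm)
  haveI := (line_hom_facts k hreg hd hL hA _ hne).1
  have h1 : j ≫ S.g = 0 := eq_zero_of_comp_eq_zero hreg hd hM (isCoh_of_rank hL) (isCoh_of_rank hA) (S.f ≫ p)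
    (by rw [rk_eq hL, rk_eq hA]) (j ≫ S.g) (by rw [Category.assoc, reassoc_of% h, S.zero])
  refine isSplitEpi_of_retraction hS (p ≫ hS.exact.lift j h1) ((cancel_mono S.f).1 ?_)
  rw [Category.assoc, Category.assoc, hS.exact.lift_f, Category.id_comp, h]

include hreg hd in
/-- A nonsplit extension of line bundles with a map back is indecomposable. -/
theorem indecomposable_of_nonsplit {S : ShortComplex X.Modules} (hS : S.ShortExact)
    (hE : FlatMod.IsFinLocFreeOfRank 2 S.X₂)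
    (hL : FlatMod.IsFinLocFreeOfRank 1 S.X₁) (hM : FlatMod.IsFinLocFreeOfRank 1 S.X₃)
    (hdeg : dg k S.X₃ ≤ dg k S.X₁) (hns : ¬ IsSplitEpi S.g)
    (E₁ E₂ : X.Modules) (e : S.X₂ ≅ E₁ ⊞ E₂) : IsZero E₁ ∨ IsZero E₂ := by
  by_contra hne
  push Not at hne
  let pA : S.X₂ ⟶ E₁ := e.hom ≫ biprod.fst
  let pB : S.X₂ ⟶ E₂ := e.hom ≫ biprod.snd
  let jA : E₁ ⟶ S.X₂ := biprod.inl ≫ e.inv
  let jB : E₂ ⟶ S.X₂ := biprod.inr ≫ e.inv
  have hA1 : jA ≫ pA = 𝟙 E₁ := by simp [jA, pA]
  have hB1 : jB ≫ pB = 𝟙 E₂ := by simp [jB, pB]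
  have hsum : pA ≫ jA + pB ≫ jB = 𝟙 S.X₂ := by
    simp only [pA, pB, jA, jB, Category.assoc]
    rw [← Category.assoc biprod.fst, ← Category.assoc biprod.snd, ← Preadditive.comp_add, ← Preadditive.add_comp,
      biprod.total, Category.id_comp, e.hom_inv_id]
  have hcE := isCoh_of_rank hE
  have hcA := coh_retract hcE jA pA hA1
  have hcB := coh_retract hcE jB pB hB1
  haveI : IsSplitMono jA := IsSplitMono.mk' ⟨pA, hA1⟩
  haveI : IsSplitMono jB := IsSplitMono.mk' ⟨pB, hB1⟩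
  have hA' := locFree_of_mono hreg hd jA hcA hE
  have hB' := locFree_of_mono hreg hd jB hcB hE
  have hT : (ShortComplex.mk jA pB (by simp [jA, pB])).ShortExact :=
    ShortComplex.Splitting.shortExact { r := pA, s := jB }
  have hr : rk S.X₂ = rk E₁ + rk E₂ := rk_add hT hcE
  have hdd : dg k S.X₂ = dg k E₁ + dg k E₂ := dg_add hd k hT hcA hcE hcB
  have hdS : dg k S.X₂ = dg k S.X₁ + dg k S.X₃ := dg_add hd k hS (isCoh_of_rank hL) hcE (isCoh_of_rank hM)
  rw [rk_eq hE] at hr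
  have ha : rk E₁ ≠ 0 := fun h0 => hne.1 (isZero_of_rank_zero (h0 ▸ hA'))
  have hb : rk E₂ ≠ 0 := fun h0 => hne.2 (isZero_of_rank_zero (h0 ▸ hB'))
  rw [show rk E₁ = 1 by omega] at hA'
  rw [show rk E₂ = 1 by omega] at hB'
  have hdec : S.f = S.f ≫ pA ≫ jA + S.f ≫ pB ≫ jB := by rw [← Preadditive.comp_add, hsum, Category.comp_id]
  by_cases hB0 : S.f ≫ pB = 0
  · rw [reassoc_of% hB0, zero_comp, add_zero] at hdec
    exact hns (split_of_factor k hreg hd hS hA' hL hM jA pA hdec.symm)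
  by_cases hA0 : S.f ≫ pA = 0
  · rw [reassoc_of% hA0, zero_comp, zero_add] at hdec
    exact hns (split_of_factor k hreg hd hS hB' hL hM jB pB hdec.symm)
  obtain ⟨-, h1, h1'⟩ := line_hom_facts k hreg hd hL hA' _ hA0
  obtain ⟨-, h2, -⟩ := line_hom_facts k hreg hd hL hB' _ hB0
  haveI := h1' (by omega)
  exact hns (isSplitEpi_of_retraction hS (pA ≫ inv (S.f ≫ pA)) (by rw [← Category.assoc, IsIso.hom_inv_id]))

end Groth.L21.Bundle
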