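import Groth.Agent.L21.Bundle.Calc
import Groth.Agent.L12.FinCov.Frame

/-!
Standard facts about slopes of bundles on regular curves.
-/

set_option autoImplicit false
set_option backward.isDefEq.respectTransparency false
set_option linter.style.haveILetI false
universe u

open CategoryTheory CategoryTheory.Limits AlgebraicGeometry

noncomputable section

namespace Groth.L21.Bundle

theorem locFree_one {X : Scheme.{u}} {L : X.Modules} (h : PicF.IsInvertible L) : FlatMod.IsFinLocFreeOfRank 1 L :=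
  Groth.L12.FinCov.isFinLocFreeOfRank_one_of_isInvertible h

variable {X : Scheme.{u}} [IsIntegral X] [IsLocallyNoetherian X]
  (k : Type u) [Field k] [X.Over (Spec (CommRingCat.of k))] [IsProper (X ↘ Spec (CommRingCat.of k))]

attribute [local irreducible] dg rk

variable (hreg : ∀ x : X, IsRegularLocalRing (X.presheaf.stalk x)) (hd : topologicalKrullDim X ≤ 1)

include hreg hd in
/-- Semistability in extensions of equal slope. -/
theorem bd_extension_iff {S : ShortComplex X.Modules} (hS : S.ShortExact) {r₁ r r₂ : ℕ} (hr₁ : 0 < r₁) (hr₂ : 0 < r₂)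
    (hr : 0 < r) (hE₁ : FlatMod.IsFinLocFreeOfRank r₁ S.X₁) (hE : FlatMod.IsFinLocFreeOfRank r S.X₂)
    (hE₂ : FlatMod.IsFinLocFreeOfRank r₂ S.X₃)
    (hμ₁ : dg k S.X₁ * (r : ℤ) = dg k S.X₂ * (r₁ : ℤ)) (hμ₂ : dg k S.X₃ * (r : ℤ) = dg k S.X₂ * (r₂ : ℤ)) :
    Bd k S.X₂ (dg k S.X₂) r ↔ Bd k S.X₁ (dg k S.X₁) r₁ ∧ Bd k S.X₃ (dg k S.X₃) r₂ := by
  have hz : (0 : ℤ) < r := by exact_mod_cast hr
  have hz₁ : (0 : ℤ) < r₁ := by exact_mod_cast hr₁
  have hz₂ : (0 : ℤ) < r₂ := by exact_mod_cast hr₂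
  haveI := hS.mono_f
  haveI := hS.epi_g
  constructor
  · intro h
    constructor
    · intro G i hi hG
      have h1 := mul_le_mul_of_nonneg_right (h G (i ≫ S.f) (mono_comp i S.f) hG) hz₁.le
      refine le_of_mul_le_mul_right ?_ hz
      linear_combination h1 - (rk G : ℤ) * hμ₁
    · intro G i hi hG
      obtain ⟨P, j, hj, hP, h1, h2⟩ := exists_preimage k hd S.g i (isCoh_of_rank hE) (isCoh_of_rank hE₂) hG
      have h3 := h P j hj hP
      have h4 : rk S.X₂ = rk S.X₁ + rk S.X₃ := rk_add hS (isCoh_of_rank hE)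
      have h5 : dg k S.X₂ = dg k S.X₁ + dg k S.X₃ :=
        dg_add hd k hS (isCoh_of_rank hE₁) (isCoh_of_rank hE) (isCoh_of_rank hE₂)
      rw [rk_eq hE, rk_eq hE₁, rk_eq hE₂] at h4
      rw [rk_eq hE, rk_eq hE₂] at h1
      have hP1 : (rk P : ℤ) = r₁ + rk G := by exact_mod_cast (show rk P = r₁ + rk G by omega)
      have hP2 : dg k P = dg k S.X₁ + dg k G := by omega
      rw [hP1, hP2] at h3
      refine le_of_mul_le_mul_right ?_ hz
      have h6 : dg k G * (r : ℤ) ≤ dg k S.X₂ * (rk G : ℤ) := by linear_combination h3 - hμ₁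
      have h7 := mul_le_mul_of_nonneg_right h6 hz₂.le
      linear_combination h7 - (rk G : ℤ) * hμ₂
  · rintro ⟨h₁, h₂⟩ G i hi hG
    obtain ⟨K, I, a, b, ha, hb, hK, hI, e1, e2⟩ := split_sub k hd hS i hG (isCoh_of_rank hE₂)
    have h3 := mul_le_mul_of_nonneg_right (h₁ K a ha hK) hz.le
    have h4 := mul_le_mul_of_nonneg_right (h₂ I b hb hI) hz.le
    have h5 : dg k K * (r : ℤ) ≤ dg k S.X₂ * (rk K : ℤ) := by
      refine le_of_mul_le_mul_right ?_ hz₁
      linear_combination h3 + (rk K : ℤ) * hμ₁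
    have h6 : dg k I * (r : ℤ) ≤ dg k S.X₂ * (rk I : ℤ) := by
      refine le_of_mul_le_mul_right ?_ hz₂
      linear_combination h4 + (rk I : ℤ) * hμ₂
    rw [e1, e2]
    push_cast
    linear_combination h5 + h6

include hreg hd in
/-- Slopes of quotients and of subsheaves. -/
theorem quotient_iff_sub {r : ℕ} (hr : 0 < r) {E : X.Modules} (hE : FlatMod.IsFinLocFreeOfRank r E) :
    ((∀ (F : X.Modules) (s : ℕ) (p : E ⟶ F), Epi p → 0 < s → FlatMod.IsFinLocFreeOfRank s F →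
      Curv2.deg k X E r * (s : ℤ) ≤ Curv2.deg k X F s * (r : ℤ)) ↔
      (∀ (G : X.Modules) (r' : ℕ) (i : G ⟶ E), Mono i → 0 < r' → FlatMod.IsFinLocFreeOfRank r' G →
      Curv2.deg k X G r' * (r : ℤ) ≤ Curv2.deg k X E r * (r' : ℤ))) ∧
    ((∀ (F : X.Modules) (s : ℕ) (p : E ⟶ F), Epi p → 0 < s → FlatMod.IsFinLocFreeOfRank s F → (¬ IsIso p) →
      Curv2.deg k X E r * (s : ℤ) < Curv2.deg k X F s * (r : ℤ)) ↔
      (∀ (G : X.Modules) (r' : ℕ) (i : G ⟶ E), Mono i → 0 < r' → FlatMod.IsFinLocFreeOfRank r' G → (¬ IsIso i) →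
      Curv2.deg k X G r' * (r : ℤ) < Curv2.deg k X E r * (r' : ℤ))) := by
  have hcE := isCoh_of_rank hE
  have hz : (0 : ℤ) < r := by exact_mod_cast hr
  -- from a subsheaf to a quotient
  have sub : ∀ (G : X.Modules) (r' : ℕ) (i : G ⟶ E), Mono i → 0 < r' → FlatMod.IsFinLocFreeOfRank r' G →
      (r' = r ∧ Curv2.deg k X G r' ≤ Curv2.deg k X E r ∧ (Curv2.deg k X G r' = Curv2.deg k X E r → IsIso i)) ∨
      ∃ (Q : X.Modules) (p : E ⟶ Q) (s : ℕ), Epi p ∧ 0 < s ∧ FlatMod.IsFinLocFreeOfRank s Q ∧ ¬ IsIso p ∧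
        (s : ℤ) = r - r' ∧ Curv2.deg k X Q s ≤ Curv2.deg k X E r - Curv2.deg k X G r' := by
    intro G r' i hi h0 hG
    haveI := hi
    obtain ⟨h1, h2⟩ := add_cokernel k hd i (isCoh_of_rank hG) hcE
    rw [rk_eq hE, rk_eq hG] at h1
    rcases Nat.eq_zero_or_pos (rk (cokernel i)) with hs | hs
    · left
      obtain ⟨h3, h4⟩ := dg_le_of_mono hd k i (isCoh_of_rank hG) hcE (by rw [rk_eq hG, rk_eq hE]; omega)
      rw [dg_eq k hG, dg_eq k hE]
      exact ⟨by omega, h3, h4⟩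
    · right
      have hC := coh_cokernel (isCoh_of_rank hG) hcE i
      obtain ⟨Q, p, hp, hK, hK0, hQ⟩ := exists_locFree_quotient hreg hd hC
      haveI := hp
      refine ⟨Q, cokernel.π i ≫ p, rk (cokernel i), epi_comp _ _, hs, hQ, fun hiso => ?_, by omega, ?_⟩
      · haveI := hiso
        have h5 := rk_iso (asIso (cokernel.π i ≫ p))
        rw [rk_eq hE, rk_eq hQ] at h5
        omega
      · rw [dg_eq k hQ, dg_eq k hE, dg_eq k hG]
        have := (dg_quotient_le hd k p hC (isCoh_of_rank hQ) hK hK0).1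
        omega
  -- from a quotient to a subsheaf
  have quo : ∀ (F : X.Modules) (s : ℕ) (p : E ⟶ F), Epi p → 0 < s → FlatMod.IsFinLocFreeOfRank s F →
      IsIso p ∧ Curv2.deg k X E r = Curv2.deg k X F s ∧ r = s ∨
      ∃ (G : X.Modules) (i : G ⟶ E) (r' : ℕ), Mono i ∧ 0 < r' ∧ FlatMod.IsFinLocFreeOfRank r' G ∧ ¬ IsIso i ∧
        (r' : ℤ) = r - s ∧ Curv2.deg k X G r' = Curv2.deg k X E r - Curv2.deg k X F s := by
    intro F s p hp hs hF
    haveI := hp
    obtain ⟨h1, h2⟩ := add_kernel k hd p hcE (isCoh_of_rank hF)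
    rw [rk_eq hE, rk_eq hF] at h1
    have hK := locFree_of_mono hreg hd (kernel.ι p) (coh_kernel hcE (isCoh_of_rank hF) p) hE
    rcases Nat.eq_zero_or_pos (rk (kernel p)) with h0 | h0
    · left
      rw [h0] at hK
      haveI : Mono p := Preadditive.mono_of_isZero_kernel p (isZero_of_rank_zero hK)
      rw [dg_eq k hF, dg_eq k hE]
      rw [(zero_facts k hd (isZero_of_rank_zero hK)).2] at h2
      exact ⟨isIso_of_mono_of_epi p, by omega, by omega⟩
    · right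
      refine ⟨kernel p, kernel.ι p, rk (kernel p), inferInstance, h0, hK, fun hiso => ?_, by omega, ?_⟩
      · haveI := hiso
        have h5 := rk_iso (asIso (kernel.ι p))
        rw [rk_eq hE] at h5
        omega
      · rw [dg_eq k hF, dg_eq k hE, dg_eq k hK]
        omega
  refine ⟨⟨fun h G r' i hi h0 hG => ?_, fun h F s p hp hs hF => ?_⟩, ⟨fun h G r' i hi h0 hG hni => ?_, fun h F s p hp hs hF hnp => ?_⟩⟩
  · rcases sub G r' i hi h0 hG with ⟨hr', hle, -⟩ | ⟨Q, p, s, hp, hs, hQ, -, hsr, hle⟩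
    · subst hr'; exact mul_le_mul_of_nonneg_right hle hz.le
    · have h1 := h Q s p hp hs hQ
      have h2 := mul_le_mul_of_nonneg_right hle hz.le
      rw [hsr] at h1
      linear_combination h1 + h2
  · rcases quo F s p hp hs hF with ⟨-, he, hrs⟩ | ⟨G, i, r', hi, h0, hG, -, hr', he⟩
    · subst hrs; rw [he]
    · have h1 := h G r' i hi h0 hG
      rw [hr', he] at h1
      linear_combination h1
  · rcases sub G r' i hi h0 hG with ⟨hr', hle, hiso⟩ | ⟨Q, p, s, hp, hs, hQ, hnp, hsr, hle⟩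
    · subst hr'; exact mul_lt_mul_of_pos_right (lt_of_le_of_ne hle fun he => hni (hiso he)) hz
    · have h1 := h Q s p hp hs hQ hnp
      have h2 := mul_le_mul_of_nonneg_right hle hz.le
      rw [hsr] at h1
      linear_combination h1 + h2
  · rcases quo F s p hp hs hF with ⟨hiso, -, -⟩ | ⟨G, i, r', hi, h0, hG, hni, hr', he⟩
    · exact absurd hiso hnp
    · have h1 := h G r' i hi h0 hG hni
      rw [hr', he] at h1
      linear_combination h1

include hreg hd in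
theorem deg_bounded {r : ℕ} {E : X.Modules} (hE : FlatMod.IsFinLocFreeOfRank r E) :
    ∃ N : ℤ, ∀ (F : X.Modules) (r' : ℕ) (i : F ⟶ E), Mono i → FlatMod.IsFinLocFreeOfRank r' F →
      Curv2.deg k X F r' ≤ N := by
  obtain ⟨N, hN⟩ := exists_dg_bound k hd (isCoh_of_rank hE)
  exact ⟨N, fun F r' i hi hF => dg_eq k hF ▸ hN F i hi (isCoh_of_rank hF)⟩

include hreg hd in
/-- Slopes in a direct sum. -/
theorem slope_biprod_le {r₁ r₂ : ℕ} {E₁ E₂ : X.Modules} (hE₁ : FlatMod.IsFinLocFreeOfRank r₁ E₁)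
    (hE₂ : FlatMod.IsFinLocFreeOfRank r₂ E₂) (m₁ m₂ : ℚ)
    (h₁ : ∀ (G : X.Modules) (r' : ℕ) (i : G ⟶ E₁), Mono i → 0 < r' → FlatMod.IsFinLocFreeOfRank r' G →
      (Curv2.deg k X G r' : ℚ) / r' ≤ m₁)
    (h₂ : ∀ (G : X.Modules) (r' : ℕ) (i : G ⟶ E₂), Mono i → 0 < r' → FlatMod.IsFinLocFreeOfRank r' G →
      (Curv2.deg k X G r' : ℚ) / r' ≤ m₂)
    {F : X.Modules} {r' : ℕ} (i : F ⟶ E₁ ⊞ E₂) (hi : Mono i) (hr' : 0 < r')
    (hF : FlatMod.IsFinLocFreeOfRank r' F) : (Curv2.deg k X F r' : ℚ) / r' ≤ max m₁ m₂ := by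
  have hS : (ShortComplex.mk (biprod.inl : E₁ ⟶ E₁ ⊞ E₂) biprod.snd biprod.inl_snd).ShortExact :=
    ShortComplex.Splitting.shortExact
      { r := biprod.fst
        s := biprod.inr }
  haveI := hi
  obtain ⟨K, I, a, b, ha, hb, hK, hI, e1, e2⟩ := split_sub k hd hS i (isCoh_of_rank hF) (isCoh_of_rank hE₂)
  have aux : ∀ {E G : X.Modules} {r : ℕ}, FlatMod.IsFinLocFreeOfRank r E → ∀ (j : G ⟶ E), Mono j → Coh.IsCoh G →
      ∀ m : ℚ, (∀ (G' : X.Modules) (n : ℕ) (j' : G' ⟶ E), Mono j' → 0 < n → FlatMod.IsFinLocFreeOfRank n G' →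
        (Curv2.deg k X G' n : ℚ) / n ≤ m) → (dg k G : ℚ) ≤ m * rk G := by
    intro E G r hE j hj hG m hm
    haveI := hj
    have hl := locFree_of_mono hreg hd j hG hE
    rcases Nat.eq_zero_or_pos (rk G) with h0 | h0
    · rw [h0] at hl
      rw [(zero_facts k hd (isZero_of_rank_zero hl)).2, h0]
      simp
    · have := hm G (rk G) j hj h0 hl
      rw [div_le_iff₀ (by exact_mod_cast h0), dg_eq k hl] at this
      exact this
  have h3 := aux hE₁ a ha hK m₁ h₁
  have h4 := aux hE₂ b hb hI m₂ h₂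
  rw [div_le_iff₀ (by exact_mod_cast hr'), dg_eq k hF, e2]
  rw [rk_eq hF] at e1
  rw [e1]
  push_cast
  nlinarith [mul_le_mul_of_nonneg_right (le_max_left m₁ m₂) (Nat.cast_nonneg (α := ℚ) (rk K)),
    mul_le_mul_of_nonneg_right (le_max_right m₁ m₂) (Nat.cast_nonneg (α := ℚ) (rk I))]

include hreg hd in
/-- Stable bundles are indecomposable. -/
theorem indecomposable_of_stable {r : ℕ} (hr : 0 < r) {E : X.Modules} (hE : FlatMod.IsFinLocFreeOfRank r E)
    (hst : ModFun.IsSlopeStable k X E r) :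
    ¬ IsZero E ∧ ∀ (E₁ E₂ : X.Modules), Nonempty (E ≅ E₁ ⊞ E₂) → IsZero E₁ ∨ IsZero E₂ := by
  refine ⟨not_isZero_of_rank hr hE, fun E₁ E₂ ⟨e⟩ => ?_⟩
  by_cases hp : e.hom ≫ biprod.fst ≫ biprod.inl ≫ e.inv = 0
  · refine Or.inl ((IsZero.iff_id_eq_zero _).2 ?_)
    have := congrArg (fun f => biprod.inl ≫ e.inv ≫ f ≫ e.hom ≫ biprod.fst) hp
    simpa using this
  · haveI := isIso_endo_of_stable k hreg hd hE hst _ hp
    refine Or.inr ((IsZero.iff_id_eq_zero _).2 ?_)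
    have h1 : biprod.inr ≫ e.inv ≫ (e.hom ≫ biprod.fst ≫ biprod.inl ≫ e.inv) = 0 := by simp
    rw [← Category.assoc] at h1
    have h2 := congrArg (fun f => f ≫ e.hom ≫ biprod.snd) (zero_of_comp_mono _ h1)
    simpa using h2

include hreg hd in
/-- No maps from the quotient of a stable bundle to its kernel. -/
theorem hom_quotient_to_sub {T : ShortComplex X.Modules} (hT : T.ShortExact) {r : ℕ} (hr : 0 < r)
    (hE : FlatMod.IsFinLocFreeOfRank r T.X₂) (hst : ModFun.IsSlopeStable k X T.X₂ r) (φ : T.X₃ ⟶ T.X₁) :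
    φ = 0 := by
  haveI := hT.mono_f
  haveI := hT.epi_g
  by_cases h : T.g ≫ φ ≫ T.f = 0
  · exact zero_of_comp_mono _ (zero_of_epi_comp _ h)
  · haveI := isIso_endo_of_stable k hreg hd hE hst _ h
    have h0 : T.f = 0 := by
      refine zero_of_comp_mono (T.g ≫ φ ≫ T.f) ?_
      rw [← Category.assoc, T.zero, zero_comp]
    rw [h0, comp_zero, comp_zero] at h
    exact absurd rfl h

include hreg hd in
/-- Semistable bundles of a fixed slope form an abelian category. -/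
theorem kernel_cokernel_ss {r s : ℕ} (hr : 0 < r) (hs : 0 < s) {E F : X.Modules}
    (hE : FlatMod.IsFinLocFreeOfRank r E) (hF : FlatMod.IsFinLocFreeOfRank s F)
    (hEss : ModFun.IsSlopeSemistable k X E r) (hFss : ModFun.IsSlopeSemistable k X F s)
    (hμ : Curv2.deg k X E r * (s : ℤ) = Curv2.deg k X F s * (r : ℤ)) (f : E ⟶ F) :
    (∃ r₀ : ℕ, FlatMod.IsFinLocFreeOfRank r₀ (kernel f) ∧
        Curv2.deg k X (kernel f) r₀ * (r : ℤ) = Curv2.deg k X E r * (r₀ : ℤ) ∧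
        ∀ (G : X.Modules) (n : ℕ) (j : G ⟶ kernel f), Mono j → 0 < n → FlatMod.IsFinLocFreeOfRank n G →
          Curv2.deg k X G n * (r₀ : ℤ) ≤ Curv2.deg k X (kernel f) r₀ * (n : ℤ)) ∧
      (∃ s₀ : ℕ, FlatMod.IsFinLocFreeOfRank s₀ (cokernel f) ∧
        Curv2.deg k X (cokernel f) s₀ * (s : ℤ) = Curv2.deg k X F s * (s₀ : ℤ) ∧
        ∀ (G : X.Modules) (n : ℕ) (j : G ⟶ cokernel f), Mono j → 0 < n → FlatMod.IsFinLocFreeOfRank n G →
          Curv2.deg k X G n * (s₀ : ℤ) ≤ Curv2.deg k X (cokernel f) s₀ * (n : ℤ)) := by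
  have hcE := isCoh_of_rank hE
  have hcF := isCoh_of_rank hF
  have hbE := bd_of_ss k hreg hd hE hEss
  have hbF := bd_of_ss k hreg hd hF hFss
  have hz : (0 : ℤ) < r := by exact_mod_cast hr
  have hzs : (0 : ℤ) < s := by exact_mod_cast hs
  rw [dg_eq k hE, dg_eq k hF] at hμ
  obtain ⟨h1, h2⟩ := add_image k hd f hcE hcF
  obtain ⟨h3, h4⟩ := add_cokernel k hd (Abelian.image.ι f) (coh_image hcE hcF f) hcF
  have hK := hbE _ (kernel.ι f) inferInstance (coh_kernel hcE hcF f)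
  have hI := hbF _ (Abelian.image.ι f) inferInstance (coh_image hcE hcF f)
  rw [rk_eq hE] at h1
  rw [rk_eq hF] at h3
  have hI' : dg k (Abelian.image f) * (r : ℤ) ≤ dg k E * (rk (Abelian.image f) : ℤ) := by
    refine le_of_mul_le_mul_right ?_ hzs
    have := mul_le_mul_of_nonneg_right hI hz.le
    linear_combination this - (rk (Abelian.image f) : ℤ) * hμ
  have h1' : (r : ℤ) = rk (kernel f) + rk (Abelian.image f) := by exact_mod_cast h1
  have hKeq : dg k (kernel f) * (r : ℤ) = dg k E * (rk (kernel f) : ℤ) := by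
    refine le_antisymm hK ?_
    rw [h2] at hI' ⊢
    linear_combination hI' - (dg k (kernel f) + dg k (Abelian.image f)) * h1'
  have hIeq : dg k (Abelian.image f) * (s : ℤ) = dg k F * (rk (Abelian.image f) : ℤ) := by
    refine mul_right_cancel₀ hz.ne' ?_
    linear_combination (-(s : ℤ)) * hKeq - ((r : ℤ) * s) * h2 + (rk (Abelian.image f) : ℤ) * hμ + (dg k E * s) * h1'
  refine ⟨⟨rk (kernel f), locFree_of_mono hreg hd (kernel.ι f) (coh_kernel hcE hcF f) hE, ?_, ?_⟩, ?_⟩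
  · rw [dg_eq k hE, dg_eq k (locFree_of_mono hreg hd (kernel.ι f) (coh_kernel hcE hcF f) hE)]
    exact hKeq
  · intro G n j hj hn hG
    rw [dg_eq k hG, dg_eq k (locFree_of_mono hreg hd (kernel.ι f) (coh_kernel hcE hcF f) hE)]
    have h5 := hbE G (j ≫ kernel.ι f) (mono_comp j _) (isCoh_of_rank hG)
    rw [rk_eq hG] at h5
    refine le_of_mul_le_mul_right ?_ hz
    have h6 := mul_le_mul_of_nonneg_right h5 (Int.natCast_nonneg (rk (kernel f)))
    linear_combination h6 - (n : ℤ) * hKeq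
  -- the cokernel
  have hcC := coh_cokernel (coh_image hcE hcF f) hcF (Abelian.image.ι f)
  let e : cokernel (Abelian.image.ι f) ≅ cokernel f :=
    (cokernelEpiComp (Abelian.factorThruImage f) (Abelian.image.ι f)).symm ≪≫ cokernelIsoOfEq (Abelian.image.fac f)
  rw [rk_iso e] at h3
  rw [dg_iso k e] at h4
  have hcC' := coh_cokernel hcE hcF f
  have h3' : (s : ℤ) = rk (Abelian.image f) + rk (cokernel f) := by exact_mod_cast h3
  have hCeq : dg k (cokernel f) * (s : ℤ) = dg k F * (rk (cokernel f) : ℤ) := by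
    linear_combination (-(s : ℤ)) * h4 - hIeq + dg k F * h3'
  obtain ⟨Q, p, hp, hKp, hKp0, hQ⟩ := exists_locFree_quotient hreg hd hcC'
  haveI := hp
  haveI : Epi (cokernel.π f ≫ p) := epi_comp _ _
  obtain ⟨h7, h8⟩ := add_kernel k hd (cokernel.π f ≫ p) hcF (isCoh_of_rank hQ)
  have h9 := hbF _ (kernel.ι (cokernel.π f ≫ p)) inferInstance (coh_kernel hcF (isCoh_of_rank hQ) _)
  rw [rk_eq hF, rk_eq hQ] at h7
  have h7' : (s : ℤ) = rk (kernel (cokernel.π f ≫ p)) + rk (cokernel f) := by exact_mod_cast h7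
  obtain ⟨h10, h11⟩ := dg_quotient_le hd k p hcC' (isCoh_of_rank hQ) hKp hKp0
  have hge : dg k (cokernel f) ≤ dg k Q := by
    refine le_of_mul_le_mul_right ?_ hzs
    linear_combination h9 + hCeq - dg k F * h7' + (s : ℤ) * h8
  haveI := h11 (le_antisymm h10 hge)
  have hC := locFree_of_mono hreg hd p hcC' hQ
  refine ⟨rk (cokernel f), hC, ?_, ?_⟩
  · rw [dg_eq k hC, dg_eq k hF]; exact hCeq
  · intro G n j hj hn hG
    rw [dg_eq k hG, dg_eq k hC]
    obtain ⟨P, i, hi, hP, e1, e2⟩ := exists_preimage k hd (cokernel.π f) j hcF hcC' (isCoh_of_rank hG)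
    have h12 := hbF P i hi hP
    rw [rk_eq hF, rk_eq hG] at e1
    have e1' : (rk P : ℤ) + rk (cokernel f) = s + n := by exact_mod_cast e1
    refine le_of_mul_le_mul_right ?_ hzs
    have h13 : dg k G * (s : ℤ) ≤ dg k F * (n : ℤ) := by
      linear_combination h12 - (s : ℤ) * e2 + hCeq + dg k F * e1'
    have h14 := mul_le_mul_of_nonneg_right h13 (Int.natCast_nonneg (rk (cokernel f)))
    linear_combination h14 - (n : ℤ) * hCeq

include hreg hd in
/-- The maximal destabilising subbundle. -/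
theorem exists_maxSlope {r : ℕ} (hr : 0 < r) {E : X.Modules} (hE : FlatMod.IsFinLocFreeOfRank r E) :
    ∃ (E₁ : X.Modules) (r₁ : ℕ) (i₁ : E₁ ⟶ E), Mono i₁ ∧ 0 < r₁ ∧ FlatMod.IsFinLocFreeOfRank r₁ E₁ ∧
      (∀ (G : X.Modules) (r' : ℕ) (j : G ⟶ E), Mono j → 0 < r' → FlatMod.IsFinLocFreeOfRank r' G →
        Curv2.deg k X G r' * (r₁ : ℤ) ≤ Curv2.deg k X E₁ r₁ * (r' : ℤ)) ∧
      (∀ (G : X.Modules) (r' : ℕ) (j : G ⟶ E), Mono j → 0 < r' → FlatMod.IsFinLocFreeOfRank r' G →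
        Curv2.deg k X G r' * (r₁ : ℤ) = Curv2.deg k X E₁ r₁ * (r' : ℤ) → r' ≤ r₁) ∧
      (∀ (G : X.Modules) (r' : ℕ) (i : G ⟶ E₁), Mono i → 0 < r' → FlatMod.IsFinLocFreeOfRank r' G →
      Curv2.deg k X G r' * (r₁ : ℤ) ≤ Curv2.deg k X E₁ r₁ * (r' : ℤ)) ∧
      (∀ (Q : X.Modules) (s : ℕ) (j : Q ⟶ cokernel i₁), Mono j → 0 < s → FlatMod.IsFinLocFreeOfRank s Q →
        Curv2.deg k X Q s * (r₁ : ℤ) < Curv2.deg k X E₁ r₁ * (s : ℤ)) := by
  obtain ⟨E₁, i₁, hi₁, hE₁, hpos, hb, hmax⟩ := exists_max_slope k hreg hd hr hE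
  haveI := hi₁
  have hl := locFree_of_mono hreg hd i₁ hE₁ hE
  have hcE := isCoh_of_rank hE
  refine ⟨E₁, rk E₁, i₁, hi₁, hpos, hl, ?_, ?_, ?_, ?_⟩
  · intro G r' j hj _ hG
    rw [dg_eq k hl]
    exact of_bd k hb j hj hG
  · intro G r' j hj h0 hG he
    rw [dg_eq k hl, dg_eq k hG] at he
    have := hmax G j hj (isCoh_of_rank hG) (by rw [rk_eq hG]; exact h0) (by rw [rk_eq hG]; exact he)
    rwa [rk_eq hG] at this
  · intro G r' j hj _ hG
    rw [dg_eq k hl]
    exact of_bd k hb (j ≫ i₁) (mono_comp j i₁) hG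
  · intro Q s j hj hs hQ
    rw [dg_eq k hl, dg_eq k hQ]
    obtain ⟨P, i, hi, hP, e1, e2⟩ := exists_preimage k hd (cokernel.π i₁) j hcE (coh_cokernel hE₁ hcE i₁) (isCoh_of_rank hQ)
    obtain ⟨e3, e4⟩ := add_cokernel k hd i₁ hE₁ hcE
    rw [rk_eq hQ] at e1
    have hrP : rk P = rk E₁ + s := by omega
    have hdP : dg k P = dg k E₁ + dg k Q := by omega
    have h5 := hb P i hi hP
    refine lt_of_le_of_ne ?_ fun he => ?_
    · rw [hrP, hdP] at h5
      push_cast at h5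
      linear_combination h5
    · have := hmax P i hi hP (by omega) (by rw [hrP, hdP]; push_cast; linear_combination he)
      omega

include hreg hd in
/-- Uniqueness of the maximal destabilising subbundle. -/
theorem exists_factor_maxSlope {r : ℕ} {E : X.Modules} (hE : FlatMod.IsFinLocFreeOfRank r E)
    {E₁ E₁' : X.Modules} {r₁ r₁' : ℕ} (i₁ : E₁ ⟶ E) (i₁' : E₁' ⟶ E) [Mono i₁] [Mono i₁']
    (hp : 0 < r₁) (hp' : 0 < r₁') (h₁ : FlatMod.IsFinLocFreeOfRank r₁ E₁) (h₁' : FlatMod.IsFinLocFreeOfRank r₁' E₁')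
    (hm : Bd k E (dg k E₁) r₁) (hm' : Bd k E (dg k E₁') r₁')
    (hq : ∀ (Q : X.Modules) (s : ℕ) (j : Q ⟶ cokernel i₁'), Mono j → 0 < s → FlatMod.IsFinLocFreeOfRank s Q →
      Curv2.deg k X Q s * (r₁' : ℤ) < Curv2.deg k X E₁' r₁' * (s : ℤ)) :
    ∃ t : E₁ ⟶ E₁', t ≫ i₁' = i₁ := by
  have hcE := isCoh_of_rank hE
  have hz : (0 : ℤ) < r₁ := by exact_mod_cast hp
  have hz' : (0 : ℤ) < r₁' := by exact_mod_cast hp'
  have he : dg k E₁' * (r₁ : ℤ) = dg k E₁ * (r₁' : ℤ) := by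
    refine le_antisymm ?_ ?_
    · have := hm E₁' i₁' inferInstance (isCoh_of_rank h₁')
      rwa [rk_eq h₁'] at this
    · have := hm' E₁ i₁ inferInstance (isCoh_of_rank h₁)
      rwa [rk_eq h₁] at this
  have hC := locFree_cokernel_of_max k hreg hd hcE i₁' (isCoh_of_rank h₁') (by rw [rk_eq h₁']; exact hp')
    (by rw [rk_eq h₁']; exact hm')
  have hsb : SBd k (cokernel i₁') (dg k E₁) r₁ := sbd_of k hreg hd hC fun Q s j hj hs hQ => by
    have h2 := mul_lt_mul_of_pos_right (hq Q s j hj hs hQ) hz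
    rw [dg_eq k hQ, dg_eq k h₁'] at h2
    rw [dg_eq k hQ]
    refine lt_of_mul_lt_mul_right ?_ hz'.le
    linear_combination h2 + (s : ℤ) * he
  have hss : Bd k E₁ (dg k E₁) r₁ := fun G j hj hG => hm G (j ≫ i₁) (mono_comp j i₁) hG
  have h0 := hom_eq_zero_of_sbd k hreg hd h₁ hC hss hsb (i₁ ≫ cokernel.π i₁')
  exact ⟨Abelian.monoLift i₁' i₁ h0, Abelian.monoLift_comp i₁' i₁ h0⟩

omit [IsIntegral X] [IsLocallyNoetherian X] [X.Over (Spec (CommRingCat.of k))] [IsProper (X ↘ Spec (CommRingCat.of k))] in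
theorem exists_iso_of_factor {E A B : X.Modules} (i : A ⟶ E) (j : B ⟶ E) [Mono i] [Mono j]
    (h : ∃ t : A ⟶ B, t ≫ j = i) (h' : ∃ t : B ⟶ A, t ≫ i = j) : ∃ e : A ≅ B, e.hom ≫ j = i := by
  obtain ⟨t, ht⟩ := h
  obtain ⟨t', ht'⟩ := h'
  exact ⟨⟨t, t', (cancel_mono i).1 (by rw [Category.assoc, ht', ht, Category.id_comp]),
    (cancel_mono j).1 (by rw [Category.assoc, ht, ht', Category.id_comp])⟩, ht⟩

include hreg hd in
/-- Invertible subbundles of an extension of line bundles. -/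
theorem sub_line_extension {S : ShortComplex X.Modules} (hS : S.ShortExact)
    (hL : PicF.IsInvertible S.X₁) (hM : PicF.IsInvertible S.X₃)
    {N : X.Modules} (hN : PicF.IsInvertible N) (j : N ⟶ S.X₂) [Mono j] (hq : PicF.IsInvertible (cokernel j)) :
    (∃ φ : N ≅ S.X₁, φ.hom ≫ S.f = j) ∨ Curv2.deg k X N 1 ≤ Curv2.deg k X S.X₃ 1 := by
  haveI := hS.mono_f
  have hN' := locFree_one hN
  have hL' := locFree_one hL
  have hM' := locFree_one hM
  by_cases h : j ≫ S.g = 0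
  · left
    refine exists_iso_of_factor j S.f ⟨hS.exact.lift j h, hS.exact.lift_f _ _⟩ ?_
    haveI : Mono (hS.exact.lift j h ≫ S.f) := by rw [hS.exact.lift_f]; infer_instance
    haveI := mono_of_mono (hS.exact.lift j h) S.f
    have h0 := eq_zero_of_comp_eq_zero hreg hd (locFree_one hq) (isCoh_of_rank hN') (isCoh_of_rank hL')
      (hS.exact.lift j h) (by rw [rk_eq hN', rk_eq hL']) (S.f ≫ cokernel.π j)
      (by rw [← Category.assoc, hS.exact.lift_f, cokernel.condition])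
    exact ⟨Abelian.monoLift j S.f h0, Abelian.monoLift_comp j S.f h0⟩
  · right
    obtain ⟨a, b, K, I, i, l, hi, hl, hK, hI, hr, hb, hbs, hdeg, hK0, hle, -⟩ :=
      hom_facts k hreg hd hN' hM' (f := j ≫ S.g) h
    have ha : a = 0 := by omega
    have hb1 : b = 1 := by omega
    rw [hdeg, hK0 ha, zero_add]
    exact hle hb1

include hreg hd in
/-- Destabilising line subbundles of rank two bundles are unique. -/
theorem destabilising_unique {E : X.Modules} (hE : FlatMod.IsFinLocFreeOfRank 2 E) {M M' : X.Modules}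
    (hM : PicF.IsInvertible M) (hM' : PicF.IsInvertible M') (i : M ⟶ E) (i' : M' ⟶ E) [Mono i] [Mono i']
    (hq : PicF.IsInvertible (cokernel i)) (hq' : PicF.IsInvertible (cokernel i'))
    (hd₁ : Curv2.deg k X E 2 < 2 * Curv2.deg k X M 1) (hd₂ : Curv2.deg k X E 2 < 2 * Curv2.deg k X M' 1) :
    ∃ φ : M ≅ M', φ.hom ≫ i' = i := by
  have hS' : (ShortComplex.mk i' (cokernel.π i') (cokernel.condition i')).ShortExact := shortExact_cokernel i'
  rcases sub_line_extension k hreg hd hS' hM' hq' hM i hq with h | h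
  · exact h
  · exfalso
    have h2 := (add_cokernel k hd i' (isCoh_of_rank (locFree_one hM')) (isCoh_of_rank hE)).2
    simp only at h
    rw [dg_eq k (locFree_one hM), dg_eq k (locFree_one hq')] at h
    rw [dg_eq k (locFree_one hM), dg_eq k hE] at hd₁
    rw [dg_eq k (locFree_one hM'), dg_eq k hE] at hd₂
    omega

end Groth.L21.Bundle
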