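import Groth.Agent.L21.Bundle.Sub
import Groth.Agent.L21.Smooth.Scheme
import Groth.Agent.L21.Curve.NormalTotal
import Groth.Agent.L03.ShStab.Scalar
import Groth.Prelude.Def_ModFun2

/-!
Homomorphisms of semistable and stable vector bundles on regular curves.
-/

set_option autoImplicit false
set_option backward.isDefEq.respectTransparency false
set_option linter.style.haveILetI false
universe u

open CategoryTheory CategoryTheory.Limits AlgebraicGeometry

noncomputable section

namespace Groth.L21.Bundle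

variable {X : Scheme.{u}} [IsIntegral X] [IsLocallyNoetherian X]
  (k : Type u) [Field k] [X.Over (Spec (CommRingCat.of k))] [IsProper (X ↘ Spec (CommRingCat.of k))]

theorem dg_eq_zero_of_isZero (hd : topologicalKrullDim X ≤ 1) {M : X.Modules} (h : IsZero M) : dg k M = 0 := by
  haveI := Groth.L21.RR.isNoetherian_of_proper (X := X) k
  have hs : Groth.L21.RR.SuppClosed M := fun x _ => (Groth.L21.Mod.isZero_iff_stalk_subsingleton M).1 h x
  have hr : rk M = 0 := by
    haveI := (Groth.L21.Mod.isZero_iff_stalk_subsingleton M).1 h (genericPoint X)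
    exact Module.finrank_zero_of_subsingleton
  haveI : Subsingleton (Coh.HH X M 0) := by
    haveI : Subsingleton Γ(M, ⊤) := by
      refine ⟨fun a b => ?_⟩
      refine TopCat.Presheaf.section_ext ((Groth.L21.Mod.toAbSh X).obj M) ⊤ a b fun x hx => ?_
      exact ((Groth.L21.Mod.isZero_iff_stalk_subsingleton M).1 h x).elim _ _
    exact (Groth.L21.RR.e0 M).toEquiv.subsingleton
  rw [dg, Curv2.deg, hr, Groth.L21.RR.euler_eq_h0_of_suppClosed k hs,
    show Groth.L21.RR.h k 0 M = 0 from Module.finrank_zero_of_subsingleton]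
  simp

attribute [local irreducible] dg rk

variable (hreg : ∀ x : X, IsRegularLocalRing (X.presheaf.stalk x)) (hd : topologicalKrullDim X ≤ 1)

include hreg hd in
/-- Kernel and image of a nonzero homomorphism of bundles. -/
theorem hom_facts {r s : ℕ} {E F : X.Modules} (hE : FlatMod.IsFinLocFreeOfRank r E)
    (hF : FlatMod.IsFinLocFreeOfRank s F) {f : E ⟶ F} (hf : f ≠ 0) :
    ∃ (a b : ℕ) (K I : X.Modules) (i : K ⟶ E) (j : I ⟶ F), Mono i ∧ Mono j ∧
      FlatMod.IsFinLocFreeOfRank a K ∧ FlatMod.IsFinLocFreeOfRank b I ∧ r = a + b ∧ 0 < b ∧ b ≤ s ∧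
      Curv2.deg k X E r = Curv2.deg k X K a + Curv2.deg k X I b ∧
      (a = 0 → Curv2.deg k X K a = 0) ∧
      (b = s → Curv2.deg k X I b ≤ Curv2.deg k X F s) ∧
      (a = 0 → b = s → Curv2.deg k X I b = Curv2.deg k X F s → IsIso f) := by
  have hcE := isCoh_of_rank hE
  have hcF := isCoh_of_rank hF
  haveI : Coh.IsQCoh F := hcF.1
  have hcK : Coh.IsCoh (kernel f) := (Groth.L16.CohKernel.isCoh_kernel_cokernel hcE hcF f).1
  have hcI : Coh.IsCoh (Abelian.image f) := Groth.L16.CohSupport.isCoh_image hcE f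
  have hK := locFree_of_mono hreg hd (kernel.ι f) hcK hE
  have hI := locFree_of_mono hreg hd (Abelian.image.ι f) hcI hF
  let S := ShortComplex.mk (kernel.ι f) (Abelian.factorThruImage f)
    (by rw [← cancel_mono (Abelian.image.ι f), Category.assoc, Abelian.image.fac, kernel.condition, zero_comp])
  haveI : Mono S.f := inferInstanceAs (Mono (kernel.ι f))
  haveI : Epi S.g := inferInstanceAs (Epi (Abelian.factorThruImage f))
  have hS : S.ShortExact := ⟨ShortComplex.exact_of_f_is_kernel _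
    (KernelFork.IsLimit.ofι _ _
      (fun {W} g hg => kernel.lift f g (by rw [← Abelian.image.fac f, ← Category.assoc, hg, zero_comp]))
      (fun {W} g hg => kernel.lift_ι _ _ _)
      (fun {W} g hg m hm => (cancel_mono (kernel.ι f)).1 (hm.trans (kernel.lift_ι _ _ _).symm)))⟩
  have hr : r = rk (kernel f) + rk (Abelian.image f) := (rk_eq hE).symm.trans (rk_add hS hcE)
  have hdeg : dg k E = dg k (kernel f) + dg k (Abelian.image f) := dg_add hd k hS hcK hcE hcI
  have hzero : ∀ {M : X.Modules}, FlatMod.IsFinLocFreeOfRank 0 M → IsZero M := fun {M} hM => by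
    rw [Groth.L21.Mod.isZero_iff_stalk_subsingleton]
    intro x
    obtain ⟨θ⟩ := Groth.L22.CurveDeg.nonempty_stalk_equiv hM x
    exact θ.symm.toEquiv.subsingleton
  have hpos : 0 < rk (Abelian.image f) := by
    refine Nat.pos_of_ne_zero fun h0 => hf ?_
    have hz := hzero (h0 ▸ hI)
    rw [← Abelian.image.fac f, hz.eq_of_src (Abelian.image.ι f) 0, comp_zero]
  refine ⟨_, _, kernel f, Abelian.image f, kernel.ι f, Abelian.image.ι f, inferInstance, inferInstance, hK, hI, hr,
    hpos, (rk_le_of_mono (Abelian.image.ι f) hcI hcF).trans_eq (rk_eq hF), ?_, ?_, ?_, ?_⟩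
  · rw [dg_eq k hE, dg_eq k hK, dg_eq k hI]; exact hdeg
  · intro ha
    rw [dg_eq k hK]
    exact dg_eq_zero_of_isZero k hd (hzero (ha ▸ hK))
  · intro hb
    rw [dg_eq k hI, dg_eq k hF]
    exact (dg_le_of_mono hd k (Abelian.image.ι f) hcI hcF (hb.trans (rk_eq hF).symm)).1
  · intro ha hb hdd
    rw [dg_eq k hI, dg_eq k hF] at hdd
    haveI := (dg_le_of_mono hd k (Abelian.image.ι f) hcI hcF (hb.trans (rk_eq hF).symm)).2 hdd
    haveI : Mono f := Preadditive.mono_of_isZero_kernel f (hzero (ha ▸ hK))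
    haveI : Epi f := by rw [← Abelian.image.fac f]; infer_instance
    exact isIso_of_mono_of_epi f

include hreg hd in
/-- No homomorphisms to smaller slope. -/
theorem hom_eq_zero {r s : ℕ} {E F : X.Modules} (hE : FlatMod.IsFinLocFreeOfRank r E)
    (hF : FlatMod.IsFinLocFreeOfRank s F) (hEss : ModFun.IsSlopeSemistable k X E r)
    (hFss : ModFun.IsSlopeSemistable k X F s)
    (hslope : Curv2.deg k X F s * (r : ℤ) < Curv2.deg k X E r * (s : ℤ)) (f : E ⟶ F) : f = 0 := by
  by_contra hf
  obtain ⟨a, b, K, I, i, j, hi, hj, hK, hI, hr, hb, hbs, hdeg, hK0, -, -⟩ := hom_facts k hreg hd hE hF hf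
  have h1 := hFss I b j hj hb hI
  have h2 : Curv2.deg k X K a * (r : ℤ) ≤ Curv2.deg k X E r * (a : ℤ) := by
    rcases Nat.eq_zero_or_pos a with ha | ha
    · rw [hK0 ha, ha]; simp
    · exact hEss K a i hi ha hK
  have hrz : (r : ℤ) = a + b := by exact_mod_cast hr
  have hbz : (0 : ℤ) < b := by exact_mod_cast hb
  have hr0 : (0 : ℤ) ≤ r := Int.natCast_nonneg r
  have hs0 : (0 : ℤ) ≤ s := Int.natCast_nonneg s
  have h3 : Curv2.deg k X E r * (b : ℤ) ≤ Curv2.deg k X I b * r := by
    nlinarith only [h2, congrArg (fun z : ℤ => z * (r : ℤ)) hdeg, congrArg (fun z : ℤ => Curv2.deg k X E r * z) hrz]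
  have h4 := mul_le_mul_of_nonneg_right h3 hs0
  have h5 := mul_le_mul_of_nonneg_right h1 hr0
  nlinarith [mul_lt_mul_of_pos_right hslope hbz]

include hreg hd in
/-- Nonzero homomorphisms between semistable bundles of equal slope, one of them stable. -/
theorem isIso_of_eq_slope {r s : ℕ} {E F : X.Modules} (hE : FlatMod.IsFinLocFreeOfRank r E)
    (hF : FlatMod.IsFinLocFreeOfRank s F) (hEss : ModFun.IsSlopeSemistable k X E r)
    (hFss : ModFun.IsSlopeSemistable k X F s)
    (hμ : Curv2.deg k X E r * (s : ℤ) = Curv2.deg k X F s * (r : ℤ))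
    (hst : r = s ∧ (ModFun.IsSlopeStable k X E r ∨ ModFun.IsSlopeStable k X F s) ∨
      ModFun.IsSlopeStable k X E r ∧ ModFun.IsSlopeStable k X F s)
    (f : E ⟶ F) (hf : f ≠ 0) : IsIso f := by
  obtain ⟨a, b, K, I, i, j, hi, hj, hK, hI, hr, hb, hbs, hdeg, hK0, -, hiso⟩ := hom_facts k hreg hd hE hF hf
  have h1 := hFss I b j hj hb hI
  have h2 : Curv2.deg k X K a * (r : ℤ) ≤ Curv2.deg k X E r * (a : ℤ) := by
    rcases Nat.eq_zero_or_pos a with ha | ha
    · rw [hK0 ha, ha]; simp
    · exact hEss K a i hi ha hK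
  have hrz : (r : ℤ) = a + b := by exact_mod_cast hr
  have hbz : (0 : ℤ) < b := by exact_mod_cast hb
  have hr0 : (0 : ℤ) < r := by omega
  have hs0 : (0 : ℤ) < s := by omega
  have hstE : ModFun.IsSlopeStable k X E r → a = 0 := fun h => by
    by_contra ha
    have h2' := h K a i hi (Nat.pos_of_ne_zero ha) (by omega) hK
    have h3 : Curv2.deg k X E r * (b : ℤ) < Curv2.deg k X I b * r := by
      nlinarith only [h2, h2', congrArg (fun z : ℤ => z * (r : ℤ)) hdeg, congrArg (fun z : ℤ => Curv2.deg k X E r * z) hrz]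
    have h4 := mul_lt_mul_of_pos_right h3 hs0
    have h5 := mul_le_mul_of_nonneg_right h1 hr0.le
    nlinarith [congrArg (fun z : ℤ => z * b) hμ]
  have hstF : ModFun.IsSlopeStable k X F s → b = s := fun h => by
    by_contra hb'
    have h1' := h I b j hj hb (by omega) hI
    have h3 : Curv2.deg k X E r * (b : ℤ) ≤ Curv2.deg k X I b * r := by
      nlinarith only [h2, congrArg (fun z : ℤ => z * (r : ℤ)) hdeg, congrArg (fun z : ℤ => Curv2.deg k X E r * z) hrz]
    have h4 := mul_le_mul_of_nonneg_right h3 hs0.le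
    have h5 := mul_lt_mul_of_pos_right h1' hr0
    nlinarith [congrArg (fun z : ℤ => z * b) hμ]
  have hab : a = 0 ∧ b = s := by
    rcases hst with ⟨hrs, h | h⟩ | ⟨h, h'⟩
    · have := hstE h; omega
    · have := hstF h; omega
    · exact ⟨hstE h, hstF h'⟩
  refine hiso hab.1 hab.2 ?_
  rw [hK0 hab.1, zero_add] at hdeg
  rw [← hdeg]
  have hrs : (r : ℤ) = s := by omega
  rw [hrs] at hμ
  exact mul_right_cancel₀ (ne_of_gt hs0) hμ

include hreg hd in
/-- Stable implies semistable. -/
theorem isSlopeSemistable_of_stable {r : ℕ} {E : X.Modules} (hE : FlatMod.IsFinLocFreeOfRank r E)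
    (h : ModFun.IsSlopeStable k X E r) : ModFun.IsSlopeSemistable k X E r := by
  intro G r' i hi hr' hG
  haveI := hi
  have hle : r' ≤ r := by
    rw [← rk_eq hG, ← rk_eq hE]
    exact rk_le_of_mono i (isCoh_of_rank hG) (isCoh_of_rank hE)
  rcases lt_or_eq_of_le hle with hlt | heq
  · exact (h G r' i hi hr' hlt hG).le
  · subst heq
    rw [dg_eq k hG, dg_eq k hE]
    exact mul_le_mul_of_nonneg_right
      (dg_le_of_mono hd k i (isCoh_of_rank hG) (isCoh_of_rank hE) ((rk_eq hG).trans (rk_eq hE).symm)).1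
      (Int.natCast_nonneg _)

include hreg hd in
theorem isIso_endo_of_stable {r : ℕ} {E : X.Modules} (hE : FlatMod.IsFinLocFreeOfRank r E)
    (h : ModFun.IsSlopeStable k X E r) (f : E ⟶ E) (hf : f ≠ 0) : IsIso f :=
  have hss := isSlopeSemistable_of_stable k hreg hd hE h
  isIso_of_eq_slope k hreg hd hE hE hss hss rfl (Or.inl ⟨rfl, Or.inl h⟩) f hf

omit [IsIntegral X] [IsLocallyNoetherian X] [IsProper (X ↘ Spec (CommRingCat.of k))] [X.Over (Spec (CommRingCat.of k))] in
theorem toSheaf_sc (E : X.Modules) (c : Coh.Γtop X) :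
    (SheafOfModules.toSheaf X.ringCatSheaf).map (Groth.L03.ShStab.Scalar.sc E c) = Coh.smulAb E c := by
  rfl

include hreg hd in
/-- Stable bundles are simple. -/
theorem exists_scalar_of_stable [IsAlgClosed k] {r : ℕ} (hr : 0 < r) {E : X.Modules}
    (hE : FlatMod.IsFinLocFreeOfRank r E) (h : ModFun.IsSlopeStable k X E r) (φ : E ⟶ E) :
    ∃ c : k, (SheafOfModules.toSheaf X.ringCatSheaf).map φ =
      Coh.smulAb E (Coh.toGlobal (X ↘ Spec (CommRingCat.of k)) c) := by
  have h0 : ¬ IsZero E := fun hz => by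
    haveI := (Groth.L21.Mod.isZero_iff_stalk_subsingleton E).1 hz (genericPoint X)
    have := rk_eq hE
    rw [show rk E = 0 by unfold rk; exact Module.finrank_zero_of_subsingleton] at this
    omega
  obtain ⟨c, rfl⟩ := Groth.L03.ShStab.Scalar.exists_eq_sc_of_isIso (k := k) (isCoh_of_rank hE) h0
    (isIso_endo_of_stable k hreg hd hE h) φ
  exact ⟨c, toSheaf_sc E _⟩

end Groth.L21.Bundle
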