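import Groth.Agent.L21.Bundle.Duality
import Groth.Agent.L21.RR.SkyPoint
import Groth.Agent.L21.RR.GeomGenusZero
import Groth.Agent.L18.RelAmpleCrit

/-!
Vanishing of `H¹` and global generation of bundles from bounds on the degrees of their subsheaves.
-/

set_option autoImplicit false
set_option backward.isDefEq.respectTransparency false
set_option linter.style.haveILetI false
universe u

open CategoryTheory CategoryTheory.Limits AlgebraicGeometry TopologicalSpace Opposite IsLocalRing

noncomputable section

namespace Groth.L21.Bundle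

open Groth.L21.RR (h hk e0 st toPoint resMod)
open Groth.L00.Sky (sky)
open Groth.L16.CohLinear (hmap exact_hmap_delta)

variable {X : Scheme.{u}} [IsIntegral X] [IsLocallyNoetherian X] (k : Type u) [Field k]
  [X.Over (Spec (CommRingCat.of k))] [IsProper (X ↘ Spec (CommRingCat.of k))]
  [Smooth (X ↘ Spec (CommRingCat.of k))]
  (hd : topologicalKrullDim X = 1) (h0 : h k 0 (Coh.structureModule X) = 1)

attribute [local irreducible] dg rk
attribute [local instance] Curv2.resAlgebra

include hd h0 in
theorem dg_omega : dg k (omega (X := X) k) = 2 * (Curv2.genus k X : ℤ) - 2 := by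
  rw [← dg_eq k (locFree_one (Groth.L21.Duality.isInvertible_omega (X := X) (k := k) hd))]
  exact (Groth.L21.Duality.omega_invariants (k := k) hd).2.2 h0

include hd h0 in
/-- `H¹` vanishes if every corank one subsheaf has small degree. -/
theorem subsingleton_h1_of_sub_bound {r : ℕ} {E : X.Modules} (hE : FlatMod.IsFinLocFreeOfRank r E)
    (hb : ∀ (K : X.Modules) (i : K ⟶ E), Mono i → Coh.IsCoh K → rk K + 1 = r →
      dg k K + (2 * (Curv2.genus k X : ℤ) - 2) < dg k E) :
    Subsingleton (Coh.HH X E 1) := by
  by_contra hns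
  haveI := not_subsingleton_iff_nontrivial.1 hns
  obtain ⟨φ, hφ⟩ := exists_hom_omega_ne_zero k hd h0 hE
  have hreg := Groth.L21.Smooth.regular_stalk (k := k) (X ↘ Spec (CommRingCat.of k))
  have hΩ := locFree_one (Groth.L21.Duality.isInvertible_omega (X := X) (k := k) hd)
  have hcE := isCoh_of_rank hE
  have hcΩ := isCoh_of_rank hΩ
  obtain ⟨h1, h2⟩ := add_image k hd.le φ hcE hcΩ
  have hI := locFree_of_mono hreg hd.le (Abelian.image.ι φ) (coh_image hcE hcΩ φ) hΩ
  have hpos : 0 < rk (Abelian.image φ) := Nat.pos_of_ne_zero fun h0' => hφ <| by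
    rw [← Abelian.image.fac φ, (isZero_of_rank_zero (h0' ▸ hI)).eq_of_src (Abelian.image.ι φ) 0, comp_zero]
  have hle := rk_le_of_mono (Abelian.image.ι φ) (coh_image hcE hcΩ φ) hcΩ
  have hΩ1 : rk (omega (X := X) k) = 1 := rk_eq hΩ
  have hdI := (dg_le_of_mono hd.le k (Abelian.image.ι φ) (coh_image hcE hcΩ φ) hcΩ (by omega)).1
  rw [dg_omega k hd h0] at hdI
  rw [rk_eq hE] at h1
  have := hb (kernel φ) (kernel.ι φ) inferInstance (coh_kernel hcE hcΩ φ) (by omega)
  omega

omit [IsLocallyNoetherian X] [X.Over (Spec (CommRingCat.of k))] [IsProper (X ↘ Spec (CommRingCat.of k))]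
  [Smooth (X ↘ Spec (CommRingCat.of k))] in
theorem not_isClosed_generic (hd : topologicalKrullDim X = 1) : ¬ IsClosed ({genericPoint X} : Set X) := by
  intro hc
  have huniv : ∀ y : X, y = genericPoint X := fun y =>
    hc.closure_eq.le (((genericPoint_spec X).specializes trivial).mem_closure)
  haveI : Subsingleton X := ⟨fun a b => (huniv a).trans (huniv b).symm⟩
  haveI : DiscreteTopology X := Subsingleton.discreteTopology
  exact absurd (hd ▸ topologicalKrullDim_zero_of_discreteTopology X : (1 : WithBot ℕ∞) ≤ 0) (by norm_num)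

omit [IsLocallyNoetherian X] [Smooth (X ↘ Spec (CommRingCat.of k))] in
theorem finrank_residue [IsAlgClosed k] {P : X} (hP : IsClosed ({P} : Set X)) :
    Module.finrank k (X.residueField P) = 1 := by
  letI := Curv2.resAlgebra k X P
  haveI := Groth.L21.Disc.finite_residueField_of_isClosed k hP
  haveI : Algebra.IsIntegral k (X.residueField P) := inferInstance
  have hb := IsAlgClosed.algebraMap_bijective_of_isIntegral (k := k) (K := X.residueField P)
  exact (LinearEquiv.ofBijective (Algebra.linearMap k (X.residueField P)) hb).finrank_eq.symm.trans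
    (Module.finrank_self k)

include hd h0 in
/-- Global generation: if `H¹` of every elementary modification at a point vanishes. -/
theorem isGloballyGenerated_of_sub_bound [IsAlgClosed k] {r : ℕ} {E : X.Modules}
    (hE : FlatMod.IsFinLocFreeOfRank r E)
    (hb : ∀ (K : X.Modules) (i : K ⟶ E), Mono i → Coh.IsCoh K → rk K + 1 = r →
      dg k K + (2 * (Curv2.genus k X : ℤ) - 1) < dg k E) :
    Curv2.IsGloballyGenerated E := by
  classical
  haveI := Groth.L21.RR.isNoetherian_of_proper (X := X) k
  have hreg := Groth.L21.Smooth.regular_stalk (k := k) (X ↘ Spec (CommRingCat.of k))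
  have hcE := isCoh_of_rank hE
  haveI := Groth.L21.RR.finite_HH' k hcE 0
  let b := Module.finBasis k (Coh.HH X E 0)
  let q : FlatMod.freeMod X (Module.finrank k (Coh.HH X E 0)) ⟶ E :=
    Sigma.desc fun i => Groth.L16.homOfSection E (e0 E (b i))
  have hq : ∀ i, ∀ (x : X), E.presheaf.germ ⊤ x trivial (e0 E (b i)) ∈ LinearMap.range (st q x) := by
    intro i x
    refine ⟨st (Sigma.ι (fun _ => Coh.structureModule X) i) x (Groth.L21.RR.one X x), ?_⟩
    have h1 : Sigma.ι (fun _ => Coh.structureModule X) i ≫ q = Groth.L16.homOfSection E (e0 E (b i)) :=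
      Sigma.ι_desc _ _
    rw [← Groth.L21.RR.app_homOfSection_one (e0 E (b i)), ← h1]
    exact ((Groth.L21.RR.st_comp _ q x _).symm.trans (Groth.L21.RR.st_germ _ _ _))
  have hsec : ∀ (x : X) (s : Γ(E, ⊤)), E.presheaf.germ ⊤ x trivial s ∈ LinearMap.range (st q x) := by
    intro x s
    obtain ⟨z, rfl⟩ := (e0 E).surjective s
    rw [← b.sum_repr z, map_sum, map_sum]
    refine Submodule.sum_mem _ fun i _ => ?_
    rw [Groth.L21.RR.e0_smul, Groth.L20.ModStalk.germ_smul]
    exact Submodule.smul_mem _ _ (hq i x)
  have hclosed : ∀ P : X, IsClosed ({P} : Set X) → Function.Surjective (st q P) := by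
    intro P hP
    rw [← LinearMap.range_eq_top]
    by_contra hne
    haveI := Groth.L06.SupportStalk.finite_stalk E hcE P
    obtain ⟨N, hN, hle⟩ := (IsCoatomic.eq_top_or_exists_le_coatom (LinearMap.range (st q P))).resolve_left hne
    haveI : IsSimpleModule (X.presheaf.stalk P) (E.presheaf.stalk P ⧸ N) := isSimpleModule_iff_isCoatom.2 hN
    obtain ⟨I, hI, ⟨θ⟩⟩ := isSimpleModule_iff_quot_maximal.1
      (inferInstance : IsSimpleModule (X.presheaf.stalk P) (E.presheaf.stalk P ⧸ N))
    obtain rfl := IsLocalRing.eq_maximalIdeal hI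
    let α : E.presheaf.stalk P →ₗ[X.presheaf.stalk P] ResidueField (X.presheaf.stalk P) :=
      θ.toLinearMap.comp N.mkQ
    have hα : Function.Surjective α := θ.surjective.comp N.mkQ_surjective
    haveI := Groth.L21.RR.isQCoh_skyPoint (P := P)
    haveI := Groth.L21.RR.epi_toPoint α hP hα
    obtain ⟨hcK, heK⟩ := Groth.L21.RR.euler_kernel_toPoint α k hd.le hP hcE hα
    rw [finrank_residue k hP] at heK
    have hS := shortExact_kernel (toPoint P α)
    have hη : ¬ IsClosed ({genericPoint X} : Set X) := Groth.L21.Bundle.not_isClosed_generic (X := X) hd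
    have hsky : rk (sky P (resMod P)) = 0 := by
      haveI := Groth.L21.RR.suppClosed_sky hP (genericPoint X) hη
      unfold rk
      exact Module.finrank_zero_of_subsingleton
    have hK := locFree_of_mono hreg hd.le (kernel.ι (toPoint P α)) hcK hE
    have hrK : rk (kernel (toPoint P α)) = r := by
      have h1 := rk_add hS hcE
      have h2 := rk_eq hE
      simp only at h1
      omega
    rw [hrK] at hK
    have hdK : dg k (kernel (toPoint P α)) = dg k E - 1 := by
      rw [← dg_eq k hK, ← dg_eq k hE, Curv2.deg, Curv2.deg, heK]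
      push_cast
      ring
    haveI := subsingleton_h1_of_sub_bound k hd h0 hK fun G i hi hG hr => by
      haveI := hi
      have := hb G (i ≫ kernel.ι (toPoint P α)) inferInstance hG hr
      omega
    -- a section with nonzero value
    obtain ⟨v, hv⟩ := hα 1
    obtain ⟨g, hg, -⟩ := Groth.L21.RR.exists_section_germ (Groth.L21.RR.suppClosed_sky hP) P (st (toPoint P α) P v)
    obtain ⟨t, ht⟩ := (exact_hmap_delta hS 0 ((e0 _).symm g)).1 (Subsingleton.elim _ _)
    have hmem : E.presheaf.germ ⊤ P trivial (e0 E t) ∈ N := hle (hsec P (e0 E t))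
    have h1 : α (E.presheaf.germ ⊤ P trivial (e0 E t)) = 0 := by
      show θ (N.mkQ _) = 0
      rw [Submodule.mkQ_apply, (Submodule.Quotient.mk_eq_zero N).2 hmem, map_zero]
    have h2 : st (toPoint P α) P (E.presheaf.germ ⊤ P trivial (e0 E t)) = st (toPoint P α) P v := by
      refine (Groth.L21.RR.st_germ (toPoint P α) (U := ⊤) trivial (e0 E t)).trans (Eq.trans ?_ hg)
      have h4 : (toPoint P α).app ⊤ (e0 E t) = g := by
        rw [← Groth.L21.RR.e0_hmap]
        exact (congrArg (e0 (sky P (resMod P))) ht).trans ((e0 _).apply_symm_apply g)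
      rw [h4]
    have h3 := congrArg (fun z => (Groth.L00.Sky.adj P).counit.app (resMod P) z) h2
    exact one_ne_zero ((hv.symm.trans ((Groth.L21.RR.counit_toPoint α v).symm.trans (h3.symm.trans
      (Groth.L21.RR.counit_toPoint α _)))).trans h1)
  have hepi : Epi q := by
    refine Abelian.epi_of_cokernel_π_eq_zero _ (zero_of_target_iso_zero _
      ((Groth.L00.Stk.isZero_iff _).2 fun x => ?_).isoZero)
    obtain ⟨z, hz, hxz⟩ := Groth.L21.RR.exists_closed_specialization x
    have hz0 : IsZero ((Groth.L00.Stk.F X z).obj (cokernel q)) := by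
      haveI : Epi ((Groth.L00.Stk.F X z).map q) := (ModuleCat.epi_iff_surjective _).2 (hclosed z hz)
      refine IsZero.of_epi_eq_zero ((Groth.L00.Stk.F X z).map (cokernel.π q)) ?_
      rw [← cancel_epi ((Groth.L00.Stk.F X z).map q), ← Functor.map_comp, cokernel.condition,
        Functor.map_zero, comp_zero]
    have hfree : Coh.IsCoh (FlatMod.freeMod X (Module.finrank k (Coh.HH X E 0))) :=
      Groth.L16.NegPow.isCoh_of_isFinLocFree
        (Groth.L29.DC.isFinLocFree_freeMod X _)
    obtain ⟨W, hzW, hW⟩ := Groth.L16.NegPow.exists_nhd_stalk_zero (coh_cokernel hfree hcE q) z hz0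
    exact hW x (hxz.mem_open W.2 hzW)
  exact Groth.L18.Ample.isGloballyGenerated_of_freeMod q

end Groth.L21.Bundle
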