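import Groth.Agent.L21.Bundle.Twist
import Groth.Agent.L21.RR.Point
import Groth.Agent.L22.CurveDeg.NonSpecial
import Groth.Agent.L16.FrameIso

/-!
Bounds on the global sections of bundles from slope bounds.
-/

set_option autoImplicit false
set_option backward.isDefEq.respectTransparency false
set_option linter.style.haveILetI false
universe u

open CategoryTheory CategoryTheory.Limits AlgebraicGeometry

noncomputable section

namespace Groth.L21.Bundle

open Groth.L21.RR (h hk)
open Groth.L16.CohLinear (hmap exact_hmap_hmap)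

variable {X : Scheme.{u}} [IsIntegral X] [IsLocallyNoetherian X] (k : Type u) [Field k]
  [X.Over (Spec (CommRingCat.of k))] [IsProper (X ↘ Spec (CommRingCat.of k))]

attribute [local irreducible] dg rk

theorem dg_structure : dg k (Coh.structureModule X) = 0 := by
  rw [← dg_eq k (locFree_one (Groth.L18.Ample.isInvertible_structureModule X)), Curv2.deg]
  simp

variable (hreg : ∀ x : X, IsRegularLocalRing (X.presheaf.stalk x)) (hd : topologicalKrullDim X = 1)

include hreg hd in
/-- No sections if all slopes are negative. -/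
theorem h0_eq_zero_of_bd_neg {r : ℕ} {E : X.Modules} (hE : FlatMod.IsFinLocFreeOfRank r E) {a : ℤ} {b : ℕ}
    (hb : Bd k E a b) (ha : a < 0) : h k 0 E = 0 := by
  refine Groth.L21.RR.h_eq_zero_of_subsingleton k (not_nontrivial_iff_subsingleton.1 fun hn => ?_)
  haveI := hn
  obtain ⟨φ, hφ⟩ := Groth.L21.RR.exists_hom_ne_zero (L := E)
  have hO := locFree_one (Groth.L18.Ample.isInvertible_structureModule X)
  have hcO := isCoh_of_rank hO
  have hcE := isCoh_of_rank hE
  obtain ⟨h1, h2⟩ := add_image k hd.le φ hcO hcE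
  have hI := locFree_of_mono hreg hd.le (Abelian.image.ι φ) (coh_image hcO hcE φ) hE
  have hK := locFree_of_mono hreg hd.le (kernel.ι φ) (coh_kernel hcO hcE φ) hO
  have hpos : 0 < rk (Abelian.image φ) := Nat.pos_of_ne_zero fun h0' => hφ <| by
    rw [← Abelian.image.fac φ, (isZero_of_rank_zero (h0' ▸ hI)).eq_of_src (Abelian.image.ι φ) 0, comp_zero]
  rw [rk_eq hO] at h1
  have hk0 : rk (kernel φ) = 0 := by omega
  rw [dg_structure, (zero_facts k hd.le (isZero_of_rank_zero (hk0 ▸ hK))).2, zero_add] at h2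
  have h3 := hb _ (Abelian.image.ι φ) inferInstance (coh_image hcO hcE φ)
  rw [← h2] at h3
  have hposz : (0 : ℤ) < rk (Abelian.image φ) := by exact_mod_cast hpos
  nlinarith

include hd in
/-- Twisting by a degree one module with a section gains at most `rank` sections. -/
theorem h0_twist_le {r : ℕ} {G L : X.Modules} (hG : FlatMod.IsFinLocFreeOfRank r G) (hL : PicF.IsInvertible L)
    (hdeg : Curv2.deg k X L 1 = 1) {s : Coh.structureModule X ⟶ L} (hs : s ≠ 0) :
    h k 0 (CohB1.tensorMod G L) ≤ h k 0 G + r := by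
  haveI := Groth.L21.RR.isNoetherian_of_proper (X := X) k
  haveI := Groth.L21.RR.mono_of_ne_zero hL hs
  have hflat : FlatMod.IsFlat G := Groth.L29.DC.isFlat_of_isFinLocFree (Groth.L22.CurveDeg.isFinLocFree_of_rank hG)
  let S := (ShortComplex.mk s (cokernel.π s) (cokernel.condition s))
  have hS' := Groth.L16.FrameIso.shortExact_tensor_left hflat S (shortExact_cokernel s)
  have hcO := isCoh_of_rank (locFree_one (Groth.L18.Ample.isInvertible_structureModule X))
  have hcL := isCoh_of_rank (locFree_one hL)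
  have hcQ := coh_cokernel hcO hcL s
  have hA : Coh.IsCoh (CohB1.tensorMod G (Coh.structureModule X)) := Groth.L22.CurveDeg.isCoh_tensor_locFree hG hcO
  have hB : Coh.IsCoh (CohB1.tensorMod G L) := Groth.L22.CurveDeg.isCoh_tensor_locFree hG hcL
  have hC : Coh.IsCoh (CohB1.tensorMod G (cokernel s)) := Groth.L22.CurveDeg.isCoh_tensor_locFree hG hcQ
  have hcG := isCoh_of_rank hG
  have hr : rk (CohB1.tensorMod G (cokernel s)) = 0 := by
    have h1 : rk (CohB1.tensorMod G L) = rk (CohB1.tensorMod G (Coh.structureModule X)) +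
      rk (CohB1.tensorMod G (cokernel s)) := rk_add hS' hB
    rw [rk_twist hL, rk_iso (Groth.L00.Tensor.tensorUnitRight G)] at h1
    omega
  have hsupp := suppClosed_of_rk_eq_zero hd.le hC hr
  have hdd : dg k (CohB1.tensorMod G L) = dg k (CohB1.tensorMod G (Coh.structureModule X)) +
      dg k (CohB1.tensorMod G (cokernel s)) := dg_add hd.le k hS' hA hB hC
  rw [dg_twist k hd hL hcG, dg_iso k (Groth.L00.Tensor.tensorUnitRight G), hdeg, rk_eq hG] at hdd
  have hq : (h k 0 (CohB1.tensorMod G (cokernel s)) : ℤ) = r := by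
    rw [← Groth.L21.RR.euler_eq_h0_of_suppClosed k hsupp]
    have : dg k (CohB1.tensorMod G (cokernel s)) = Curv2.euler k X (CohB1.tensorMod G (cokernel s)) := by
      unfold dg
      rw [hr, Curv2.deg]
      simp
    omega
  haveI : Module.Finite k (Coh.HH X (((DCoh.tensorBi (X := X)).obj G).obj (Coh.structureModule X)) 0) :=
    Groth.L21.RR.finite_HH' k hA 0
  haveI : Module.Finite k (Coh.HH X (((DCoh.tensorBi (X := X)).obj G).obj L) 0) :=
    Groth.L21.RR.finite_HH' k hB 0
  haveI : Module.Finite k (Coh.HH X (((DCoh.tensorBi (X := X)).obj G).obj (cokernel s)) 0) :=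
    Groth.L21.RR.finite_HH' k hC 0
  rw [← Groth.L21.RR.h_congr k (Groth.L00.Tensor.tensorUnitRight G) 0]
  let f := hk k (((DCoh.tensorBi (X := X)).obj G).map s) 0
  let g := hk k (((DCoh.tensorBi (X := X)).obj G).map (cokernel.π s)) 0
  have hex : LinearMap.ker g ≤ LinearMap.range f := fun y hy => (exact_hmap_hmap hS' 0 y).1 hy
  have h1 := LinearMap.finrank_range_add_finrank_ker g
  have h2 := Submodule.finrank_mono hex
  have h3 := LinearMap.finrank_range_le f
  have h4 := Submodule.finrank_le (LinearMap.range g)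
  show Module.finrank k (Coh.HH X (CohB1.tensorMod G L) 0) ≤
    Module.finrank k (Coh.HH X (CohB1.tensorMod G (Coh.structureModule X)) 0) + r
  have h5 : Module.finrank k (Coh.HH X (CohB1.tensorMod G (cokernel s)) 0) = r := by exact_mod_cast hq
  change _ = Module.finrank k (Coh.HH X (CohB1.tensorMod G L) 0) at h1
  change _ ≤ Module.finrank k (Coh.HH X (CohB1.tensorMod G (Coh.structureModule X)) 0) at h3
  change _ ≤ Module.finrank k (Coh.HH X (CohB1.tensorMod G (cokernel s)) 0) at h4
  omega

include hreg hd in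
/-- Sections of semistable bundles. -/
theorem h0_le_of_bd {r : ℕ} {L : X.Modules} (hL : PicF.IsInvertible L) (hdeg : Curv2.deg k X L 1 = 1)
    {s : Coh.structureModule X ⟶ L} (hs : s ≠ 0) (m : ℕ) {a : ℤ} {b : ℕ} {G : X.Modules}
    (hG : FlatMod.IsFinLocFreeOfRank r G) (hb : Bd k G a b) (ha : a < (m : ℤ) * b) :
    h k 0 G ≤ r * m := by
  induction m generalizing a G with
  | zero =>
    rw [h0_eq_zero_of_bd_neg k hreg hd hG hb (by simpa using ha)]
    exact Nat.zero_le _
  | succ m ih =>
    obtain ⟨L', hL', ⟨e⟩⟩ := Groth.L08.Cube.exists_inverse hL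
    have hd' : Curv2.deg k X L' 1 = -1 := by rw [deg_inverse k hd hL hL' e, hdeg]
    let θ : CohB1.tensorMod (CohB1.tensorMod G L') L ≅ G :=
      Groth.L00.Tensor.tensorAssoc G L' L ≪≫
        Groth.L00.Tensor.tensorIso (Iso.refl G) (Groth.L00.Tensor.tensorComm L' L ≪≫ e) ≪≫
          Groth.L00.Tensor.tensorUnitRight G
    have hG' := locFree_twist hd hreg hL' hG
    have h1 := ih hG' (bd_twist k hd hL' hb) (by rw [hd']; push_cast at ha; linarith)
    have h2 := h0_twist_le k hd hG' hL hdeg hs
    rw [Groth.L21.RR.h_congr k θ 0] at h2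
    rw [Nat.mul_succ]
    omega

end Groth.L21.Bundle
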