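import Groth.Agent.L21.Bundle.Stable
import Groth.Agent.L15.Ref.Tensor
import Groth.Prelude.Def_TorSh

/-!
Torsion-free quotients, saturation and boundedness of subsheaves of bundles on regular curves.
-/

set_option autoImplicit false
set_option backward.isDefEq.respectTransparency false
set_option linter.style.haveILetI false
universe u

open CategoryTheory CategoryTheory.Limits AlgebraicGeometry

noncomputable section

namespace Groth.L21.Bundle

variable {X : Scheme.{u}} [IsIntegral X] [IsLocallyNoetherian X]

theorem rk_iso {M N : X.Modules} (e : M ≅ N) : rk M = rk N :=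
  ((Groth.L00.Stk.F X (genericPoint X)).mapIso e).toLinearEquiv.finrank_eq

theorem rk_isZero {M : X.Modules} (h : IsZero M) : rk M = 0 := by
  haveI := (Groth.L21.Mod.isZero_iff_stalk_subsingleton M).1 h (genericPoint X)
  exact Module.finrank_zero_of_subsingleton

omit [IsIntegral X] [IsLocallyNoetherian X] in
theorem isZero_of_rank_zero {M : X.Modules} (hM : FlatMod.IsFinLocFreeOfRank 0 M) : IsZero M := by
  rw [Groth.L21.Mod.isZero_iff_stalk_subsingleton]
  intro x
  obtain ⟨θ⟩ := Groth.L22.CurveDeg.nonempty_stalk_equiv hM x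
  exact θ.symm.toEquiv.subsingleton

omit [IsLocallyNoetherian X] in
theorem not_isZero_of_rank {r : ℕ} (hr : 0 < r) {E : X.Modules} (hE : FlatMod.IsFinLocFreeOfRank r E) :
    ¬ IsZero E := fun hz => by
  haveI := (Groth.L21.Mod.isZero_iff_stalk_subsingleton E).1 hz (genericPoint X)
  have := rk_eq hE
  unfold rk at this
  rw [Module.finrank_zero_of_subsingleton] at this
  omega

omit [IsIntegral X] [IsLocallyNoetherian X] in
theorem shortExact_kernel {M N : X.Modules} (p : M ⟶ N) [Epi p] :
    (ShortComplex.mk (kernel.ι p) p (kernel.condition p)).ShortExact :=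
  ⟨ShortComplex.exact_of_f_is_kernel _ (kernelIsKernel p)⟩

omit [IsIntegral X] [IsLocallyNoetherian X] in
theorem shortExact_cokernel {M N : X.Modules} (i : M ⟶ N) [Mono i] :
    (ShortComplex.mk i (cokernel.π i) (cokernel.condition i)).ShortExact :=
  ⟨ShortComplex.exact_of_g_is_cokernel _ (cokernelIsCokernel i)⟩

variable (hreg : ∀ x : X, IsRegularLocalRing (X.presheaf.stalk x)) (hd : topologicalKrullDim X ≤ 1)

include hreg hd in
/-- Coherent torsion-free modules are locally free. -/
theorem locFree_of_torsionFree {I : X.Modules} (hI : Coh.IsCoh I) (htf : TorSh.IsTorsionFree I) :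
    FlatMod.IsFinLocFreeOfRank (rk I) I := by
  have hflat : FlatMod.IsFlat I := fun x => by
    haveI := isPrincipalIdealRing_stalk hreg hd x
    haveI := Groth.L06.SupportStalk.finite_stalk I hI x
    haveI := htf x
    haveI : Module.Free (X.presheaf.stalk x) (I.presheaf.stalk x) := Module.free_of_finite_type_torsion_free'
    exact inferInstanceAs (Module.Flat (X.presheaf.stalk x) (I.presheaf.stalk x))
  obtain ⟨n, hn⟩ := Groth.L21.Disc.exists_rank (Groth.L15.CohFlat.isFinLocFree_of_isCoh_isFlat I hI hflat)
  rwa [rk_eq hn]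

include hreg hd in
/-- A coherent module has a locally free quotient of the same rank. -/
theorem exists_locFree_quotient {C : X.Modules} (hC : Coh.IsCoh C) :
    ∃ (Q : X.Modules) (p : C ⟶ Q), Epi p ∧ Coh.IsCoh (kernel p) ∧ rk (kernel p) = 0 ∧
      FlatMod.IsFinLocFreeOfRank (rk C) Q := by
  let β := RefHull.bidualMap C
  have hcD : Coh.IsCoh (RefHull.ddual C) := Groth.L15.Ref.isCoh_dual (Groth.L15.Ref.isCoh_dual hC)
  haveI : Coh.IsQCoh (RefHull.ddual C) := hcD.1
  have hcI : Coh.IsCoh (Abelian.image β) := Groth.L16.CohSupport.isCoh_image hC β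
  have htf : TorSh.IsTorsionFree (Abelian.image β) := fun x => by
    haveI := Groth.L15.Ref.isTorsionFree_ddual hC x
    exact (injective_sm (Abelian.image.ι β) x).moduleIsTorsionFree (sm (Abelian.image.ι β) x)
      (fun a m => map_smul _ a m)
  have hQ := locFree_of_torsionFree hreg hd hcI htf
  let p := Abelian.factorThruImage β
  have hcK : Coh.IsCoh (kernel p) := (Groth.L16.CohKernel.isCoh_kernel_cokernel hC hcI p).1
  have hinj : Function.Injective (sm p (genericPoint X)) := by
    haveI := finite_generic hC
    haveI := Groth.L15.Ref.isQCoh_structureModule (X := X)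
    haveI := Groth.L15.Ref.finite_stalk hC (genericPoint X)
    have hr : RefHull.IsReflexiveAt C (genericPoint X) :=
      inferInstanceAs (Module.IsReflexive X.functionField (C.presheaf.stalk (genericPoint X)))
    have h1 := (Groth.L15.Ref.bidualAt_bijective_iff hC _).2 hr
    rw [← Groth.L15.Ref.stalkMapₗ_bidual] at h1
    have h2 : Function.Bijective (RefHull.stalkMapₗ β (genericPoint X)) := (Function.Bijective.of_comp_iff'
      (Groth.L15.Ref.evalStalk_bijective (RefHull.dual C) (Coh.structureModule X)
        (Groth.L15.Ref.isCoh_dual hC) (genericPoint X)) _).1 h1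
    have h3 : Function.Injective (sm β (genericPoint X)) := h2.1
    have h4 : sm β (genericPoint X) = (sm (Abelian.image.ι β) (genericPoint X)).comp (sm p (genericPoint X)) := by
      show ((Groth.L00.Stk.F X (genericPoint X)).map β).hom = _
      conv_lhs => rw [← Abelian.image.fac β, Functor.map_comp]
      rfl
    rw [h4, LinearMap.coe_comp] at h3
    exact h3.of_comp
  have h0 : rk (kernel p) = 0 := by
    have hcomp : ∀ v, sm p (genericPoint X) (sm (kernel.ι p) (genericPoint X) v) = 0 := fun v => by
      show ((Groth.L00.Stk.F X (genericPoint X)).map (kernel.ι p) ≫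
        (Groth.L00.Stk.F X (genericPoint X)).map p).hom v = 0
      rw [← Functor.map_comp, kernel.condition, Functor.map_zero]
      rfl
    haveI : Subsingleton ((kernel p).presheaf.stalk (genericPoint X)) := ⟨fun a b =>
      injective_sm (kernel.ι p) (genericPoint X) (hinj ((hcomp a).trans (hcomp b).symm))⟩
    exact Module.finrank_zero_of_subsingleton
  refine ⟨Abelian.image β, p, inferInstanceAs (Epi (Abelian.factorThruImage β)), hcK, h0, ?_⟩
  haveI : Epi p := inferInstanceAs (Epi (Abelian.factorThruImage β))
  have : rk C = rk (Abelian.image β) := by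
    have h1 : rk C = rk (kernel p) + rk (Abelian.image β) := rk_add (shortExact_kernel p) hC
    omega
  rwa [this]

variable (k : Type u) [Field k] [X.Over (Spec (CommRingCat.of k))] [IsProper (X ↘ Spec (CommRingCat.of k))]

theorem dg_iso {M N : X.Modules} (e : M ≅ N) : dg k M = dg k N := by
  rw [dg, dg, rk_iso e, Curv2.deg, Curv2.deg, Groth.L03.Euler.euler_iso e]

attribute [local irreducible] dg rk

include hd in
/-- A torsion kernel lowers degrees. -/
theorem dg_quotient_le {C Q : X.Modules} (p : C ⟶ Q) [Epi p] (hC : Coh.IsCoh C) (hQ : Coh.IsCoh Q)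
    (hK : Coh.IsCoh (kernel p)) (h0 : rk (kernel p) = 0) :
    dg k Q ≤ dg k C ∧ (dg k Q = dg k C → IsIso p) := by
  have hadd : dg k C = dg k (kernel p) + dg k Q := dg_add hd k (shortExact_kernel p) hK hC hQ
  obtain ⟨h1, h2⟩ := dg_nonneg_of_rk_eq_zero hd k hK h0
  refine ⟨by omega, fun he => ?_⟩
  haveI : Mono p := Preadditive.mono_of_isZero_kernel p (h2 (by omega))
  exact isIso_of_mono_of_epi p

end Groth.L21.Bundle
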