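import Groth.Agent.L21.Bundle.Tors
import Groth.Agent.L16.ProperFinite

/-!
Slope calculus for vector bundles on regular curves: bounds on subsheaves, extensions, quotients,
maximal slopes.
-/

set_option autoImplicit false
set_option backward.isDefEq.respectTransparency false
set_option linter.style.haveILetI false
universe u

open CategoryTheory CategoryTheory.Limits AlgebraicGeometry

noncomputable section

namespace Groth.L21.Bundle

open Groth.L21.RR (h)

variable {X : Scheme.{u}} [IsIntegral X] [IsLocallyNoetherian X]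
  (k : Type u) [Field k] [X.Over (Spec (CommRingCat.of k))] [IsProper (X ↘ Spec (CommRingCat.of k))]

theorem coh_kernel {M N : X.Modules} (hM : Coh.IsCoh M) (hN : Coh.IsCoh N) (f : M ⟶ N) :
    Coh.IsCoh (kernel f) := (Groth.L16.CohKernel.isCoh_kernel_cokernel hM hN f).1

theorem coh_cokernel {M N : X.Modules} (hM : Coh.IsCoh M) (hN : Coh.IsCoh N) (f : M ⟶ N) :
    Coh.IsCoh (cokernel f) := (Groth.L16.CohKernel.isCoh_kernel_cokernel hM hN f).2

theorem coh_image {M N : X.Modules} (hM : Coh.IsCoh M) (hN : Coh.IsCoh N) (f : M ⟶ N) :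
    Coh.IsCoh (Abelian.image f) :=
  haveI : Coh.IsQCoh N := hN.1
  Groth.L16.CohSupport.isCoh_image hM f

attribute [local irreducible] dg rk

variable (hreg : ∀ x : X, IsRegularLocalRing (X.presheaf.stalk x)) (hd : topologicalKrullDim X ≤ 1)

include hd in
theorem zero_facts {M : X.Modules} (hM : IsZero M) : rk M = 0 ∧ dg k M = 0 :=
  ⟨rk_isZero hM, dg_eq_zero_of_isZero k hd hM⟩

include hd in
/-- Additivity along a monomorphism. -/
theorem add_cokernel {M N : X.Modules} (i : M ⟶ N) [Mono i] (hM : Coh.IsCoh M) (hN : Coh.IsCoh N) :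
    rk N = rk M + rk (cokernel i) ∧ dg k N = dg k M + dg k (cokernel i) :=
  ⟨rk_add (shortExact_cokernel i) hN,
    dg_add hd k (shortExact_cokernel i) hM hN (coh_cokernel hM hN i)⟩

include hd in
/-- Additivity along an epimorphism. -/
theorem add_kernel {M N : X.Modules} (p : M ⟶ N) [Epi p] (hM : Coh.IsCoh M) (hN : Coh.IsCoh N) :
    rk M = rk (kernel p) + rk N ∧ dg k M = dg k (kernel p) + dg k N :=
  ⟨rk_add (shortExact_kernel p) hM, dg_add hd k (shortExact_kernel p) (coh_kernel hM hN p) hM hN⟩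

include hd in
/-- Additivity along a morphism. -/
theorem add_image {M N : X.Modules} (f : M ⟶ N) (hM : Coh.IsCoh M) (hN : Coh.IsCoh N) :
    rk M = rk (kernel f) + rk (Abelian.image f) ∧ dg k M = dg k (kernel f) + dg k (Abelian.image f) := by
  obtain ⟨h1, h2⟩ := add_kernel k hd (Abelian.factorThruImage f) hM (coh_image hM hN f)
  let e : kernel (Abelian.factorThruImage f) ≅ kernel f :=
    (kernelCompMono (Abelian.factorThruImage f) (Abelian.image.ι f)).symm ≪≫ kernelIsoOfEq (Abelian.image.fac f)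
  rw [rk_iso e] at h1
  rw [dg_iso k e] at h2
  exact ⟨h1, h2⟩

include hd in
/-- The inverse image of a subsheaf of a quotient. -/
theorem exists_preimage {M N G : X.Modules} (q : M ⟶ N) [Epi q] (j : G ⟶ N) [Mono j]
    (hM : Coh.IsCoh M) (hN : Coh.IsCoh N) (hG : Coh.IsCoh G) :
    ∃ (P : X.Modules) (i : P ⟶ M), Mono i ∧ Coh.IsCoh P ∧
      rk P + rk N = rk M + rk G ∧ dg k P + dg k N = dg k M + dg k G := by
  have hC := coh_cokernel hG hN j
  haveI : Epi (q ≫ cokernel.π j) := epi_comp _ _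
  refine ⟨kernel (q ≫ cokernel.π j), kernel.ι _, inferInstance, coh_kernel hM hC _, ?_, ?_⟩
  all_goals
    obtain ⟨h1, h2⟩ := add_cokernel k hd j hG hN
    obtain ⟨h3, h4⟩ := add_kernel k hd (q ≫ cokernel.π j) hM hC
    omega

include hd in
/-- A subsheaf of an extension. -/
theorem split_sub {S : ShortComplex X.Modules} (hS : S.ShortExact) {F : X.Modules} (i : F ⟶ S.X₂) [Mono i]
    (hF : Coh.IsCoh F) (h₃ : Coh.IsCoh S.X₃) :
    ∃ (K I : X.Modules) (a : K ⟶ S.X₁) (b : I ⟶ S.X₃), Mono a ∧ Mono b ∧ Coh.IsCoh K ∧ Coh.IsCoh I ∧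
      rk F = rk K + rk I ∧ dg k F = dg k K + dg k I := by
  haveI := hS.mono_f
  have hz : (kernel.ι (i ≫ S.g) ≫ i) ≫ S.g = 0 := by rw [Category.assoc, kernel.condition]
  let a : kernel (i ≫ S.g) ⟶ S.X₁ := hS.exact.lift (kernel.ι (i ≫ S.g) ≫ i) hz
  have ha : a ≫ S.f = kernel.ι (i ≫ S.g) ≫ i := hS.exact.lift_f _ _
  haveI : Mono (a ≫ S.f) := by rw [ha]; infer_instance
  exact ⟨_, _, a, Abelian.image.ι (i ≫ S.g), mono_of_mono a S.f, inferInstance, coh_kernel hF h₃ _,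
    coh_image hF h₃ _, add_image k hd (i ≫ S.g) hF h₃⟩

/-- All slopes of subsheaves are at most `a / b`. -/
def Bd (E : X.Modules) (a : ℤ) (b : ℕ) : Prop :=
  ∀ (G : X.Modules) (i : G ⟶ E), Mono i → Coh.IsCoh G → dg k G * (b : ℤ) ≤ a * (rk G : ℤ)

/-- All slopes of subsheaves of positive rank are less than `a / b`. -/
def SBd (E : X.Modules) (a : ℤ) (b : ℕ) : Prop :=
  ∀ (G : X.Modules) (i : G ⟶ E), Mono i → Coh.IsCoh G → 0 < rk G → dg k G * (b : ℤ) < a * (rk G : ℤ)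

include hreg hd in
theorem bd_of {r : ℕ} {E : X.Modules} (hE : FlatMod.IsFinLocFreeOfRank r E) {a : ℤ} {b : ℕ}
    (h : ∀ (G : X.Modules) (r' : ℕ) (i : G ⟶ E), Mono i → 0 < r' → FlatMod.IsFinLocFreeOfRank r' G →
      Curv2.deg k X G r' * (b : ℤ) ≤ a * (r' : ℤ)) : Bd k E a b := by
  intro G i hi hG
  haveI := hi
  have hl := locFree_of_mono hreg hd i hG hE
  rcases Nat.eq_zero_or_pos (rk G) with h0 | h0
  · rw [h0] at hl ⊢
    rw [(zero_facts k hd (isZero_of_rank_zero hl)).2]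
    simp
  · have := h G (rk G) i hi h0 hl
    rwa [dg_eq k hl] at this

include hreg hd in
theorem sbd_of {r : ℕ} {E : X.Modules} (hE : FlatMod.IsFinLocFreeOfRank r E) {a : ℤ} {b : ℕ}
    (h : ∀ (G : X.Modules) (r' : ℕ) (i : G ⟶ E), Mono i → 0 < r' → FlatMod.IsFinLocFreeOfRank r' G →
      Curv2.deg k X G r' * (b : ℤ) < a * (r' : ℤ)) : SBd k E a b := by
  intro G i hi hG h0
  haveI := hi
  have hl := locFree_of_mono hreg hd i hG hE
  have := h G (rk G) i hi h0 hl
  rwa [dg_eq k hl] at this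

theorem of_bd {E G : X.Modules} {a : ℤ} {b : ℕ} (h : Bd k E a b) {r' : ℕ} (i : G ⟶ E) (hi : Mono i)
    (hG : FlatMod.IsFinLocFreeOfRank r' G) : Curv2.deg k X G r' * (b : ℤ) ≤ a * (r' : ℤ) := by
  have := h G i hi (isCoh_of_rank hG)
  rwa [← dg_eq k hG, rk_eq hG] at this

include hreg hd in
theorem bd_of_ss {r : ℕ} {E : X.Modules} (hE : FlatMod.IsFinLocFreeOfRank r E)
    (h : ModFun.IsSlopeSemistable k X E r) : Bd k E (dg k E) r :=
  bd_of k hreg hd hE fun G r' i hi h0 hG => by rw [← dg_eq k hE]; exact h G r' i hi h0 hG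

theorem ss_of_bd {r : ℕ} {E : X.Modules} (hE : FlatMod.IsFinLocFreeOfRank r E) (h : Bd k E (dg k E) r) :
    ModFun.IsSlopeSemistable k X E r := fun G r' i hi _ hG => by
  rw [dg_eq k hE]; exact of_bd k h i hi hG

include hreg hd in
/-- No maps from a semistable bundle into a bundle all of whose slopes are smaller. -/
theorem hom_eq_zero_of_sbd {E C : X.Modules} {r s : ℕ} (hE : FlatMod.IsFinLocFreeOfRank r E)
    (hC : FlatMod.IsFinLocFreeOfRank s C) (hEss : Bd k E (dg k E) r) (hCb : SBd k C (dg k E) r) (f : E ⟶ C) :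
    f = 0 := by
  by_contra hf
  have hcE := isCoh_of_rank hE
  have hcC := isCoh_of_rank hC
  have hI := locFree_of_mono hreg hd (Abelian.image.ι f) (coh_image hcE hcC f) hC
  have hpos : 0 < rk (Abelian.image f) := by
    refine Nat.pos_of_ne_zero fun h0 => hf ?_
    rw [h0] at hI
    rw [← Abelian.image.fac f, (isZero_of_rank_zero hI).eq_of_src (Abelian.image.ι f) 0, comp_zero]
  obtain ⟨h1, h2⟩ := add_image k hd f hcE hcC
  have h3 := hEss (kernel f) (kernel.ι f) inferInstance (coh_kernel hcE hcC f)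
  have h4 := hCb (Abelian.image f) (Abelian.image.ι f) inferInstance (coh_image hcE hcC f) hpos
  rw [rk_eq hE] at h1
  rw [h2, h1] at h3 h4
  push_cast at h3 h4
  nlinarith

/-- The degrees of the subsheaves of a coherent sheaf without torsion subsheaves are bounded. -/
theorem exists_dg_bound (hd : topologicalKrullDim X ≤ 1) {E : X.Modules} (hE : Coh.IsCoh E) :
    ∃ N : ℤ, ∀ (G : X.Modules) (i : G ⟶ E), Mono i → Coh.IsCoh G → dg k G ≤ N := by
  refine ⟨(h k 0 E : ℤ) + (rk E : ℤ) * |Curv2.euler k X (Coh.structureModule X)|, fun G i hi hG => ?_⟩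
  haveI := hi
  haveI := Groth.L21.RR.isNoetherian_of_proper (X := X) k
  haveI := Groth.L21.RR.finite_HH' k hE 0
  have h1 : h k 0 G ≤ h k 0 E :=
    LinearMap.finrank_le_finrank_of_injective (f := Groth.L21.RR.hk k i 0) (Groth.L21.RR.injective_hmap_zero i)
  have h2 : (rk G : ℤ) ≤ rk E := by exact_mod_cast rk_le_of_mono i hG hE
  have h3 : Curv2.euler k X G ≤ (h k 0 E : ℤ) := by
    rw [Groth.L21.RR.euler_eq k hd]
    omega
  have h4 : dg k G = Curv2.euler k X G - (rk G : ℤ) * Curv2.euler k X (Coh.structureModule X) := by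
    unfold dg Curv2.deg; rfl
  rw [h4]
  nlinarith [neg_abs_le (Curv2.euler k X (Coh.structureModule X)), abs_nonneg (Curv2.euler k X (Coh.structureModule X)),
    Int.natCast_nonneg (rk G)]

include hreg hd in
/-- A subsheaf of maximal slope and, among those, of maximal rank. -/
theorem exists_max_slope {r : ℕ} (hr : 0 < r) {E : X.Modules} (hE : FlatMod.IsFinLocFreeOfRank r E) :
    ∃ (E₁ : X.Modules) (i₁ : E₁ ⟶ E), Mono i₁ ∧ Coh.IsCoh E₁ ∧ 0 < rk E₁ ∧ Bd k E (dg k E₁) (rk E₁) ∧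
      ∀ (G : X.Modules) (i : G ⟶ E), Mono i → Coh.IsCoh G → 0 < rk G →
        dg k G * (rk E₁ : ℤ) = dg k E₁ * (rk G : ℤ) → rk G ≤ rk E₁ := by
  classical
  have hcE := isCoh_of_rank hE
  obtain ⟨N, hN⟩ := exists_dg_bound k hd hcE
  let P : ℕ → ℤ → Prop := fun n d => ∃ (G : X.Modules) (i : G ⟶ E), Mono i ∧ Coh.IsCoh G ∧ rk G = n ∧ dg k G = d
  have hmax : ∀ n, (∃ d, P n d) → ∃ d, P n d ∧ ∀ d', P n d' → d' ≤ d := fun n hn =>
    Int.exists_greatest_of_bdd ⟨N, fun d ⟨G, i, hi, hG, _, hd'⟩ => hd' ▸ hN G i hi hG⟩ hn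
  have hrk : ∀ n d, P n d → n ≤ r := fun n d ⟨G, i, hi, hG, hn, _⟩ => by
    rw [← hn, ← rk_eq hE]; haveI := hi; exact rk_le_of_mono i hG hcE
  let T : Finset ℕ := (Finset.range (r + 1)).filter fun n => 0 < n ∧ ∃ d, P n d
  let m : ℕ → ℤ := fun n => if hn : ∃ d, P n d then (hmax n hn).choose else 0
  have hm : ∀ n, (∃ d, P n d) → P n (m n) ∧ ∀ d', P n d' → d' ≤ m n := fun n hn => by
    simp only [m, dif_pos hn]; exact (hmax n hn).choose_spec
  have hTne : T.Nonempty := ⟨r, Finset.mem_filter.2 ⟨Finset.self_mem_range_succ r, hr,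
    dg k E, E, 𝟙 E, inferInstance, hcE, rk_eq hE, rfl⟩⟩
  let μ : ℕ → ℚ := fun n => (m n : ℚ) / n
  obtain ⟨n₁, hn₁, hbest⟩ := T.exists_max_image (fun n => toLex (μ n, n)) hTne
  obtain ⟨-, hpos₁, hex₁⟩ := Finset.mem_filter.1 hn₁
  obtain ⟨E₁, i₁, hi₁, hE₁, hr₁, hd₁⟩ := (hm n₁ hex₁).1
  have key : ∀ (G : X.Modules) (i : G ⟶ E), Mono i → Coh.IsCoh G → 0 < rk G →
      dg k G * (rk E₁ : ℤ) ≤ dg k E₁ * (rk G : ℤ) ∧
        (dg k G * (rk E₁ : ℤ) = dg k E₁ * (rk G : ℤ) → rk G ≤ rk E₁) := by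
    intro G i hi hG h0
    have hP : P (rk G) (dg k G) := ⟨G, i, hi, hG, rfl, rfl⟩
    have hle : dg k G ≤ m (rk G) := (hm _ ⟨_, hP⟩).2 _ hP
    have hmem : rk G ∈ T := Finset.mem_filter.2 ⟨Finset.mem_range.2 (Nat.lt_succ_of_le (hrk _ _ hP)), h0, _, hP⟩
    have hb := hbest _ hmem
    rw [Prod.Lex.toLex_le_toLex] at hb
    have hq0 : (0 : ℚ) < rk G := by exact_mod_cast h0
    have hq1 : (0 : ℚ) < n₁ := by exact_mod_cast hpos₁
    rw [hr₁, hd₁]
    have hle' : (dg k G : ℚ) ≤ (m (rk G) : ℚ) := by exact_mod_cast hle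
    have hle'' : (dg k G : ℚ) * n₁ ≤ (m (rk G) : ℚ) * n₁ := mul_le_mul_of_nonneg_right hle' hq1.le
    rcases hb with hlt | ⟨heq, hn⟩
    · simp only [μ, div_lt_div_iff₀ hq0 hq1] at hlt
      have : (dg k G : ℚ) * n₁ < (m n₁ : ℚ) * rk G := lt_of_le_of_lt hle'' hlt
      have h' : dg k G * (n₁ : ℤ) < m n₁ * (rk G : ℤ) := by exact_mod_cast this
      exact ⟨h'.le, fun he => absurd he h'.ne⟩
    · simp only [μ, div_eq_div_iff hq0.ne' hq1.ne'] at heq
      exact ⟨by exact_mod_cast (heq ▸ hle'' : (dg k G : ℚ) * n₁ ≤ (m n₁ : ℚ) * rk G), fun _ => hn⟩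
  refine ⟨E₁, i₁, hi₁, hE₁, hr₁ ▸ hpos₁, fun G i hi hG => ?_, fun G i hi hG h0 => (key G i hi hG h0).2⟩
  rcases Nat.eq_zero_or_pos (rk G) with h0 | h0
  · haveI := hi
    have hl := locFree_of_mono hreg hd i hG hE
    rw [h0] at hl ⊢
    rw [(zero_facts k hd (isZero_of_rank_zero hl)).2]
    simp
  · exact (key G i hi hG h0).1

include hreg hd in
/-- A maximal subsheaf has a locally free quotient. -/
theorem locFree_cokernel_of_max {E E₁ : X.Modules} (hcE : Coh.IsCoh E) (i₁ : E₁ ⟶ E) [Mono i₁]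
    (hE₁ : Coh.IsCoh E₁) (hpos : 0 < rk E₁) (hb : Bd k E (dg k E₁) (rk E₁)) :
    FlatMod.IsFinLocFreeOfRank (rk (cokernel i₁)) (cokernel i₁) := by
  have hC := coh_cokernel hE₁ hcE i₁
  obtain ⟨Q, p, hp, hK, hK0, hQ⟩ := exists_locFree_quotient hreg hd hC
  haveI := hp
  obtain ⟨P, j, hj, hP, h1, h2⟩ := exists_preimage k hd (cokernel.π i₁) (kernel.ι p) hcE hC hK
  obtain ⟨h3, h4⟩ := add_cokernel k hd i₁ hE₁ hcE
  have h5 := hb P j hj hP
  have hrP : (rk P : ℤ) = rk E₁ := by exact_mod_cast (show rk P = rk E₁ by omega)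
  have hdP : dg k P = dg k E₁ + dg k (kernel p) := by omega
  rw [hrP, hdP] at h5
  obtain ⟨hnn, hz⟩ := dg_nonneg_of_rk_eq_zero hd k hK hK0
  have hpos' : (0 : ℤ) < rk E₁ := by exact_mod_cast hpos
  haveI : Mono p := Preadditive.mono_of_isZero_kernel p (hz (by nlinarith))
  haveI : IsIso p := isIso_of_mono_of_epi p
  exact locFree_of_mono hreg hd p hC hQ

include hreg hd in
/-- A map killing a subsheaf of full rank into a bundle is zero. -/
theorem eq_zero_of_comp_eq_zero {N L Q : X.Modules} {s : ℕ} (hQ : FlatMod.IsFinLocFreeOfRank s Q)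
    (hN : Coh.IsCoh N) (hL : Coh.IsCoh L) (n : N ⟶ L) [Mono n] (hr : rk N = rk L) (f : L ⟶ Q)
    (h0 : n ≫ f = 0) : f = 0 := by
  have hcQ := isCoh_of_rank hQ
  have hI := locFree_of_mono hreg hd (Abelian.image.ι f) (coh_image hL hcQ f) hQ
  have h1 : rk L = rk (kernel f) + rk (Abelian.image f) := by
    have h := rk_add (shortExact_kernel (Abelian.factorThruImage f)) hL
    dsimp only at h
    rw [rk_iso ((kernelCompMono (Abelian.factorThruImage f) (Abelian.image.ι f)).symm ≪≫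
      kernelIsoOfEq (Abelian.image.fac f))] at h
    exact h
  haveI : Mono (kernel.lift f n h0) := mono_of_mono_fac (kernel.lift_ι f n h0)
  have h2 := rk_le_of_mono (kernel.lift f n h0) hN (coh_kernel hL hcQ f)
  have h3 : rk (Abelian.image f) = 0 := by omega
  rw [h3] at hI
  rw [← Abelian.image.fac f, (isZero_of_rank_zero hI).eq_of_src (Abelian.image.ι f) 0, comp_zero]

end Groth.L21.Bundle
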