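import Groth.Agent.L21.RR.PointPow
import Groth.Agent.L21.Disc.Push
import Groth.Agent.L21.RR.Sections
import Groth.Agent.L22.CurveDeg.ZeroDim
import Groth.Agent.L22.CurveDeg.Devissage
import Groth.Agent.L15.CohFlat
import Groth.Agent.L16.CohKernel
import Groth.Agent.L16.CohSupport
import Groth.Agent.L16.NegPow.Gen
import Groth.Agent.L06.SupportStalk
import Groth.Agent.L00.StalkFunctor
import Mathlib.LinearAlgebra.FreeModule.PID

/-!
Subsheaves of locally free modules on regular integral curves: they are locally free, ranks are additive,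
and a subsheaf of full rank has smaller degree unless it is everything.
-/

set_option autoImplicit false
set_option backward.isDefEq.respectTransparency false
set_option linter.style.haveILetI false
universe u

open CategoryTheory CategoryTheory.Limits AlgebraicGeometry TopologicalSpace

noncomputable section

namespace Groth.L21.Bundle

open Groth.L21.RR (SuppClosed h)

variable {X : Scheme.{u}} [IsIntegral X]

/-- The generic rank. -/
def rk (M : X.Modules) : ℕ :=
  Module.finrank (X.presheaf.stalk (genericPoint X)) (M.presheaf.stalk (genericPoint X))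

theorem rk_eq {r : ℕ} {E : X.Modules} (hE : FlatMod.IsFinLocFreeOfRank r E) : rk E = r := by
  obtain ⟨θ⟩ := Groth.L22.CurveDeg.nonempty_stalk_equiv hE (genericPoint X)
  rw [rk, ← θ.finrank_eq, Module.finrank_fin_fun]

theorem isCoh_of_rank [IsLocallyNoetherian X] {r : ℕ} {E : X.Modules} (hE : FlatMod.IsFinLocFreeOfRank r E) :
    Coh.IsCoh E :=
  Groth.L16.NegPow.isCoh_of_isFinLocFree (Groth.L22.CurveDeg.isFinLocFree_of_rank hE)

/-- The stalk map, linear over the stalk of the structure sheaf. -/
abbrev sm {M N : X.Modules} (φ : M ⟶ N) (x : X) :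
    M.presheaf.stalk x →ₗ[X.presheaf.stalk x] N.presheaf.stalk x :=
  ((Groth.L00.Stk.F X x).map φ).hom

omit [IsIntegral X] in
theorem injective_sm {M N : X.Modules} (φ : M ⟶ N) [Mono φ] (x : X) : Function.Injective (sm φ x) :=
  (ModuleCat.mono_iff_injective _).1 (inferInstanceAs (Mono ((Groth.L00.Stk.F X x).map φ)))

variable [IsLocallyNoetherian X] (hreg : ∀ x : X, IsRegularLocalRing (X.presheaf.stalk x))
  (hd : topologicalKrullDim X ≤ 1)

include hreg hd in
theorem isPrincipalIdealRing_stalk (x : X) : IsPrincipalIdealRing (X.presheaf.stalk x) := by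
  haveI := hreg x
  have h1 : (IsLocalRing.maximalIdeal (X.presheaf.stalk x)).IsPrincipal :=
    Groth.L21.SmoothDescent.isPrincipal_of_dim_le_one ((Groth.L21.SmoothDescent.ringKrullDim_stalk_le x).trans hd)
  exact ((tfae_of_isNoetherianRing_of_isLocalRing_of_isDomain (R := X.presheaf.stalk x)).out 4 0
    (a := (IsLocalRing.maximalIdeal (X.presheaf.stalk x)).IsPrincipal) (b := IsPrincipalIdealRing (X.presheaf.stalk x))).1 h1

include hreg hd in
/-- A coherent submodule of a locally free module is locally free. -/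
theorem locFree_of_mono {r : ℕ} {I E : X.Modules} (φ : I ⟶ E) [Mono φ] (hI : Coh.IsCoh I)
    (hE : FlatMod.IsFinLocFreeOfRank r E) : FlatMod.IsFinLocFreeOfRank (rk I) I := by
  have hflat : FlatMod.IsFlat I := fun x => by
    haveI := isPrincipalIdealRing_stalk hreg hd x
    obtain ⟨θ⟩ := Groth.L22.CurveDeg.nonempty_stalk_equiv hE x
    haveI := Groth.L06.SupportStalk.finite_stalk I hI x
    let ψ := θ.symm.toLinearMap.comp (sm φ x)
    have hψ : Function.Injective ψ := θ.symm.injective.comp (injective_sm φ x)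
    haveI : Module.IsTorsionFree (X.presheaf.stalk x) (I.presheaf.stalk x) :=
      hψ.moduleIsTorsionFree ψ (fun a m => map_smul ψ a m)
    haveI : Module.Free (X.presheaf.stalk x) (I.presheaf.stalk x) := Module.free_of_finite_type_torsion_free'
    exact inferInstanceAs (Module.Flat (X.presheaf.stalk x) (I.presheaf.stalk x))
  obtain ⟨n, hn⟩ := Groth.L21.Disc.exists_rank (Groth.L15.CohFlat.isFinLocFree_of_isCoh_isFlat I hI hflat)
  rwa [rk_eq hn]

theorem finite_generic {M : X.Modules} (hM : Coh.IsCoh M) :
    Module.Finite X.functionField (M.presheaf.stalk (genericPoint X)) :=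
  Groth.L06.SupportStalk.finite_stalk M hM (genericPoint X)

/-- Generic ranks are additive. -/
theorem rk_add {S : ShortComplex X.Modules} (hS : S.ShortExact) (h₂ : Coh.IsCoh S.X₂) :
    rk S.X₂ = rk S.X₁ + rk S.X₃ := by
  have hm := hS.map_of_exact (Groth.L00.Stk.F X (genericPoint X))
  let f : S.X₁.presheaf.stalk (genericPoint X) →ₗ[X.functionField] S.X₂.presheaf.stalk (genericPoint X) :=
    sm S.f (genericPoint X)
  let g : S.X₂.presheaf.stalk (genericPoint X) →ₗ[X.functionField] S.X₃.presheaf.stalk (genericPoint X) :=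
    sm S.g (genericPoint X)
  have hf : Function.Injective f := (ModuleCat.mono_iff_injective _).1 hm.mono_f
  have hg : Function.Surjective g := (ModuleCat.epi_iff_surjective _).1 hm.epi_g
  have he : LinearMap.range f = LinearMap.ker g := hm.exact.moduleCat_range_eq_ker
  haveI := finite_generic h₂
  have h1 := g.finrank_range_add_finrank_ker
  rw [LinearMap.range_eq_top.2 hg, finrank_top, ← he, LinearMap.finrank_range_of_inj hf] at h1
  show Module.finrank X.functionField (S.X₂.presheaf.stalk (genericPoint X)) =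
    Module.finrank X.functionField (S.X₁.presheaf.stalk (genericPoint X)) +
      Module.finrank X.functionField (S.X₃.presheaf.stalk (genericPoint X))
  omega

theorem rk_le_of_mono {I E : X.Modules} (φ : I ⟶ E) [Mono φ] (hI : Coh.IsCoh I) (hE : Coh.IsCoh E) :
    rk I ≤ rk E := by
  have := rk_add (S := ShortComplex.mk φ (cokernel.π φ) (cokernel.condition φ))
    ⟨ShortComplex.exact_of_g_is_cokernel _ (cokernelIsCokernel φ)⟩ hE
  simp only at this
  omega

theorem subsingleton_generic_of_rk_eq_zero {M : X.Modules} (hM : Coh.IsCoh M) (h0 : rk M = 0) :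
    Subsingleton (M.presheaf.stalk (genericPoint X)) := by
  haveI := finite_generic hM
  exact Module.finrank_zero_iff.1 (show Module.finrank X.functionField _ = 0 from h0)

include hd in
theorem suppClosed_of_rk_eq_zero {M : X.Modules} (hM : Coh.IsCoh M) (h0 : rk M = 0) : SuppClosed M := by
  intro x hx
  have hxη : genericPoint X = x :=
    Groth.L22.CurveDeg.eq_of_specializes_nonclosed hd hx ((genericPoint_spec X).specializes trivial)
  subst hxη
  exact subsingleton_generic_of_rk_eq_zero hM h0

section Deg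

variable (k : Type u) [Field k] [X.Over (Spec (CommRingCat.of k))] [IsProper (X ↘ Spec (CommRingCat.of k))]

/-- Degree with the generic rank. -/
def dg (M : X.Modules) : ℤ := Curv2.deg k X M (rk M)

omit [IsLocallyNoetherian X] [IsProper (X ↘ Spec (CommRingCat.of k))] in
theorem dg_eq {r : ℕ} {E : X.Modules} (hE : FlatMod.IsFinLocFreeOfRank r E) : Curv2.deg k X E r = dg k E := by
  rw [dg, rk_eq hE]

include hd in
theorem dg_add {S : ShortComplex X.Modules} (hS : S.ShortExact)
    (h₁ : Coh.IsCoh S.X₁) (h₂ : Coh.IsCoh S.X₂) (h₃ : Coh.IsCoh S.X₃) :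
    dg k S.X₂ = dg k S.X₁ + dg k S.X₃ := by
  simp only [dg, Curv2.deg, Groth.L21.RR.euler_add k hd hS h₁ h₂ h₃, rk_add hS h₂, Nat.cast_add]
  ring

include hd in
theorem dg_nonneg_of_rk_eq_zero {M : X.Modules} (hM : Coh.IsCoh M) (h0 : rk M = 0) :
    0 ≤ dg k M ∧ (dg k M = 0 → IsZero M) := by
  haveI := Groth.L21.RR.isNoetherian_of_proper (X := X) k
  have hs := suppClosed_of_rk_eq_zero hd hM h0
  have he : dg k M = (h k 0 M : ℤ) := by
    rw [dg, Curv2.deg, h0, Groth.L21.RR.euler_eq_h0_of_suppClosed k hs]
    simp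
  refine ⟨by rw [he]; positivity, fun hz => ?_⟩
  rw [he] at hz
  haveI := Groth.L21.RR.finite_HH' k hM 0
  haveI : Subsingleton (Coh.HH X M 0) := Module.finrank_zero_iff.1 (by exact_mod_cast hz)
  haveI : Subsingleton Γ(M, ⊤) := (Groth.L21.RR.e0 M).symm.toEquiv.subsingleton
  rw [Groth.L21.Mod.isZero_iff_stalk_subsingleton]
  intro x
  refine ⟨fun a b => ?_⟩
  obtain ⟨s, hs', -⟩ := Groth.L21.RR.exists_section_germ hs x a
  obtain ⟨t, ht, -⟩ := Groth.L21.RR.exists_section_germ hs x b
  rw [← hs', ← ht, Subsingleton.elim s t]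

attribute [local irreducible] dg rk

include hd in
/-- A full rank subsheaf has smaller degree unless it is everything. -/
theorem dg_le_of_mono {I E : X.Modules} (φ : I ⟶ E) [Mono φ] (hI : Coh.IsCoh I) (hE : Coh.IsCoh E)
    (hr : rk I = rk E) : dg k I ≤ dg k E ∧ (dg k I = dg k E → IsIso φ) := by
  have hC : Coh.IsCoh (cokernel φ) := (Groth.L16.CohKernel.isCoh_kernel_cokernel hI hE φ).2
  let S := ShortComplex.mk φ (cokernel.π φ) (cokernel.condition φ)
  have hS : S.ShortExact := ⟨ShortComplex.exact_of_g_is_cokernel _ (cokernelIsCokernel φ)⟩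
  have hr' : rk I + rk (cokernel φ) = rk E := (rk_add hS hE).symm
  obtain ⟨h1, h2⟩ := dg_nonneg_of_rk_eq_zero hd k hC (by omega)
  have ha : dg k E = dg k I + dg k (cokernel φ) := dg_add hd k hS hI hE hC
  refine ⟨by omega, fun he => ?_⟩
  haveI : Epi φ := Preadditive.epi_of_isZero_cokernel φ (h2 (by omega))
  exact isIso_of_mono_of_epi φ

end Deg

end Groth.L21.Bundle
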