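import Groth.Agent.L21.Bundle.Split
import Groth.Agent.L21.Bundle.Sections

/-!
`Hom` bundles on a smooth proper curve: Serre duality in the form `h¹(E) = h⁰(Ω ⊗ E^∨)`, the degree
of the dual, and existence of homomorphisms from Riemann–Roch.
-/

set_option autoImplicit false
set_option backward.isDefEq.respectTransparency false
set_option linter.style.haveILetI false
universe u

open CategoryTheory CategoryTheory.Limits AlgebraicGeometry TopologicalSpace MonoidalCategory Opposite

noncomputable section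

namespace Groth.L21.Bundle

open Groth.L00.Tensor Groth.L17.ChangeRings
open Groth.L21.RR (h hk e0 e0_hmap e0_smul)
open Groth.L16.CohLinear (hmap hmap_comp hmap_id)
open Groth.L18.GenLoc (secOf homOfSection_secOf secOf_homOfSection tens tens_smul_left)
open Groth.L03.ShStab.Scalar (sc)

section General

variable {X : Scheme.{u}}

theorem tens_hom_ext {M N P : X.Modules} {φ ψ : CohB1.tensorMod M N ⟶ P}
    (h : ∀ (V : X.Opens) (m : Γ(M, V)) (n : Γ(N, V)), φ.app V (tens M N V m n) = ψ.app V (tens M N V m n)) :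
    φ = ψ := by
  refine ((Groth.L17.ClosedPush.shAdj X).homEquiv (pre M ⊗ pre N) P).injective ?_
  refine ((Groth.L17.ClosedPush.shAdj X).homEquiv_unit ..).trans (Eq.trans ?_ ((Groth.L17.ClosedPush.shAdj X).homEquiv_unit ..).symm)
  exact PresheafOfModules.hom_ext fun V => ModuleCat.MonoidalCategory.tensor_ext fun m n => h V.unop m n

theorem sc_app (M : X.Modules) (r : Γ(X, ⊤)) (V : X.Opens) (m : Γ(M, V)) :
    (sc M r).app V m = (Groth.L18.Frame.ro (U := (⊤ : X.Opens)) le_top r : Γ(X, V)) • m := rfl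

theorem sc_natural {M N : X.Modules} (f : M ⟶ N) (r : Γ(X, ⊤)) : sc M r ≫ f = f ≫ sc N r := by
  refine Scheme.Modules.hom_ext _ _ fun V => ?_
  ext m
  exact f.app_smul _ _

/-- Scalars pass through the tensor product. -/
theorem tensorMap_sc (M N : X.Modules) (r : Γ(X, ⊤)) :
    tensorMap (sc M r) (𝟙 N) = sc (CohB1.tensorMod M N) r := by
  refine tens_hom_ext fun V m n => ?_
  rw [Groth.L18.Ample.tensorMap_tens, sc_app, sc_app]
  exact tens_smul_left _ m n

/-- A homomorphism as a section of the sheaf of homomorphisms. -/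
def homH0 (B A : X.Modules) [ModSite.HasSheafHom (O := X.sheaf) B] :
    (B ⟶ A) ≃ Coh.HH X ((homMod B).obj A) 0 :=
  (((tensorUnitLeft B).symm.homFromEquiv).trans
    (((ModSite.sheafHomAdj (O := X.sheaf) B).ofNatIsoLeft (tensorRightBiIso B).symm).homEquiv
      (Coh.structureModule X) A)).trans
    ({ toFun := secOf
       invFun := Groth.L16.homOfSection _
       left_inv := homOfSection_secOf
       right_inv := secOf_homOfSection : (Coh.structureModule X ⟶ (homMod B).obj A) ≃ _ }.trans
      (e0 ((homMod B).obj A)).symm.toEquiv)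

theorem homH0_comp {B A A' : X.Modules} [ModSite.HasSheafHom (O := X.sheaf) B] (φ : B ⟶ A) (g : A ⟶ A') :
    homH0 B A' (φ ≫ g) = hmap ((homMod B).map g) 0 (homH0 B A φ) := by
  let a := (ModSite.sheafHomAdj (O := X.sheaf) B).ofNatIsoLeft (tensorRightBiIso B).symm
  have h1 : ∀ (A : X.Modules) (φ : B ⟶ A),
      e0 ((homMod B).obj A) (homH0 B A φ) = secOf (a.homEquiv (Coh.structureModule X) A ((tensorUnitLeft B).hom ≫ φ)) :=
    fun A φ => (e0 ((homMod B).obj A)).apply_symm_apply _
  apply (e0 ((homMod B).obj A')).injective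
  rw [h1, e0_hmap, h1, ← Category.assoc, a.homEquiv_naturality_right]
  rfl

theorem homH0_add {B A : X.Modules} [ModSite.HasSheafHom (O := X.sheaf) B] (φ ψ : B ⟶ A) :
    homH0 B A (φ + ψ) = homH0 B A φ + homH0 B A ψ := by
  let a := (ModSite.sheafHomAdj (O := X.sheaf) B).ofNatIsoLeft (tensorRightBiIso B).symm
  have h1 : ∀ (φ : B ⟶ A),
      e0 ((homMod B).obj A) (homH0 B A φ) = secOf (a.homEquiv (Coh.structureModule X) A ((tensorUnitLeft B).hom ≫ φ)) :=
    fun φ => (e0 ((homMod B).obj A)).apply_symm_apply _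
  apply (e0 ((homMod B).obj A)).injective
  rw [(e0 ((homMod B).obj A)).map_add, h1, h1, h1, Preadditive.comp_add, a.homEquiv_unit, a.homEquiv_unit, a.homEquiv_unit,
    Functor.map_add, Preadditive.comp_add]
  rfl

/-- Cohomology of isomorphic modules. -/
theorem subsingleton_of_iso {M N : X.Modules} (e : M ≅ N) (n : ℕ) [hs : Subsingleton (Coh.HH X M n)] :
    Subsingleton (Coh.HH X N n) := by
  refine ⟨fun x y => ?_⟩
  have hx : ∀ z, hmap e.hom n (hmap e.inv n z) = z := fun z => by
    rw [← hmap_comp, e.inv_hom_id, hmap_id]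
  rw [← hx x, ← hx y]
  exact congrArg _ (hs.elim _ _)

/-- Tensoring with the structure sheaf. -/
def unitRightIso : tensorRightF (Coh.structureModule X) ≅ 𝟭 X.Modules :=
  NatIso.ofComponents (fun M => Groth.L00.Tensor.tensorUnitRight M)
    (fun g => Groth.L20.ResDescent.tensorUnitRight_natural g)

/-- Twisting by an invertible module and by an inverse. -/
def twistEquiv {L L' : X.Modules} (e : CohB1.tensorMod L' L ≅ Coh.structureModule X) :
    X.Modules ≌ X.Modules :=
  CategoryTheory.Equivalence.mk (tensorRightF L) (tensorRightF L')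
    ((Functor.isoWhiskerLeft _ (tensorFlipIso L') ≪≫ tripleIso L' L ≪≫ rightMapIso e ≪≫
      unitRightIso).symm)
    (Functor.isoWhiskerLeft _ (tensorFlipIso L) ≪≫ tripleIso L L' ≪≫ rightMapIso (tensorComm L L' ≪≫ e) ≪≫
      unitRightIso)

/-- `Hom(L, -)` is twisting by an inverse. -/
def homModTwist {L L' : X.Modules} [ModSite.HasSheafHom (O := X.sheaf) L]
    (e : CohB1.tensorMod L' L ≅ Coh.structureModule X) : homMod L ≅ tensorRightF L' :=
  ((ModSite.sheafHomAdj (O := X.sheaf) L).ofNatIsoLeft (tensorRightBiIso L).symm).rightAdjointUniq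
    (twistEquiv e).toAdjunction

/-- `Hom(E^∨, -) ≅ - ⊗ E`. -/
def homDualTwist (E : X.Modules) [ModSite.HasSheafHom (O := X.sheaf) E]
    [ModSite.HasSheafHom (O := X.sheaf) (Groth.L17.Duality.dual E)] (hE : FlatMod.IsFinLocFree E) :
    homMod (Groth.L17.Duality.dual E) ≅ tensorRightF E :=
  ((ModSite.sheafHomAdj (O := X.sheaf) (Groth.L17.Duality.dual E)).ofNatIsoLeft
    (tensorRightBiIso (Groth.L17.Duality.dual E)).symm).rightAdjointUniq (Groth.L17.Duality.dualAdj E hE)

end General

variable {X : Scheme.{u}} [IsIntegral X] [IsLocallyNoetherian X] (k : Type u) [Field k]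
  [X.Over (Spec (CommRingCat.of k))] [IsProper (X ↘ Spec (CommRingCat.of k))]
  [Smooth (X ↘ Spec (CommRingCat.of k))]
  (hd : topologicalKrullDim X = 1) (h0 : h k 0 (Coh.structureModule X) = 1)

include hd h0 in
/-- Serre duality as an equality of dimensions. -/
theorem h0_homMod_omega {r : ℕ} {E : X.Modules} [ModSite.HasSheafHom (O := X.sheaf) E]
    (hE : FlatMod.IsFinLocFreeOfRank r E) :
    h k 0 ((homMod E).obj (omega (X := X) k)) = h k 1 E := by
  haveI := Groth.L21.RR.isNoetherian_of_proper (X := X) k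
  have hEf := Groth.L22.CurveDeg.isFinLocFree_of_rank hE
  let η := Groth.L17.Duality.tensorDualIso E hEf
  have hsc : ∀ r : Γ(X, ⊤), (homMod E).map (sc (omega (X := X) k) r) = sc ((homMod E).obj (omega (X := X) k)) r := by
    intro r
    rw [← cancel_epi (η.hom.app (omega (X := X) k))]
    refine (η.hom.naturality (sc (omega (X := X) k) r)).symm.trans ?_
    refine (congrArg (· ≫ η.hom.app (omega (X := X) k)) (tensorMap_sc _ _ r)).trans ?_
    exact sc_natural _ r
  let ψ : Coh.HH X ((homMod E).obj (omega (X := X) k)) 0 →ₗ[k]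
      (Coh.HH X E 1 →ₗ[k] Coh.HH X (omega (X := X) k) 1) :=
    { toFun := fun x => hk k ((homH0 E (omega (X := X) k)).symm x) 1
      map_add' := fun x y => by
        obtain ⟨a, rfl⟩ := (homH0 E (omega (X := X) k)).surjective x
        obtain ⟨b, rfl⟩ := (homH0 E (omega (X := X) k)).surjective y
        rw [← homH0_add]
        simp only [Equiv.symm_apply_apply]
        exact LinearMap.ext fun z => Groth.L21.RR.hmap_add a b 1 z
      map_smul' := fun c x => by
        obtain ⟨a, rfl⟩ := (homH0 E (omega (X := X) k)).surjective x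
        have h1 : c • homH0 E (omega (X := X) k) a =
            homH0 E (omega (X := X) k) (a ≫ sc _ (Coh.toGlobal (X ↘ Spec (CommRingCat.of k)) c)) := by
          rw [homH0_comp, hsc]
          rfl
        rw [h1]
        simp only [Equiv.symm_apply_apply, RingHom.id_apply]
        refine LinearMap.ext fun z => (hmap_comp a _ 1 z).trans ?_
        exact hmap_sc _ _ 1 _ }
  have hbij : Function.Bijective ψ := by
    constructor
    · intro x y hxy
      exact (homH0 E (omega (X := X) k)).symm.injective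
        ((existsUnique_hom_of_functional k hd h0 hE (ψ y)).unique hxy rfl)
    · intro lam
      obtain ⟨φ, hφ, -⟩ := existsUnique_hom_of_functional k hd h0 hE lam
      exact ⟨homH0 E _ φ, by
        show hk k ((homH0 E _).symm _) 1 = lam
        rw [Equiv.symm_apply_apply]; exact hφ⟩
  haveI := Groth.L21.RR.finite_HH' k (isCoh_of_rank hE) 1
  haveI := Groth.L21.RR.finite_HH' k (isCoh_of_rank (locFree_one
    (Groth.L21.Duality.isInvertible_omega (X := X) (k := k) hd))) 1
  show Module.finrank k _ = Module.finrank k _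
  rw [(LinearEquiv.ofBijective ψ hbij).finrank_eq, Module.finrank_linearMap]
  show _ * h k 1 (omega (X := X) k) = _
  rw [omega, (Groth.L21.Duality.omega_invariants (k := k) hd).2.1, h0, mul_one]

attribute [local irreducible] dg rk

include hd h0 in
theorem euler_structure : Curv2.euler k X (Coh.structureModule X) = 1 - (Curv2.genus k X : ℤ) := by
  rw [Groth.L21.RR.euler_eq k hd.le, h0]
  rfl

include hd h0 in
/-- Riemann–Roch for bundles. -/
theorem euler_bundle {r : ℕ} {E : X.Modules} (hE : FlatMod.IsFinLocFreeOfRank r E) :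
    Curv2.euler k X E = dg k E + (r : ℤ) * (1 - (Curv2.genus k X : ℤ)) := by
  rw [← dg_eq k hE, Curv2.deg, euler_structure k hd h0]
  ring

omit [IsIntegral X] [IsLocallyNoetherian X] [X.Over (Spec (CommRingCat.of k))]
  [IsProper (X ↘ Spec (CommRingCat.of k))] [Smooth (X ↘ Spec (CommRingCat.of k))] in
set_option maxHeartbeats 800000 in
/-- The dual of a rank `r` bundle has rank `r`. -/
theorem isFinLocFreeOfRank_dual {r : ℕ} {E : X.Modules} [ModSite.HasSheafHom (O := X.sheaf) E]
    (hE : FlatMod.IsFinLocFreeOfRank r E) : FlatMod.IsFinLocFreeOfRank r (Groth.L17.Duality.dual E) := by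
  intro x
  obtain ⟨U, hxU, ⟨e⟩⟩ := hE x
  obtain ⟨s, hs⟩ := Groth.L17.FinLocBases.exists_isBasis E e
  let W : X.Opens := U.ι ''ᵁ ⊤
  have hW : W = U := (Scheme.Hom.image_top_eq_opensRange U.ι).trans U.opensRange_ι
  obtain ⟨e'⟩ := Groth.L20.ResDescent.nonempty_iso_free (le_of_eq (W.ι_preimage_self).symm)
    ((Groth.L19.ProjBdl.isBasisOn_of_locBases (M := Groth.L17.Duality.dual E)
      (Groth.L17.LocBases.isBasis_dualBasis hs)).pullback W.ι)
  exact ⟨W, hW.symm ▸ hxU, ⟨(Scheme.Modules.restrictFunctorIsoPullback W.ι).app _ ≪≫ e'⟩⟩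

include hd h0 in
/-- Euler characteristic of `Ω ⊗ E^∨`. -/
theorem euler_dual_omega {r : ℕ} {E : X.Modules} [ModSite.HasSheafHom (O := X.sheaf) E]
    (hE : FlatMod.IsFinLocFreeOfRank r E) :
    Curv2.euler k X (CohB1.tensorMod (Groth.L17.Duality.dual E) (omega (X := X) k)) = -Curv2.euler k X E := by
  haveI := Groth.L21.RR.isNoetherian_of_proper (X := X) k
  have hreg := Groth.L21.Smooth.regular_stalk (k := k) (X ↘ Spec (CommRingCat.of k))
  have hΩ := Groth.L21.Duality.isInvertible_omega (X := X) (k := k) hd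
  have hEf := Groth.L22.CurveDeg.isFinLocFree_of_rank hE
  have hD := isFinLocFreeOfRank_dual hE
  have hF := locFree_twist hd hreg hΩ hD
  haveI := Groth.L17.Duality.hasSheafHom (omega (X := X) k)
  haveI := Groth.L17.Duality.hasSheafHom (Groth.L17.Duality.dual E)
  haveI := Groth.L17.Duality.hasSheafHom (CohB1.tensorMod (Groth.L17.Duality.dual E) (omega (X := X) k))
  obtain ⟨Ω', hΩ', ⟨e⟩⟩ := Groth.L08.Cube.exists_inverse hΩ
  let i0 : CohB1.tensorMod (Groth.L17.Duality.dual E) (omega (X := X) k) ≅ (homMod E).obj (omega (X := X) k) :=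
    tensorComm _ _ ≪≫ (Groth.L17.Duality.tensorDualIso E hEf).app (omega (X := X) k)
  let i1 : (homMod (CohB1.tensorMod (Groth.L17.Duality.dual E) (omega (X := X) k))).obj (omega (X := X) k) ≅ E :=
    (Groth.L17.Duality.homTensorIso (omega (X := X) k) (Groth.L17.Duality.dual E)).symm.app _ ≪≫
      (homMod (omega (X := X) k)).mapIso ((homDualTwist E hEf).app (omega (X := X) k)) ≪≫
      (homModTwist (tensorComm Ω' (omega (X := X) k) ≪≫ e)).app _ ≪≫
      Groth.L00.Tensor.tensorIso (tensorComm (omega (X := X) k) E) (Iso.refl Ω') ≪≫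
      Groth.L00.Tensor.tensorAssoc E _ Ω' ≪≫ Groth.L00.Tensor.tensorIso (Iso.refl E) e ≪≫
      Groth.L00.Tensor.tensorUnitRight E
  have h1 := h0_homMod_omega k hd h0 hF
  rw [Groth.L21.RR.h_congr k i1 0] at h1
  have h2 := h0_homMod_omega k hd h0 hE
  rw [← Groth.L21.RR.h_congr k i0 0] at h2
  rw [Groth.L21.RR.euler_eq k hd.le, Groth.L21.RR.euler_eq k hd.le, ← h1, h2]
  ring

include hd h0 in
/-- Degree of the dual. -/
theorem dg_dual {r : ℕ} {E : X.Modules} [ModSite.HasSheafHom (O := X.sheaf) E]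
    (hE : FlatMod.IsFinLocFreeOfRank r E) : dg k (Groth.L17.Duality.dual E) = -dg k E := by
  have hreg := Groth.L21.Smooth.regular_stalk (k := k) (X ↘ Spec (CommRingCat.of k))
  have hΩ := Groth.L21.Duality.isInvertible_omega (X := X) (k := k) hd
  have hD := isFinLocFreeOfRank_dual hE
  have h1 := euler_dual_omega k hd h0 hE
  rw [euler_bundle k hd h0 hE, euler_bundle k hd h0 (locFree_twist hd hreg hΩ hD),
    dg_twist k hd hΩ (isCoh_of_rank hD), rk_eq hD, dg_eq k (locFree_one hΩ), dg_omega k hd h0] at h1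
  linarith

include hd h0 in
/-- Riemann–Roch for `Hom(B, A)`. -/
theorem euler_homMod {a b : ℕ} {A B : X.Modules} [ModSite.HasSheafHom (O := X.sheaf) B]
    (hA : FlatMod.IsFinLocFreeOfRank a A) (hB : FlatMod.IsFinLocFreeOfRank b B) :
    Curv2.euler k X ((homMod B).obj A) =
      (b : ℤ) * dg k A - (a : ℤ) * dg k B + (a : ℤ) * b * (1 - (Curv2.genus k X : ℤ)) := by
  have hBf := Groth.L22.CurveDeg.isFinLocFree_of_rank hB
  have hD := isFinLocFreeOfRank_dual hB
  have hcA := isCoh_of_rank hA
  rw [← Groth.L21.RR.euler_congr k ((Groth.L17.Duality.tensorDualIso B hBf).app A),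
    show (tensorRightF (Groth.L17.Duality.dual B)).obj A = CohB1.tensorMod A (Groth.L17.Duality.dual B) from rfl,
    Groth.L21.RR.euler_congr k (tensorComm A (Groth.L17.Duality.dual B))]
  have h := Groth.L22.CurveDeg.phi_eq_of_integral k hd hD hcA
  rw [Groth.L22.CurveDeg.phi, len_eq_rk hcA, rk_eq hA, dg_eq k hD, dg_dual k hd h0 hB, euler_bundle k hd h0 hA] at h
  linear_combination h

include hd h0 in
/-- Riemann–Roch gives homomorphisms. -/
theorem exists_hom_ne_zero {a b : ℕ} {A B : X.Modules}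
    (hA : FlatMod.IsFinLocFreeOfRank a A) (hB : FlatMod.IsFinLocFreeOfRank b B)
    (hpos : 0 < (b : ℤ) * dg k A - (a : ℤ) * dg k B + (a : ℤ) * b * (1 - (Curv2.genus k X : ℤ))) :
    ∃ φ : B ⟶ A, φ ≠ 0 := by
  haveI := Groth.L21.RR.isNoetherian_of_proper (X := X) k
  haveI := Groth.L17.Duality.hasSheafHom B
  rw [← euler_homMod k hd h0 hA hB, Groth.L21.RR.euler_eq k hd.le] at hpos
  haveI : Nontrivial (Coh.HH X ((homMod B).obj A) 0) := by
    by_contra hn
    rw [not_nontrivial_iff_subsingleton] at hn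
    rw [Groth.L21.RR.h_eq_zero_of_subsingleton k hn] at hpos
    omega
  obtain ⟨x, hx⟩ := exists_ne (homH0 B A 0)
  obtain ⟨φ, rfl⟩ := (homH0 B A).surjective x
  exact ⟨φ, fun h => hx (by rw [h])⟩

end Groth.L21.Bundle
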