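import Groth.Agent.L21.Bundle.Results
import Groth.Agent.L21.RR.Twist
import Groth.Agent.L22.CurveDeg.Devissage
import Groth.Agent.L03.Euler.Twist
import Groth.Agent.L08.Cube.Inverse

/-!
Twisting by an invertible module: ranks, degrees and slope bounds.
-/

set_option autoImplicit false
set_option backward.isDefEq.respectTransparency false
set_option linter.style.haveILetI false
universe u

open CategoryTheory CategoryTheory.Limits AlgebraicGeometry

noncomputable section

namespace Groth.L21.Bundle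

open Groth.L00.Tensor (tensorRightF tensorComm tensorAssoc tensorIso tensorUnitRight)

variable {X : Scheme.{u}} [IsIntegral X] [IsLocallyNoetherian X]

omit [IsIntegral X] [IsLocallyNoetherian X] in
theorem mono_twist {N : X.Modules} (hN : PicF.IsInvertible N) {G M : X.Modules} (i : G ⟶ M) [Mono i] :
    Mono ((tensorRightF N).map i) :=
  (Groth.L03.Euler.shortExact_tensor hN (shortExact_cokernel i)).mono_f

theorem coh_twist {N : X.Modules} (hN : PicF.IsInvertible N) {M : X.Modules} (hM : Coh.IsCoh M) :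
    Coh.IsCoh (CohB1.tensorMod M N) :=
  Groth.L16.CohSupport.isCoh_of_iso (tensorComm N M) (Groth.L22.CurveDeg.isCoh_tensor_locFree (locFree_one hN) hM)

theorem rk_twist {N : X.Modules} (hN : PicF.IsInvertible N) (M : X.Modules) :
    rk (CohB1.tensorMod M N) = rk M := by
  obtain ⟨e, he⟩ := Groth.L21.RR.exists_frame_stalk hN (genericPoint X)
  rw [rk_iso (tensorComm M N)]
  exact (Groth.L21.RR.tensorStalkEquiv M he).finrank_eq

omit [IsLocallyNoetherian X] in
theorem len_eq_rk {M : X.Modules} (hM : Coh.IsCoh M) :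
    (Groth.L16.CohSupport.len (genericPoint X) M).toNat = rk M := by
  letI : Field (X.presheaf.stalk (genericPoint X)) := inferInstanceAs (Field X.functionField)
  haveI : Module.Finite (X.presheaf.stalk (genericPoint X)) (M.presheaf.stalk (genericPoint X)) :=
    Groth.L06.SupportStalk.finite_stalk M hM (genericPoint X)
  rw [Groth.L16.CohSupport.len, Module.length_eq_finrank, ENat.toNat_natCast]
  rfl

variable (k : Type u) [Field k] [X.Over (Spec (CommRingCat.of k))] [IsProper (X ↘ Spec (CommRingCat.of k))]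
  (hd : topologicalKrullDim X = 1)

include hd in
/-- Degree of a twist. -/
theorem dg_twist {N : X.Modules} (hN : PicF.IsInvertible N) {M : X.Modules} (hM : Coh.IsCoh M) :
    dg k (CohB1.tensorMod M N) = dg k M + (rk M : ℤ) * Curv2.deg k X N 1 := by
  have h := Groth.L22.CurveDeg.phi_eq_of_integral k hd (locFree_one hN) hM
  rw [len_eq_rk hM, Groth.L22.CurveDeg.phi,
    Groth.L03.Euler.euler_iso (tensorComm N M)] at h
  rw [dg, dg, rk_twist hN M]
  simp only [Curv2.deg] at h ⊢
  push_cast at h ⊢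
  linarith

include hd in
theorem deg_inverse {N N' : X.Modules} (hN : PicF.IsInvertible N) (hN' : PicF.IsInvertible N')
    (e : CohB1.tensorMod N N' ≅ Coh.structureModule X) : Curv2.deg k X N' 1 = -Curv2.deg k X N 1 := by
  have h := dg_twist k hd hN' (isCoh_of_rank (locFree_one hN))
  have hO := locFree_one (X := X) (Groth.L18.Ample.isInvertible_structureModule X)
  rw [dg_iso k e, ← dg_eq k hO, ← dg_eq k (locFree_one hN), rk_eq (locFree_one hN)] at h
  have h0 : Curv2.deg k X (Coh.structureModule X) 1 = 0 := by rw [Curv2.deg]; simp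
  rw [h0] at h
  push_cast at h
  linarith

include hd in
/-- A subsheaf of a twist is the twist of a subsheaf. -/
theorem exists_untwist {N : X.Modules} (hN : PicF.IsInvertible N) {M G : X.Modules}
    (i : G ⟶ CohB1.tensorMod M N) [Mono i] (hG : Coh.IsCoh G) :
    ∃ (G₀ : X.Modules) (j : G₀ ⟶ M), Mono j ∧ Coh.IsCoh G₀ ∧ rk G₀ = rk G ∧
      dg k G = dg k G₀ + (rk G₀ : ℤ) * Curv2.deg k X N 1 := by
  obtain ⟨N', hN', ⟨e⟩⟩ := Groth.L08.Cube.exists_inverse hN
  let θ : CohB1.tensorMod (CohB1.tensorMod M N) N' ≅ M :=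
    tensorAssoc M N N' ≪≫ tensorIso (Iso.refl M) e ≪≫ tensorUnitRight M
  haveI := mono_twist hN' i
  refine ⟨(tensorRightF N').obj G, (tensorRightF N').map i ≫ θ.hom, mono_comp _ _, coh_twist hN' hG,
    rk_twist hN' G, ?_⟩
  show dg k G = dg k (CohB1.tensorMod G N') + (rk (CohB1.tensorMod G N') : ℤ) * _
  rw [rk_twist hN' G, dg_twist k hd hN' hG, deg_inverse k hd hN hN' e]
  ring

attribute [local irreducible] dg rk

include hd in
theorem bd_twist {N : X.Modules} (hN : PicF.IsInvertible N) {E : X.Modules} {a : ℤ} {b : ℕ}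
    (h : Bd k E a b) : Bd k (CohB1.tensorMod E N) (a + (b : ℤ) * Curv2.deg k X N 1) b := by
  intro G i hi hG
  haveI := hi
  obtain ⟨G₀, j, hj, hc, hr, hdG⟩ := exists_untwist k hd hN i hG
  have h1 := h G₀ j hj hc
  rw [hdG, ← hr]
  nlinarith [h1]

include hd in
theorem sbd_twist {N : X.Modules} (hN : PicF.IsInvertible N) {E : X.Modules} {a : ℤ} {b : ℕ}
    (h : SBd k E a b) : SBd k (CohB1.tensorMod E N) (a + (b : ℤ) * Curv2.deg k X N 1) b := by
  intro G i hi hG hpos
  haveI := hi
  obtain ⟨G₀, j, hj, hc, hr, hdG⟩ := exists_untwist k hd hN i hG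
  have h1 := h G₀ j hj hc (by omega)
  rw [hdG, ← hr]
  nlinarith [h1]

include hd in
theorem locFree_twist (hreg : ∀ x : X, IsRegularLocalRing (X.presheaf.stalk x))
    {N : X.Modules} (hN : PicF.IsInvertible N) {r : ℕ} {E : X.Modules}
    (hE : FlatMod.IsFinLocFreeOfRank r E) : FlatMod.IsFinLocFreeOfRank r (CohB1.tensorMod E N) := by
  have hflat : FlatMod.IsFlat (CohB1.tensorMod E N) := fun x => by
    obtain ⟨e, he⟩ := Groth.L21.RR.exists_frame_stalk hN x
    obtain ⟨θ⟩ := Groth.L22.CurveDeg.nonempty_stalk_equiv hE x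
    exact Module.Flat.of_linearEquiv
      (((Groth.L00.Stk.F X x).mapIso (tensorComm E N)).toLinearEquiv ≪≫ₗ
        Groth.L21.RR.tensorStalkEquiv E he ≪≫ₗ θ.symm)
  have hcE := isCoh_of_rank hE
  obtain ⟨n, hn⟩ := Groth.L21.Disc.exists_rank
    (Groth.L15.CohFlat.isFinLocFree_of_isCoh_isFlat _ (coh_twist hN hcE) hflat)
  have hn' : rk (CohB1.tensorMod E N) = n := rk_eq hn
  rw [rk_twist hN, rk_eq hE] at hn'
  exact hn' ▸ hn

end Groth.L21.Bundle
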