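import Groth.Agent.L21.Bundle.Results
import Groth.Agent.L21.Duality.Main
import Groth.Agent.L21.RR.Finite
import Groth.Agent.L21.RR.Mul
import Groth.Agent.L16.NegPow.Gen
import Groth.Agent.L18.AmplePull
import Groth.Agent.L22.VeryAmple.Over

/-!
Serre duality for vector bundles on a smooth proper curve: `φ ↦ H¹(φ)` identifies `Hom(E, Ω)` with the
functionals `H¹(E) → H¹(Ω)`.
-/

set_option autoImplicit false
set_option backward.isDefEq.respectTransparency false
set_option linter.style.haveILetI false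
universe u

open CategoryTheory CategoryTheory.Limits AlgebraicGeometry TopologicalSpace Opposite

noncomputable section

namespace Groth.L21.Bundle

open Groth.L21.RR (SuppClosed h hk e0 mulS mulS_app)
open Groth.L16.CohLinear (hmap hmap_comp hmap_id)
open Groth.L18.GenLoc (tens tens_smul_right)
open Groth.L03.ShStab.Scalar (sc)

section General

variable {X : Scheme.{u}}

/-- Multiplication by a global function acts on cohomology as that function. -/
theorem hmap_sc (M : X.Modules) (r : Γ(X, ⊤)) (n : ℕ) (y : Coh.HH X M n) :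
    hmap (sc M r) n y = (show Coh.Γtop X from r) • y := rfl

theorem tens_add_right {L M : X.Modules} {U : X.Opens} (m : Γ(L, U)) (n n' : Γ(M, U)) :
    tens L M U m (n + n') = tens L M U m n + tens L M U m n' :=
  Groth.L00.Tensor.ev_add₂ _ _ _ _ _

theorem mulS_add (L : X.Modules) {N : X.Modules} (a b : Γ(N, ⊤)) :
    mulS L (Groth.L16.homOfSection N (a + b)) =
      mulS L (Groth.L16.homOfSection N a) + mulS L (Groth.L16.homOfSection N b) := by
  refine Scheme.Modules.hom_ext _ _ fun V => ?_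
  ext t
  show (mulS L _).app V t = (mulS L _).app V t + (mulS L _).app V t
  simp only [mulS_app, Groth.L18.GenLoc.secOf]
  erw [Groth.L21.RR.app_homOfSection_one, Groth.L21.RR.app_homOfSection_one, Groth.L21.RR.app_homOfSection_one]
  refine (congrArg (tens L N V t) (map_add (N.presheaf.map (homOfLE (le_top : V ≤ ⊤)).op).hom a b)).trans ?_
  exact tens_add_right _ _ _

theorem mulS_smul (L : X.Modules) {N : X.Modules} (r : Γ(X, ⊤)) (a : Γ(N, ⊤)) :
    mulS L (Groth.L16.homOfSection N (r • a)) =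
      mulS L (Groth.L16.homOfSection N a) ≫ sc (CohB1.tensorMod L N) r := by
  refine Scheme.Modules.hom_ext _ _ fun V => ?_
  ext t
  show (mulS L _).app V t = (sc (CohB1.tensorMod L N) r).app V ((mulS L _).app V t)
  simp only [mulS_app, Groth.L18.GenLoc.secOf]
  erw [Groth.L21.RR.app_homOfSection_one, Groth.L21.RR.app_homOfSection_one]
  rw [Groth.L18.Frame.rs_smul, tens_smul_right]
  rfl

/-- Sections of `N` give functionals on `H¹(L)`, linearly. -/
theorem exists_pairing (k : Type u) [Field k] [X.Over (Spec (CommRingCat.of k))] {L N W : X.Modules}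
    (j : CohB1.tensorMod L N ⟶ W) :
    ∃ Φ : Coh.HH X N 0 →ₗ[k] (Coh.HH X L 1 →ₗ[k] Coh.HH X W 1),
      ∀ x, Φ x = hk k (mulS L (Groth.L16.homOfSection N (e0 N x)) ≫ j) 1 := by
  have hfk : ∀ (g : L ⟶ CohB1.tensorMod L N) (y : Coh.HH X L 1),
      hk k (g ≫ j) 1 y = hmap j 1 (hmap g 1 y) := fun g y => hmap_comp g j 1 y
  refine ⟨
    { toFun := fun x => hk k (mulS L (Groth.L16.homOfSection N (e0 N x)) ≫ j) 1
      map_add' := fun x x' => LinearMap.ext fun y => ?_
      map_smul' := fun c x => LinearMap.ext fun y => ?_ }, fun x => rfl⟩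
  · simp only [map_add, mulS_add, Preadditive.add_comp]
    exact Groth.L21.RR.hmap_add _ _ _ _
  · simp only [RingHom.id_apply, LinearMap.smul_apply]
    rw [Groth.L21.RR.e0_smul, mulS_smul, hfk, hfk, hmap_comp]
    refine (congrArg _ (hmap_sc _ _ 1 _)).trans ?_
    exact map_smul (hmap j 1) _ _

end General

variable {X : Scheme.{u}} [IsIntegral X] [IsLocallyNoetherian X] (k : Type u) [Field k]
  [X.Over (Spec (CommRingCat.of k))] [IsProper (X ↘ Spec (CommRingCat.of k))]
  [Smooth (X ↘ Spec (CommRingCat.of k))]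

/-- The differentials. -/
abbrev omega : X.Modules := Omega.sheaf (X ↘ Spec (CommRingCat.of k))

variable (hd : topologicalKrullDim X = 1)

include hd in
theorem nontrivial_h1_omega : Nontrivial (Coh.HH X (omega (X := X) k) 1) := by
  haveI := Groth.L21.RR.finite_HH' (X := X) k
    (Groth.L16.ProperFinite.isCoh_of_isInvertible (Groth.L18.Ample.isInvertible_structureModule X)) 0
  haveI : Nontrivial (Coh.HH X (Coh.structureModule X) 0) := by
    refine ⟨(e0 _).symm (Groth.L21.RR.oneSec X), 0, fun h0 => ?_⟩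
    have h1 := congrArg (e0 (Coh.structureModule X)) h0
    rw [AddEquiv.apply_symm_apply, map_zero] at h1
    exact one_ne_zero (α := Γ(X, ⊤)) h1
  refine Module.nontrivial_of_finrank_pos (R := k) ?_
  show 0 < h k 1 (omega (X := X) k)
  rw [omega, (Groth.L21.Duality.omega_invariants (k := k) hd).2.1]
  exact Module.finrank_pos

include hd in
/-- A homomorphism from a coherent module to the differentials is determined by `H¹`. -/
theorem eq_zero_of_hk_one {K : X.Modules} (hK : Coh.IsCoh K) (φ : K ⟶ omega k)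
    (hφ : hk k φ 1 = 0) : φ = 0 := by
  by_contra hne
  haveI := Groth.L21.RR.isNoetherian_of_proper (X := X) k
  have hreg := Groth.L21.Smooth.regular_stalk (k := k) (X ↘ Spec (CommRingCat.of k))
  have hΩ := locFree_one (Groth.L21.Duality.isInvertible_omega (X := X) (k := k) hd)
  have hcΩ := isCoh_of_rank hΩ
  have hadd := add_cokernel (X := X) k hd.le (Abelian.image.ι φ) (coh_image hK hcΩ φ) hcΩ
  have hI := locFree_of_mono hreg hd.le (Abelian.image.ι φ) (coh_image hK hcΩ φ) hΩ
  have hpos : 0 < rk (Abelian.image φ) := Nat.pos_of_ne_zero fun h0 => hne <| by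
    rw [← Abelian.image.fac φ, (isZero_of_rank_zero (h0 ▸ hI)).eq_of_src (Abelian.image.ι φ) 0, comp_zero]
  have h1 : rk (omega (X := X) k) = 1 := rk_eq hΩ
  have h2 : rk (omega (X := X) k) = rk (Abelian.image φ) + rk (cokernel (Abelian.image.ι φ)) := hadd.1
  have hrk : rk (cokernel φ) = 0 := by
    have e : rk (cokernel (Abelian.image.ι φ)) = rk (cokernel φ) := by
      refine rk_iso (cokernelIsoOfEq (Abelian.image.fac φ).symm ≪≫
        cokernelEpiComp (Abelian.factorThruImage φ) (Abelian.image.ι φ)).symm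
    omega
  have hsurj := Groth.L21.RR.surjective_hmap_one_of_suppClosed hd.le φ
    (suppClosed_of_rk_eq_zero hd.le (coh_cokernel hK hcΩ φ) hrk)
  haveI := nontrivial_h1_omega (X := X) k hd
  obtain ⟨y, hy⟩ := exists_ne (0 : Coh.HH X (omega (X := X) k) 1)
  obtain ⟨x, rfl⟩ := hsurj y
  exact hy (LinearMap.congr_fun hφ x)

variable (h0 : h k 0 (Coh.structureModule X) = 1)

include hd h0 in
theorem exists_hom_of_functional_line {L : X.Modules} (hL : PicF.IsInvertible L)
    (lam : Coh.HH X L 1 →ₗ[k] Coh.HH X (omega (X := X) k) 1) :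
    ∃ φ : L ⟶ omega k, hk k φ 1 = lam := by
  obtain ⟨N, hN, ⟨e⟩, hh0, -⟩ := Groth.L21.Duality.exists_dual (k := k) hd hL
  let j := (Groth.L00.Tensor.tensorComm L N ≪≫ e).hom
  obtain ⟨Φ, hΦdef⟩ := exists_pairing k (W := omega (X := X) k) j
  let f : Coh.HH X N 0 → (L ⟶ omega k) := fun x => mulS L (Groth.L16.homOfSection N (e0 N x)) ≫ j
  have hΦ : Function.Injective Φ := by
    refine (injective_iff_map_eq_zero Φ).2 fun x hx => ?_
    by_contra hne
    have hf : f x = 0 := eq_zero_of_hk_one k hd (Groth.L16.ProperFinite.isCoh_of_isInvertible hL) _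
      ((hΦdef x).symm.trans hx)
    have hσ : Groth.L16.homOfSection N (e0 N x) ≠ 0 := fun h => hne ((e0 N).injective (by
      rw [map_zero, ← Groth.L21.RR.app_homOfSection_one (e0 N x), h]; rfl))
    haveI := Groth.L21.RR.mono_mulS hL hN hσ
    have h2 : mulS L (Groth.L16.homOfSection N (e0 N x)) = 0 := (cancel_mono j).1 (hf.trans zero_comp.symm)
    exact not_isZero_of_rank Nat.one_pos (locFree_one hL) (IsZero.of_mono_eq_zero _ h2)
  haveI := Groth.L21.RR.finite_HH' k (Groth.L16.ProperFinite.isCoh_of_isInvertible hN) 0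
  haveI := Groth.L21.RR.finite_HH' k (Groth.L16.ProperFinite.isCoh_of_isInvertible hL) 1
  haveI := Groth.L21.RR.finite_HH' k (Groth.L16.ProperFinite.isCoh_of_isInvertible
    (Groth.L21.Duality.isInvertible_omega (X := X) (k := k) hd)) 1
  have hdim : Module.finrank k (Coh.HH X N 0) =
      Module.finrank k (Coh.HH X L 1 →ₗ[k] Coh.HH X (omega (X := X) k) 1) := by
    rw [Module.finrank_linearMap]
    show h k 0 N = h k 1 L * h k 1 (omega (X := X) k)
    rw [hh0, omega, (Groth.L21.Duality.omega_invariants (k := k) hd).2.1, h0, mul_one]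
  obtain ⟨x, hx⟩ := (LinearMap.injective_iff_surjective_of_finrank_eq_finrank hdim).1 hΦ lam
  exact ⟨f x, (hΦdef x).symm.trans hx⟩

include k hd in
theorem exists_epi_lines {r : ℕ} {E : X.Modules} (hE : FlatMod.IsFinLocFreeOfRank r E) :
    ∃ (m : ℕ) (L : X.Modules) (ι : Fin m → (L ⟶ E)) (P : X.Modules) (π : P ⟶ E) (j : Fin m → (L ⟶ P))
      (p : Fin m → (P ⟶ L)), PicF.IsInvertible L ∧ Coh.IsCoh P ∧ Epi π ∧ ∑ i, p i ≫ j i = 𝟙 P := by
  haveI := Groth.L21.RR.isNoetherian_of_proper (X := X) k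
  obtain ⟨f, hfin, -, -, -, -⟩ := Groth.L21.Duality.exists_separable_cover (X := X) (k := k) hd
  haveI := hfin
  have hA := Groth.L18.Ample.isAmple_pullback_of_isAffineHom (u := f)
    (Groth.L22.VeryAmple.isAmple_O1 1 k)
  obtain ⟨A', hA', ⟨e⟩⟩ := Groth.L08.Cube.exists_inverse hA.1
  obtain ⟨n, hn⟩ := Groth.L16.NegPow.exists_epi_negPow hA e (Groth.L22.CurveDeg.isFinLocFree_of_rank hE)
  obtain ⟨m, π, hπ⟩ := hn n le_rfl
  have hM : PicF.IsInvertible (CohB1.tensorPow A' n) := Groth.L18.Ample.isInvertible_tensorPow hA' n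
  let F := Groth.L00.Tensor.tensorRightF (CohB1.tensorPow A' n)
  haveI : PreservesColimitsOfSize.{u, u} F := Groth.L00.Tensor.preservesColimits_tensorRightF _
  haveI : PreservesColimitsOfSize.{0, 0} F := preservesColimitsOfSize_shrink.{0, u, 0, u} F
  haveI : PreservesBinaryBiproducts F := preservesBinaryBiproducts_of_preservesBinaryCoproducts F
  haveI : F.Additive := Functor.additive_of_preservesBinaryBiproducts F
  classical
  let ιf : Fin m → (Coh.structureModule X ⟶ FlatMod.freeMod X m) := fun i => Sigma.ι (fun _ : Fin m => Coh.structureModule X) i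
  let pf : Fin m → (FlatMod.freeMod X m ⟶ Coh.structureModule X) := fun i =>
    Sigma.desc fun l => if l = i then 𝟙 _ else 0
  have hsum : ∑ i, pf i ≫ ιf i = 𝟙 (FlatMod.freeMod X m) := Sigma.hom_ext _ _ fun l => by
    rw [Preadditive.comp_sum, Category.comp_id, Finset.sum_eq_single l]
    · rw [← Category.assoc, Sigma.ι_desc, if_pos rfl, Category.id_comp]
    · intro i _ hi
      rw [← Category.assoc, Sigma.ι_desc, if_neg (Ne.symm hi), zero_comp]
    · exact fun h => absurd (Finset.mem_univ l) h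
  refine ⟨m, F.obj (Coh.structureModule X), fun i => F.map (ιf i) ≫ π, F.obj (FlatMod.freeMod X m), π,
    fun i => F.map (ιf i), fun i => F.map (pf i),
    Groth.L18.GenLoc.isInvertible_tensor (Groth.L18.Ample.isInvertible_structureModule X) hM, ?_, hπ, ?_⟩
  · exact Groth.L16.NegPow.isCoh_of_isFinLocFree (Groth.L16.NegPow.isFinLocFree_freeTensor hM m)
  · simp only [← F.map_comp, ← F.map_sum, hsum, F.map_id]

include hd h0 in
/-- Serre duality for vector bundles: every functional comes from a unique homomorphism. -/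
theorem existsUnique_hom_of_functional {r : ℕ} {E : X.Modules} (hE : FlatMod.IsFinLocFreeOfRank r E)
    (lam : Coh.HH X E 1 →ₗ[k] Coh.HH X (omega (X := X) k) 1) :
    ∃! φ : E ⟶ omega k, hk k φ 1 = lam := by
  haveI := Groth.L21.RR.isNoetherian_of_proper (X := X) k
  have hcE := isCoh_of_rank hE
  have huniq : ∀ φ φ' : E ⟶ omega k, hk k φ 1 = lam → hk k φ' 1 = lam → φ = φ' := fun φ φ' h h' =>
    sub_eq_zero.1 (eq_zero_of_hk_one k hd hcE _ (LinearMap.ext fun y => by
      have := Groth.L21.RR.hmap_add (φ - φ') φ' 1 y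
      rw [sub_add_cancel] at this
      show hmap (φ - φ') 1 y = 0
      exact left_eq_add.1 ((LinearMap.congr_fun (h'.trans h.symm) y).trans (this.trans (add_comm _ _)))))
  obtain ⟨m, L, ι, P, π, j, p, hL, hcP, hπ, hsum⟩ := exists_epi_lines (X := X) k hd hE
  haveI := hπ
  choose g hg using fun i => exists_hom_of_functional_line k hd h0 hL (lam.comp (hk k (j i ≫ π) 1))
  let ψ : P ⟶ omega k := ∑ i, p i ≫ g i
  have hdec : ∀ {M : X.Modules} (q : P ⟶ M) (y : Coh.HH X P 1),
      hmap q 1 y = ∑ i, hmap (j i ≫ q) 1 (hmap (p i) 1 y) := fun {M} q y => by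
    conv_lhs => rw [← Category.id_comp q, ← hsum, Preadditive.sum_comp]
    rw [show hmap (∑ i, (p i ≫ j i) ≫ q) 1 y = ∑ i, hmap ((p i ≫ j i) ≫ q) 1 y from
      map_sum (AddMonoidHom.mk' (fun q : P ⟶ M => hmap q 1 y) fun a b => Groth.L21.RR.hmap_add a b 1 y) _ _]
    exact Finset.sum_congr rfl fun i _ => by rw [Category.assoc, hmap_comp]
  have hψ : ∀ y : Coh.HH X P 1, hmap ψ 1 y = lam (hmap π 1 y) := fun y => by
    rw [hdec π y, map_sum,
      show hmap ψ 1 y = ∑ i, hmap (p i ≫ g i) 1 y from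
        map_sum (AddMonoidHom.mk' (fun q : P ⟶ omega k => hmap q 1 y) fun a b => Groth.L21.RR.hmap_add a b 1 y) _ _]
    refine Finset.sum_congr rfl fun i _ => ?_
    rw [hmap_comp]
    exact LinearMap.congr_fun (hg i) _
  have hker : kernel.ι π ≫ ψ = 0 := by
    refine eq_zero_of_hk_one k hd (coh_kernel hcP hcE π) _ (LinearMap.ext fun y => ?_)
    show hmap (kernel.ι π ≫ ψ) 1 y = 0
    rw [hmap_comp, hψ, ← hmap_comp, kernel.condition, Groth.L21.RR.hmap_zero, map_zero]
  let φ : E ⟶ omega k := Abelian.epiDesc π ψ hker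
  have hsurj : Function.Surjective (hmap π 1) := by
    refine Groth.L21.RR.surjective_hmap_one_of_suppClosed hd.le π fun x _ => ?_
    exact (Groth.L21.Mod.isZero_iff_stalk_subsingleton _).1 (isZero_cokernel_of_epi π) x
  refine ⟨φ, LinearMap.ext fun z => ?_, fun φ' h' => huniq _ _ h' (LinearMap.ext fun z => ?_)⟩ <;>
  · obtain ⟨y, rfl⟩ := hsurj z
    show hmap φ 1 (hmap π 1 y) = _
    rw [← hmap_comp, Abelian.comp_epiDesc, hψ]

include hd h0 in
/-- A bundle with nonzero `H¹` maps nontrivially to the differentials. -/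
theorem exists_hom_omega_ne_zero {r : ℕ} {E : X.Modules} (hE : FlatMod.IsFinLocFreeOfRank r E)
    [Nontrivial (Coh.HH X E 1)] : ∃ φ : E ⟶ omega k, φ ≠ 0 := by
  haveI := nontrivial_h1_omega (X := X) k hd
  obtain ⟨x, hx⟩ := exists_ne (0 : Coh.HH X E 1)
  obtain ⟨y, hy⟩ := exists_ne (0 : Coh.HH X (omega (X := X) k) 1)
  obtain ⟨f, hf⟩ : ∃ f : Coh.HH X E 1 →ₗ[k] k, f x = 1 := by
    obtain ⟨f, hf⟩ := (LinearMap.toSpanSingleton k (Coh.HH X E 1) x).exists_leftInverse_of_injective
      (LinearMap.ker_eq_bot.2 (smul_left_injective k hx))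
    refine ⟨f, ?_⟩
    have h := LinearMap.congr_fun hf 1
    simpa using h
  obtain ⟨φ, hφ, -⟩ := existsUnique_hom_of_functional k hd h0 hE (f.smulRight y)
  refine ⟨φ, fun h => hy ?_⟩
  have h1 := LinearMap.congr_fun hφ x
  rw [h, LinearMap.smulRight_apply, hf, one_smul] at h1
  exact h1.symm.trans (Groth.L21.RR.hmap_zero _ _ _ _)

end Groth.L21.Bundle
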