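import Mathlib.CategoryTheory.Abelian.Exact
import Mathlib.Algebra.Homology.ShortComplex.ShortExact
import Mathlib.CategoryTheory.Linear.Basic
import Mathlib.CategoryTheory.Limits.Shapes.BinaryBiproducts
import Mathlib.CategoryTheory.Preadditive.Biproducts
import Mathlib.CategoryTheory.Endomorphism
import Mathlib.LinearAlgebra.Matrix.GeneralLinearGroup.Card
import Mathlib.SetTheory.Cardinal.Finite

/-!
Automorphism groups of small direct sums and of self-extensions of objects with only scalar endomorphisms,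
in a linear category over a finite field.
-/

set_option autoImplicit false
set_option linter.unusedSectionVars false
set_option linter.style.haveILetI false
universe w v u

open CategoryTheory CategoryTheory.Limits

noncomputable section

namespace Groth.L21.Bundle.AutCat

section Preadd

variable {C : Type u} [Category.{v} C] [Preadditive C]

theorem card_aut (E : C) : Nat.card (Aut E) = Nat.card (End E)ˣ :=
  (Nat.card_congr (Aut.unitsEndEquivAut E).toEquiv).symm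

/-- Endomorphisms of an object decomposed into copies of one object. -/
def endEquivMatrix {ι : Type*} [Fintype ι] [DecidableEq ι] {A E : C} (i : ι → (A ⟶ E)) (p : ι → (E ⟶ A))
    (horth : ∀ a b, i a ≫ p b = if a = b then 𝟙 A else 0) (htot : ∑ a, p a ≫ i a = 𝟙 E) :
    End E ≃+* Matrix ι ι (End A) where
  toFun φ := Matrix.of fun a b => i b ≫ φ ≫ p a
  invFun M := ∑ a, ∑ b, p b ≫ (show A ⟶ A from M a b) ≫ i a
  left_inv φ := by
    show (∑ a, ∑ b, p b ≫ (i b ≫ φ ≫ p a) ≫ i a) = φ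
    calc (∑ a, ∑ b, p b ≫ (i b ≫ φ ≫ p a) ≫ i a)
        = (∑ b, p b ≫ i b) ≫ φ ≫ (∑ a, p a ≫ i a) := by
          simp only [Preadditive.sum_comp, Preadditive.comp_sum, Category.assoc]
      _ = φ := by rw [htot, Category.id_comp]; exact Category.comp_id φ
  right_inv M := by
    ext a b
    show i b ≫ (∑ a', ∑ b', p b' ≫ (show A ⟶ A from M a' b') ≫ i a') ≫ p a = M a b
    simp only [Preadditive.sum_comp, Preadditive.comp_sum, Category.assoc, horth]
    rw [Finset.sum_eq_single a (fun a' _ h => Finset.sum_eq_zero fun b' _ => by simp [h])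
      (fun h => absurd (Finset.mem_univ a) h)]
    rw [Finset.sum_eq_single b (fun b' _ h => by rw [reassoc_of% horth b b', if_neg h.symm, zero_comp])
      (fun h => absurd (Finset.mem_univ b) h)]
    rw [reassoc_of% horth b b, if_pos trivial, Category.id_comp]
    rw [if_pos rfl]; exact Category.comp_id (obj := C) _
  map_add' φ ψ := by
    ext a b
    show i b ≫ (φ + ψ) ≫ p a = i b ≫ φ ≫ p a + i b ≫ ψ ≫ p a
    rw [Preadditive.add_comp, Preadditive.comp_add]
  map_mul' φ ψ := by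
    ext a b
    rw [Matrix.mul_apply]
    show i b ≫ (ψ ≫ φ) ≫ p a = ∑ c, (i b ≫ ψ ≫ p c) ≫ i c ≫ φ ≫ p a
    have h : (∑ c, (i b ≫ ψ ≫ p c) ≫ i c ≫ φ ≫ p a) = i b ≫ ψ ≫ (∑ c, p c ≫ i c) ≫ φ ≫ p a := by
      simp only [Preadditive.sum_comp, Preadditive.comp_sum, Category.assoc]
    rw [h, htot, Category.id_comp, Category.assoc]

variable [HasBinaryBiproducts C]

/-- Endomorphisms of a sum of two objects without maps between them. -/
def endEquivProd {A B : C} (hAB : ∀ f : A ⟶ B, f = 0) (hBA : ∀ f : B ⟶ A, f = 0) :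
    End (A ⊞ B) ≃+* End A × End B where
  toFun φ := (biprod.inl ≫ φ ≫ biprod.fst, biprod.inr ≫ φ ≫ biprod.snd)
  invFun ab := biprod.map ab.1 ab.2
  left_inv φ := by
    apply biprod.hom_ext' <;> apply biprod.hom_ext
    · simp
    · simp [hAB (biprod.inl ≫ φ ≫ biprod.snd)]
    · simp [hBA (biprod.inr ≫ φ ≫ biprod.fst)]
    · simp
  right_inv ab := Prod.ext (by simp) (by simp)
  map_add' φ ψ := Prod.ext
    (by show biprod.inl ≫ (φ + ψ) ≫ biprod.fst = _; rw [Preadditive.add_comp, Preadditive.comp_add]; rfl)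
    (by show biprod.inr ≫ (φ + ψ) ≫ biprod.snd = _; rw [Preadditive.add_comp, Preadditive.comp_add]; rfl)
  map_mul' φ ψ := by
    have h : ∀ (f : A ⊞ B ⟶ A ⊞ B), f = biprod.fst ≫ biprod.inl ≫ f + biprod.snd ≫ biprod.inr ≫ f :=
      fun f => by rw [← Category.assoc, ← Category.assoc, ← Preadditive.add_comp, biprod.total, Category.id_comp]
    refine Prod.ext ?_ ?_
    · show biprod.inl ≫ (ψ ≫ φ) ≫ biprod.fst =
        (biprod.inl ≫ ψ ≫ biprod.fst) ≫ biprod.inl ≫ φ ≫ biprod.fst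
      conv_lhs => rw [h φ]
      simp only [Preadditive.add_comp, Preadditive.comp_add, Category.assoc]
      rw [reassoc_of% (hAB (biprod.inl ≫ ψ ≫ biprod.snd)), zero_comp, add_zero]
    · show biprod.inr ≫ (ψ ≫ φ) ≫ biprod.snd =
        (biprod.inr ≫ ψ ≫ biprod.snd) ≫ biprod.inr ≫ φ ≫ biprod.snd
      conv_lhs => rw [h φ]
      simp only [Preadditive.add_comp, Preadditive.comp_add, Category.assoc]
      rw [reassoc_of% (hBA (biprod.inr ≫ ψ ≫ biprod.fst)), zero_comp, zero_add]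

theorem card_aut_prod {A B : C} (hAB : ∀ f : A ⟶ B, f = 0) (hBA : ∀ f : B ⟶ A, f = 0) :
    Nat.card (Aut (A ⊞ B)) = Nat.card (Aut A) * Nat.card (Aut B) := by
  rw [card_aut, card_aut, card_aut,
    Nat.card_congr ((Units.mapEquiv (endEquivProd hAB hBA).toMulEquiv).trans MulEquiv.prodUnits).toEquiv,
    Nat.card_prod]

theorem card_aut_congr {A B : C} (e : A ≅ B) : Nat.card (Aut A) = Nat.card (Aut B) :=
  Nat.card_congr (Aut.autMulEquivOfIso e).toEquiv

variable {k : Type w} [Field k] [Finite k]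

theorem card_aut_simple {A : C} (e : k ≃+* End A) : Nat.card (Aut A) = Nat.card k - 1 := by
  rw [card_aut, ← Nat.card_congr (Units.mapEquiv e.toMulEquiv).toEquiv, Nat.card_units]

theorem card_GL (n : ℕ) : Nat.card (Matrix (Fin n) (Fin n) k)ˣ =
    ∏ i : Fin n, (Nat.card k ^ n - Nat.card k ^ (i : ℕ)) := by
  letI := Fintype.ofFinite k
  simp only [Nat.card_eq_fintype_card (α := k)]
  exact Matrix.card_GL_field n

theorem card_aut_copies {n : ℕ} {A E : C} (e : k ≃+* End A) (i : Fin n → (A ⟶ E)) (p : Fin n → (E ⟶ A))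
    (horth : ∀ a b, i a ≫ p b = if a = b then 𝟙 A else 0) (htot : ∑ a, p a ≫ i a = 𝟙 E) :
    Nat.card (Aut E) = ∏ j : Fin n, (Nat.card k ^ n - Nat.card k ^ (j : ℕ)) := by
  rw [card_aut, Nat.card_congr (Units.mapEquiv
    ((endEquivMatrix i p horth htot).trans e.symm.mapMatrix).toMulEquiv).toEquiv, card_GL]

theorem card_aut_two {A : C} (e : k ≃+* End A) :
    Nat.card (Aut (A ⊞ A)) = (Nat.card k ^ 2 - 1) * (Nat.card k ^ 2 - Nat.card k) := by
  rw [card_aut_copies e ![biprod.inl, biprod.inr] ![biprod.fst, biprod.snd]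
    (fun a b => by fin_cases a <;> fin_cases b <;> simp) (by simp [Fin.sum_univ_two, biprod.total]),
    Fin.prod_univ_two]
  simp

theorem card_aut_three {A : C} (e : k ≃+* End A) :
    Nat.card (Aut (A ⊞ A ⊞ A)) =
      (Nat.card k ^ 3 - 1) * (Nat.card k ^ 3 - Nat.card k) * (Nat.card k ^ 3 - Nat.card k ^ 2) := by
  rw [card_aut_copies e ![biprod.inl, biprod.inl ≫ biprod.inr, biprod.inr ≫ biprod.inr]
    ![biprod.fst, biprod.snd ≫ biprod.fst, biprod.snd ≫ biprod.snd]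
    (fun a b => by fin_cases a <;> fin_cases b <;> simp)
    (by
      apply biprod.hom_ext'
      · simp [Fin.sum_univ_three]
      · apply biprod.hom_ext' <;> simp [Fin.sum_univ_three]),
    Fin.prod_univ_three]
  simp

end Preadd

section Linear

variable {C : Type u} [Category.{v} C] [Abelian C] {k : Type w} [Field k] [Linear k C]
  {L : C} (hL : Function.Bijective fun c : k => c • 𝟙 L)
  {S : ShortComplex C} (hS : S.ShortExact) (e₁ : S.X₁ ≅ L) (e₃ : S.X₃ ≅ L) (hns : ¬ IsSplitEpi S.g)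

include hL in
/-- An object with only scalar endomorphisms. -/
def scalarEquiv : k ≃+* End L :=
  RingEquiv.ofBijective
    ({ toFun := fun c => c • 𝟙 L
       map_one' := one_smul _ _
       map_mul' := fun a b => by
         show (a * b) • 𝟙 L = (b • 𝟙 L) ≫ (a • 𝟙 L)
         rw [Linear.smul_comp, Category.id_comp, smul_smul, mul_comm]
       map_zero' := zero_smul _ _
       map_add' := fun a b => add_smul a b _ } : k →+* End L) hL

/-- The inclusion. -/
def ι' : L ⟶ S.X₂ := e₁.inv ≫ S.f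

/-- The projection. -/
def π' : S.X₂ ⟶ L := S.g ≫ e₃.hom

local notation "ι₀" => ι' e₁
local notation "π₀" => π' e₃

theorem ι_π : ι₀ ≫ π₀ = 0 := by simp [ι', π']

include hS hns in
theorem no_retraction (φ : S.X₂ ⟶ L) : ι₀ ≫ φ ≠ 𝟙 L := by
  intro h
  haveI := hS.epi_g
  have hr : S.f ≫ φ ≫ e₁.inv = 𝟙 S.X₁ := by
    rw [← cancel_epi e₁.inv, Category.comp_id]
    have h2 := congrArg (· ≫ e₁.inv) h
    simpa [ι'] using h2
  let σ := ShortComplex.Splitting.ofExactOfRetraction S hS.exact (φ ≫ e₁.inv) hr hS.epi_g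
  exact hns (IsSplitEpi.mk' ⟨σ.s, σ.s_g⟩)

include hns in
theorem no_section (ψ : L ⟶ S.X₂) : ψ ≫ π₀ ≠ 𝟙 L := by
  intro h
  refine hns (IsSplitEpi.mk' ⟨e₃.hom ≫ ψ, ?_⟩)
  rw [← cancel_mono e₃.hom, Category.assoc, Category.assoc, Category.id_comp]
  show e₃.hom ≫ ψ ≫ π₀ = e₃.hom
  rw [h, Category.comp_id]

include hS in
theorem exists_desc {M : C} (φ : S.X₂ ⟶ M) (h : ι₀ ≫ φ = 0) : ∃ χ : L ⟶ M, π₀ ≫ χ = φ := by
  haveI := hS.epi_g
  have h' : S.f ≫ φ = 0 := by
    rw [← cancel_epi e₁.inv, comp_zero, ← Category.assoc]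
    exact h
  refine ⟨e₃.inv ≫ hS.exact.desc φ h', ?_⟩
  simp [π', hS.exact.g_desc]

include hS in
theorem exists_lift {M : C} (ψ : M ⟶ S.X₂) (h : ψ ≫ π₀ = 0) : ∃ χ : M ⟶ L, χ ≫ ι₀ = ψ := by
  haveI := hS.mono_f
  have h' : ψ ≫ S.g = 0 := by
    rw [← cancel_mono e₃.hom, zero_comp, Category.assoc]
    exact h
  refine ⟨hS.exact.lift ψ h' ≫ e₁.hom, ?_⟩
  simp [ι', hS.exact.lift_f]

include hL hS e₁ hns in
theorem exists_eq_smul_π (φ : S.X₂ ⟶ L) : ∃ c : k, φ = c • π₀ := by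
  obtain ⟨a, ha⟩ := hL.2 (ι₀ ≫ φ)
  have ha0 : a = 0 := by
    by_contra hne
    exact no_retraction hS e₁ hns (a⁻¹ • φ) (by rw [Linear.comp_smul, ← ha, smul_smul, inv_mul_cancel₀ hne, one_smul])
  obtain ⟨χ, hχ⟩ := exists_desc hS e₁ e₃ φ (by rw [← ha, ha0]; exact zero_smul _ _)
  obtain ⟨c, hc⟩ := hL.2 χ
  exact ⟨c, by rw [← hχ, ← hc]; simp⟩

include hL hS e₃ hns in
theorem exists_eq_smul_ι (ψ : L ⟶ S.X₂) : ∃ c : k, ψ = c • ι₀ := by
  obtain ⟨a, ha⟩ := hL.2 (ψ ≫ π₀)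
  have ha0 : a = 0 := by
    by_contra hne
    exact no_section e₃ hns (a⁻¹ • ψ) (by rw [Linear.smul_comp, ← ha, smul_smul, inv_mul_cancel₀ hne, one_smul])
  obtain ⟨χ, hχ⟩ := exists_lift hS e₁ e₃ ψ (by rw [← ha, ha0]; exact zero_smul _ _)
  obtain ⟨c, hc⟩ := hL.2 χ
  exact ⟨c, by rw [← hχ, ← hc]; simp⟩

include hL in
theorem smul_id_inj {a b : k} (h : a • 𝟙 L = b • 𝟙 L) : a = b := hL.1 h

include hL hS in
theorem smul_ι_inj {a b : k} (h : a • ι₀ = b • ι₀) : a = b := by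
  haveI := hS.mono_f
  haveI : Mono (ι₀) := mono_comp _ _
  exact hL.1 (by rw [← cancel_mono (ι₀)]; simpa using h)

include hL hS in
theorem smul_π_inj {a b : k} (h : a • π₀ = b • π₀) : a = b := by
  haveI := hS.epi_g
  haveI : Epi (π₀) := epi_comp _ _
  exact hL.1 (by rw [← cancel_epi (π₀)]; simpa using h)

/-- The endomorphism with coordinates `(c, d)` of a self-extension. -/
def endSelf (v : k × k) : S.X₂ ⟶ S.X₂ := v.1 • 𝟙 _ + v.2 • (π₀ ≫ ι₀)

theorem endSelf_comp (v w : k × k) :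
    endSelf e₁ e₃ v ≫ endSelf e₁ e₃ w = endSelf e₁ e₃ (v.1 * w.1, v.1 * w.2 + v.2 * w.1) := by
  simp only [endSelf, Preadditive.add_comp, Preadditive.comp_add, Linear.smul_comp, Linear.comp_smul,
    Category.assoc, Category.id_comp, Category.comp_id, reassoc_of% (ι_π e₁ e₃), zero_comp, comp_zero,
    smul_zero, smul_smul, add_smul, smul_add]
  module

theorem ι_endSelf (v : k × k) : ι₀ ≫ endSelf e₁ e₃ v = v.1 • ι₀ := by
  simp [endSelf, reassoc_of% (ι_π e₁ e₃)]

theorem endSelf_π (v : k × k) : endSelf e₁ e₃ v ≫ π₀ = v.1 • π₀ := by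
  simp [endSelf, ι_π]

include hL hS hns in
theorem endSelf_bijective : Function.Bijective (endSelf (k := k) e₁ e₃) := by
  refine ⟨fun v w h => ?_, fun φ => ?_⟩
  · have h1 : v.1 = w.1 := smul_ι_inj hL hS e₁ (by rw [← ι_endSelf e₁ e₃, h, ι_endSelf])
    haveI := hS.epi_g
    haveI : Epi (π₀) := epi_comp _ _
    have h2 : π₀ ≫ (v.2 • ι₀) = π₀ ≫ (w.2 • ι₀) := by
      simp only [endSelf, h1, add_right_inj] at h
      simpa using h
    exact Prod.ext h1 (smul_ι_inj hL hS e₁ ((cancel_epi _).1 h2))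
  · obtain ⟨c, hc⟩ := exists_eq_smul_ι hL hS e₁ e₃ hns (ι₀ ≫ φ)
    obtain ⟨χ, hχ⟩ := exists_desc hS e₁ e₃ (φ - c • 𝟙 _) (by rw [Preadditive.comp_sub, hc]; simp)
    obtain ⟨d, hd⟩ := exists_eq_smul_ι hL hS e₁ e₃ hns χ
    refine ⟨(c, d), ?_⟩
    rw [hd, Linear.comp_smul] at hχ
    simp only [endSelf, hχ]
    abel

theorem endSelf_one : endSelf (k := k) e₁ e₃ (1, 0) = 𝟙 S.X₂ := by simp [endSelf]

omit [Abelian C] [Linear k C] in
theorem card_ne_zero_mul [Finite k] : Nat.card {x : k // x ≠ 0} = Nat.card k - 1 := by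
  rw [← Nat.card_congr unitsEquivNeZero, Nat.card_units]

include hL hS e₁ e₃ hns in
/-- A nonsplit self-extension has `(q - 1) q` automorphisms. -/
theorem card_aut_selfExt [Finite k] : Nat.card (Aut S.X₂) = (Nat.card k - 1) * Nat.card k := by
  let e : k × k ≃ End S.X₂ := Equiv.ofBijective _ (endSelf_bijective hL hS e₁ e₃ hns)
  have he : ∀ v, e v = endSelf e₁ e₃ v := fun _ => rfl
  have hu : ∀ v, IsUnit (e v) ↔ v.1 ≠ 0 := by
    intro v
    constructor
    · rintro ⟨u, hu⟩ h0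
      obtain ⟨w, hw⟩ := e.surjective (↑u⁻¹ : End S.X₂)
      have h : e v ≫ e w = 𝟙 S.X₂ := by rw [hw, ← hu]; exact u.inv_mul
      rw [he, he, endSelf_comp, ← endSelf_one (k := k) e₁ e₃] at h
      have := congrArg Prod.fst ((endSelf_bijective hL hS e₁ e₃ hns).1 h)
      simp [h0] at this
    · intro h0
      refine ⟨⟨e v, e (v.1⁻¹, -v.2 / (v.1 * v.1)), ?_, ?_⟩, rfl⟩
      · show endSelf e₁ e₃ _ ≫ endSelf e₁ e₃ _ = 𝟙 _
        rw [endSelf_comp, ← endSelf_one (k := k) e₁ e₃]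
        congr 1
        ext <;> field_simp
        ring
      · show endSelf e₁ e₃ _ ≫ endSelf e₁ e₃ _ = 𝟙 _
        rw [endSelf_comp, ← endSelf_one (k := k) e₁ e₃]
        congr 1
        ext <;> field_simp
        ring
  rw [card_aut, Nat.card_congr (α := (End S.X₂)ˣ) (β := {x : End S.X₂ // IsUnit x})
    { toFun := fun u => ⟨u, u.isUnit⟩
      invFun := fun x => x.2.unit
      left_inv := fun u => Units.ext rfl
      right_inv := fun x => Subtype.ext rfl },
    ← Nat.card_congr (e.subtypeEquiv fun v => (hu v).symm),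
    Nat.card_congr (Equiv.prodSubtypeFstEquivSubtypeProd (p := fun a : k => a ≠ 0)), Nat.card_prod,
    card_ne_zero_mul (k := k)]

/-- The endomorphism of `L ⊞ E` with coordinates `(a, b, b', d, e)`. -/
def endSum (v : k × k × k × (k × k)) : L ⊞ S.X₂ ⟶ L ⊞ S.X₂ :=
  biprod.desc (v.1 • biprod.inl + v.2.1 • (ι₀ ≫ biprod.inr))
    (v.2.2.1 • (π₀ ≫ biprod.inl) + endSelf e₁ e₃ v.2.2.2 ≫ biprod.inr)

theorem endSum_one : endSum (k := k) e₁ e₃ (1, 0, 0, 1, 0) = 𝟙 _ := by
  apply biprod.hom_ext' <;> simp [endSum, endSelf_one]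

theorem endSum_comp (v w : k × k × k × (k × k)) :
    endSum e₁ e₃ v ≫ endSum e₁ e₃ w = endSum e₁ e₃
      (v.1 * w.1, v.1 * w.2.1 + v.2.1 * w.2.2.2.1, v.2.2.1 * w.1 + v.2.2.2.1 * w.2.2.1,
        v.2.2.2.1 * w.2.2.2.1, v.2.2.2.1 * w.2.2.2.2 + v.2.2.2.2 * w.2.2.2.1 + v.2.2.1 * w.2.1) := by
  obtain ⟨a, b, b', d, e⟩ := v
  obtain ⟨A, B, B', D, E⟩ := w
  apply biprod.hom_ext'
  · simp only [endSum, biprod.inl_desc_assoc, biprod.inl_desc, Preadditive.add_comp, Preadditive.comp_add,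
      Linear.smul_comp, Linear.comp_smul, Category.assoc, biprod.inr_desc, reassoc_of% (ι_π e₁ e₃),
      reassoc_of% (ι_endSelf (k := k) e₁ e₃), zero_comp, smul_zero, smul_smul, add_smul]
    module
  · simp only [endSum, biprod.inr_desc_assoc, biprod.inl_desc, Preadditive.add_comp, Preadditive.comp_add,
      Linear.smul_comp, Linear.comp_smul, Category.assoc, biprod.inr_desc,
      reassoc_of% (endSelf_π (k := k) e₁ e₃), reassoc_of% (endSelf_comp (k := k) e₁ e₃)]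
    simp only [endSelf, Preadditive.add_comp, Linear.smul_comp, Category.id_comp, Category.assoc,
      smul_smul, add_smul, smul_add]
    module

include hL hS hns in
theorem endSum_bijective : Function.Bijective (endSum (k := k) e₁ e₃) := by
  refine ⟨fun v w h => ?_, fun φ => ?_⟩
  · have h1 : ∀ v : k × k × k × (k × k), biprod.inl ≫ endSum e₁ e₃ v ≫ biprod.fst = v.1 • 𝟙 L :=
      fun v => by simp [endSum]
    have h2 : ∀ v : k × k × k × (k × k), biprod.inl ≫ endSum e₁ e₃ v ≫ biprod.snd = v.2.1 • ι₀ :=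
      fun v => by simp [endSum]
    have h3 : ∀ v : k × k × k × (k × k), biprod.inr ≫ endSum e₁ e₃ v ≫ biprod.fst = v.2.2.1 • π₀ :=
      fun v => by simp [endSum]
    have h4 : ∀ v : k × k × k × (k × k),
        biprod.inr ≫ endSum e₁ e₃ v ≫ biprod.snd = endSelf e₁ e₃ v.2.2.2 :=
      fun v => by simp [endSum]
    exact Prod.ext (hL.1 (by show v.1 • 𝟙 L = w.1 • 𝟙 L; rw [← h1, ← h1, h]))
      (Prod.ext (smul_ι_inj hL hS e₁ (by rw [← h2, ← h2, h]))
        (Prod.ext (smul_π_inj hL hS e₃ (by rw [← h3, ← h3, h]))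
          ((endSelf_bijective hL hS e₁ e₃ hns).1 (by rw [← h4, ← h4, h]))))
  · obtain ⟨a, ha⟩ := hL.2 (biprod.inl ≫ φ ≫ biprod.fst)
    obtain ⟨b, hb⟩ := exists_eq_smul_ι hL hS e₁ e₃ hns (biprod.inl ≫ φ ≫ biprod.snd)
    obtain ⟨c, hc⟩ := exists_eq_smul_π hL hS e₁ e₃ hns (biprod.inr ≫ φ ≫ biprod.fst)
    obtain ⟨d, hd⟩ := (endSelf_bijective hL hS e₁ e₃ hns).2 (biprod.inr ≫ φ ≫ biprod.snd)
    refine ⟨(a, b, c, d), ?_⟩
    apply biprod.hom_ext' <;> apply biprod.hom_ext <;>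
      simp [endSum, ← ha, hb, hc, hd]

include hL hS e₁ e₃ hns in
/-- The sum of a simple object with its nonsplit self-extension has `(q - 1)² q³` automorphisms. -/
theorem card_aut_sum_selfExt [Finite k] : Nat.card (Aut (L ⊞ S.X₂)) = (Nat.card k - 1) ^ 2 * Nat.card k ^ 3 := by
  let e : k × k × k × (k × k) ≃ End (L ⊞ S.X₂) := Equiv.ofBijective _ (endSum_bijective hL hS e₁ e₃ hns)
  have he : ∀ v, e v = endSum e₁ e₃ v := fun _ => rfl
  have hu : ∀ v, IsUnit (e v) ↔ (v.1 ≠ 0 ∧ v.2.2.2.1 ≠ 0) := by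
    intro v
    constructor
    · rintro ⟨u, hu⟩
      obtain ⟨w, hw⟩ := e.surjective (↑u⁻¹ : End (L ⊞ S.X₂))
      have h : e v ≫ e w = 𝟙 (L ⊞ S.X₂) := by rw [hw, ← hu]; exact u.inv_mul
      rw [he, he, endSum_comp, ← endSum_one (k := k) e₁ e₃] at h
      have h' := (endSum_bijective hL hS e₁ e₃ hns).1 h
      exact ⟨fun h0 => by simpa [h0] using congrArg Prod.fst h',
        fun h0 => by simpa [h0] using congrArg (fun t => t.2.2.2.1) h'⟩
    · rintro ⟨ha, hd⟩
      obtain ⟨a, b, b', d, c⟩ := v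
      simp only at ha hd
      let w : k × k × k × (k × k) :=
        (a⁻¹, -b / (a * d), -b' / (a * d), d⁻¹, (b' * b - a * c) / (a * (d * d)))
      refine ⟨⟨e (a, b, b', d, c), e w, ?_, ?_⟩, rfl⟩
      · show endSum e₁ e₃ _ ≫ endSum e₁ e₃ _ = 𝟙 _
        rw [endSum_comp, ← endSum_one (k := k) e₁ e₃]
        congr 1
        simp only [w, Prod.mk.injEq]
        refine ⟨?_, ?_, ?_, ?_, ?_⟩ <;> field_simp <;> ring
      · show endSum e₁ e₃ _ ≫ endSum e₁ e₃ _ = 𝟙 _
        rw [endSum_comp, ← endSum_one (k := k) e₁ e₃]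
        congr 1
        simp only [w, Prod.mk.injEq]
        refine ⟨?_, ?_, ?_, ?_, ?_⟩ <;> field_simp <;> ring
  let g : {v : k × k × k × (k × k) // v.1 ≠ 0 ∧ v.2.2.2.1 ≠ 0} ≃
      {a : k // a ≠ 0} × {d : k // d ≠ 0} × k × k × k :=
    { toFun := fun v => (⟨v.1.1, v.2.1⟩, ⟨v.1.2.2.2.1, v.2.2⟩, v.1.2.1, v.1.2.2.1, v.1.2.2.2.2)
      invFun := fun t => ⟨(t.1.1, t.2.2.1, t.2.2.2.1, t.2.1.1, t.2.2.2.2), t.1.2, t.2.1.2⟩
      left_inv := fun _ => rfl
      right_inv := fun _ => rfl }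
  rw [card_aut, Nat.card_congr (α := (End (L ⊞ S.X₂))ˣ) (β := {x : End (L ⊞ S.X₂) // IsUnit x})
    { toFun := fun u => ⟨u, u.isUnit⟩
      invFun := fun x => x.2.unit
      left_inv := fun u => Units.ext rfl
      right_inv := fun x => Subtype.ext rfl },
    ← Nat.card_congr (e.subtypeEquiv fun v => (hu v).symm), Nat.card_congr g]
  simp only [Nat.card_prod, card_ne_zero_mul (k := k)]
  ring

end Linear

end Groth.L21.Bundle.AutCat
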