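import Groth.Agent.L21.Bundle.AutCat
import Groth.Agent.L21.Bundle.Lines
import Groth.Agent.L21.Bundle.Hom
import Groth.Agent.L08.Cube.FibreFun
import Groth.Agent.L08.Cube.Inverse

/-!
The linear structure of modules on a scheme over a field, and endomorphisms of line bundles on a curve.
-/

set_option autoImplicit false
set_option backward.isDefEq.respectTransparency false
set_option linter.style.haveILetI false
universe u

open CategoryTheory CategoryTheory.Limits AlgebraicGeometry TopologicalSpace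

noncomputable section

namespace Groth.L21.Bundle.AutCurve

open Groth.L03.ShStab.Scalar (sc)
open Groth.L00.Tensor
open Groth.L18.GenLoc (secOf homOfSection_secOf)
open Groth.L18.Frame (ro)

section General

variable {X : Scheme.{u}}

theorem sc_add (M : X.Modules) (a b : Γ(X, ⊤)) : sc M (a + b) = sc M a + sc M b := by
  refine Scheme.Modules.hom_ext _ _ fun V => ?_
  ext m
  rw [sc_app, show ro (le_top : V ≤ ⊤) (a + b) = ro le_top a + ro le_top b from
    map_add (X.presheaf.map (homOfLE (le_top : V ≤ ⊤)).op).hom a b, add_smul]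
  rfl

theorem sc_mul (M : X.Modules) (a b : Γ(X, ⊤)) : sc M (a * b) = sc M b ≫ sc M a := by
  refine Scheme.Modules.hom_ext _ _ fun V => ?_
  ext m
  rw [sc_app, show ro (le_top : V ≤ ⊤) (a * b) = ro le_top a * ro le_top b from
    map_mul (X.presheaf.map (homOfLE (le_top : V ≤ ⊤)).op).hom a b, mul_smul]
  rfl

theorem sc_one (M : X.Modules) : sc M (1 : Γ(X, ⊤)) = 𝟙 M := by
  refine Scheme.Modules.hom_ext _ _ fun V => ?_
  ext m
  rw [sc_app, show ro (le_top : V ≤ ⊤) (1 : Γ(X, ⊤)) = 1 from
    map_one (X.presheaf.map (homOfLE (le_top : V ≤ ⊤)).op).hom, one_smul]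
  rfl

theorem sc_zero (M : X.Modules) : sc M (0 : Γ(X, ⊤)) = 0 := by
  refine Scheme.Modules.hom_ext _ _ fun V => ?_
  ext m
  rw [sc_app, show ro (le_top : V ≤ ⊤) (0 : Γ(X, ⊤)) = 0 from
    map_zero (X.presheaf.map (homOfLE (le_top : V ≤ ⊤)).op).hom, zero_smul]
  rfl

theorem endo_structure_eq_sc (φ : Coh.structureModule X ⟶ Coh.structureModule X) :
    ∃ r : Γ(X, ⊤), φ = sc (Coh.structureModule X) r := by
  refine ⟨(show Γ(X, ⊤) from secOf φ), ?_⟩
  refine (homOfSection_secOf φ).symm.trans ((congrArg _ ?_).trans (homOfSection_secOf _))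
  show secOf φ = (Groth.L18.Frame.ro (U := (⊤ : X.Opens)) le_top (show Γ(X, ⊤) from secOf φ) : Γ(X, ⊤)) * 1
  rw [mul_one]
  simp [Groth.L18.Frame.ro]

theorem endo_invertible_eq_sc {L : X.Modules} (hL : PicF.IsInvertible L) (φ : L ⟶ L) :
    ∃ r : Γ(X, ⊤), φ = sc L r := by
  obtain ⟨N, hN, ⟨e⟩⟩ := Groth.L08.Cube.exists_inverse hL
  let ψ : Coh.structureModule X ⟶ Coh.structureModule X := e.inv ≫ tensorMap φ (𝟙 N) ≫ e.hom
  obtain ⟨r, hr⟩ := endo_structure_eq_sc ψ
  refine ⟨r, ?_⟩
  let T := twistEquiv (L := N) (L' := L) e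
  apply T.functor.map_injective
  show tensorMap φ (𝟙 N) = tensorMap (sc L r) (𝟙 N)
  rw [tensorMap_sc, ← cancel_mono e.hom, sc_natural, ← hr]
  simp [ψ]

variable (k : Type u) [Field k] [X.Over (Spec (CommRingCat.of k))]

/-- The scalar action of `k` on morphisms of modules. -/
@[instance_reducible]
def linearStruct : Linear k X.Modules where
  homModule M N :=
    { smul := fun c f => f ≫ sc N (Coh.toGlobal (X ↘ Spec (CommRingCat.of k)) c)
      one_smul := fun f => by
        show f ≫ sc N (Coh.toGlobal _ 1) = f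
        rw [map_one, sc_one, Category.comp_id]
      mul_smul := fun a b f => by
        show f ≫ sc N (Coh.toGlobal _ (a * b)) = (f ≫ sc N _) ≫ sc N _
        rw [map_mul, sc_mul, Category.assoc]
      smul_zero := fun a => zero_comp
      smul_add := fun a f g => Preadditive.add_comp _ _ _ _ _ _
      add_smul := fun a b f => by
        show f ≫ sc N (Coh.toGlobal _ (a + b)) = f ≫ sc N _ + f ≫ sc N _
        rw [map_add, sc_add, Preadditive.comp_add]
      zero_smul := fun f => by
        show f ≫ sc N (Coh.toGlobal _ 0) = 0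
        rw [map_zero, sc_zero, comp_zero] }
  smul_comp M N P c f g := by
    show (f ≫ sc N _) ≫ g = (f ≫ g) ≫ sc P _
    rw [Category.assoc, sc_natural, Category.assoc]
  comp_smul M N P f c g := (Category.assoc f g _).symm

theorem smul_bijective [IsIntegral X] (hb : Function.Bijective (Coh.toGlobal (X ↘ Spec (CommRingCat.of k))))
    {L : X.Modules} (hL : PicF.IsInvertible L) :
    letI := linearStruct (X := X) k
    Function.Bijective fun c : k => c • 𝟙 L := by
  letI := linearStruct (X := X) k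
  haveI : Nontrivial (End L) := by
    refine ⟨⟨1, 0, fun h => ?_⟩⟩
    exact not_isZero_of_rank Nat.one_pos (locFree_one hL) ((IsZero.iff_id_eq_zero L).2 h)
  refine ⟨fun a b h => ?_, fun φ => ?_⟩
  · by_contra hne
    have h1 : (a - b) • 𝟙 L = 0 := (sub_smul a b (𝟙 L)).trans (sub_eq_zero.2 h)
    have h2 : 𝟙 L = 0 := (smul_eq_zero.1 h1).resolve_left (sub_ne_zero.2 hne)
    exact one_ne_zero (α := End L) h2
  · obtain ⟨r, hr⟩ := endo_invertible_eq_sc hL φ
    obtain ⟨c, hc⟩ := hb.2 r
    exact ⟨c, by show 𝟙 L ≫ _ = φ; rw [Category.id_comp, hr, ← hc]⟩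

end General

variable {X : Scheme.{u}} [IsIntegral X] [IsLocallyNoetherian X] (k : Type u) [Field k]
  [X.Over (Spec (CommRingCat.of k))] [IsProper (X ↘ Spec (CommRingCat.of k))]
  (hreg : ∀ x : X, IsRegularLocalRing (X.presheaf.stalk x)) (hd : topologicalKrullDim X ≤ 1)

include hreg hd in
theorem hom_eq_zero {L M : X.Modules} (hL : PicF.IsInvertible L) (hM : PicF.IsInvertible M)
    (hdeg : Curv2.deg k X L 1 = Curv2.deg k X M 1) (hne : ¬ Nonempty (L ≅ M)) (f : L ⟶ M) : f = 0 := by
  by_contra hf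
  have h := (line_hom_facts k hreg hd (locFree_one hL) (locFree_one hM) f hf).2.2
    (by rw [← dg_eq k (locFree_one hL), ← dg_eq k (locFree_one hM), hdeg])
  exact hne ⟨asIso f⟩

end Groth.L21.Bundle.AutCurve
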