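import Groth.Agent.L21.Bundle.Hom

/-!
Degrees of line subbundles of indecomposable and of simple bundles of rank two.
-/

set_option autoImplicit false
set_option backward.isDefEq.respectTransparency false
set_option linter.style.haveILetI false
universe u

open CategoryTheory CategoryTheory.Limits AlgebraicGeometry TopologicalSpace

noncomputable section

namespace Groth.L21.Bundle

open Groth.L21.RR (h)
open Groth.L17.ChangeRings
open Groth.L03.ShStab.Scalar (sc)

variable {X : Scheme.{u}} [IsIntegral X] [IsLocallyNoetherian X] (k : Type u) [Field k]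
  [X.Over (Spec (CommRingCat.of k))] [IsProper (X ↘ Spec (CommRingCat.of k))]

attribute [local irreducible] dg rk

omit [IsIntegral X] [IsLocallyNoetherian X] [IsProper (X ↘ Spec (CommRingCat.of k))] in
/-- A scalar endomorphism killing a nonzero submodule is zero. -/
theorem eq_zero_of_scalar {L E : X.Modules} (i : L ⟶ E) [Mono i] (hL : ¬ IsZero L) (φ : E ⟶ E) (c : k)
    (hc : (SheafOfModules.toSheaf X.ringCatSheaf).map φ =
      Coh.smulAb E (Coh.toGlobal (X ↘ Spec (CommRingCat.of k)) c))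
    (h0 : i ≫ φ = 0) : φ = 0 := by
  have hφ : φ = sc E (Coh.toGlobal (X ↘ Spec (CommRingCat.of k)) c) :=
    (SheafOfModules.toSheaf X.ringCatSheaf).map_injective (hc.trans (toSheaf_sc E _).symm)
  subst hφ
  by_cases hc0 : c = 0
  · subst hc0
    refine Scheme.Modules.hom_ext _ _ fun V => ?_
    ext m
    show (sc E _).app V m = (0 : E ⟶ E).app V m
    rw [sc_app, show (Coh.toGlobal (X ↘ Spec (CommRingCat.of k)) (0 : k)) = 0 from map_zero _]
    rw [show Groth.L18.Frame.ro (U := (⊤ : X.Opens)) le_top (0 : Γ(X, ⊤)) = (0 : Γ(X, V)) from map_zero _, zero_smul]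
    rfl
  exfalso
  refine hL ((IsZero.iff_id_eq_zero L).2 ((cancel_mono i).1 (Scheme.Modules.hom_ext _ _ fun V => ?_)))
  ext m
  have h1 : (Groth.L18.Frame.ro (U := (⊤ : X.Opens)) le_top
      (Coh.toGlobal (X ↘ Spec (CommRingCat.of k)) c) : Γ(X, V)) • i.app V m = 0 := by
    rw [← sc_app]
    show (i ≫ sc E _).app V m = 0
    rw [h0]
    rfl
  have hu : IsUnit (Groth.L18.Frame.ro (U := (⊤ : X.Opens)) le_top
      (Coh.toGlobal (X ↘ Spec (CommRingCat.of k)) c) : Γ(X, V)) :=
    ((isUnit_iff_ne_zero.2 hc0).map (Coh.toGlobal (X ↘ Spec (CommRingCat.of k)))).map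
      (X.presheaf.map (homOfLE (le_top : V ≤ ⊤)).op).hom
  rw [Category.id_comp, zero_comp]
  exact hu.smul_eq_zero.1 h1

variable [Smooth (X ↘ Spec (CommRingCat.of k))]
  (hd : topologicalKrullDim X = 1) (h0 : h k 0 (Coh.structureModule X) = 1)

include hd h0 in
/-- A nonsplit extension gives a homomorphism to the twisted quotient. -/
theorem exists_hom_of_not_split {a b : ℕ} {S : ShortComplex X.Modules} (hS : S.ShortExact)
    (hA : FlatMod.IsFinLocFreeOfRank a S.X₁) (hB : FlatMod.IsFinLocFreeOfRank b S.X₃) (hns : ¬ IsSplitEpi S.g) :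
    ∃ φ : S.X₁ ⟶ CohB1.tensorMod S.X₃ (omega (X := X) k), φ ≠ 0 := by
  by_contra hall
  push Not at hall
  haveI := Groth.L17.Duality.hasSheafHom S.X₃
  haveI := subsingleton_h1_homMod k hd h0 hA hB hall
  exact hns (isSplitEpi_of_h1_homMod hS (Groth.L22.CurveDeg.isFinLocFree_of_rank hB))

include hd h0 in
/-- Line subsheaves of an indecomposable bundle of rank two. -/
theorem two_mul_dg_le {E L : X.Modules} (hE : FlatMod.IsFinLocFreeOfRank 2 E)
    (hind : ∀ (E₁ E₂ : X.Modules), Nonempty (E ≅ E₁ ⊞ E₂) → IsZero E₁ ∨ IsZero E₂)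
    (i : L ⟶ E) [Mono i] (hL : FlatMod.IsFinLocFreeOfRank 1 L) :
    2 * dg k L ≤ dg k E + 2 * (Curv2.genus k X : ℤ) - 2 := by
  have hreg := Groth.L21.Smooth.regular_stalk (k := k) (X ↘ Spec (CommRingCat.of k))
  have hΩ := Groth.L21.Duality.isInvertible_omega (X := X) (k := k) hd
  have hcE := isCoh_of_rank hE
  have hcL := isCoh_of_rank hL
  obtain ⟨hr, hdd⟩ := add_cokernel k hd.le i hcL hcE
  rw [rk_eq hE, rk_eq hL] at hr
  obtain ⟨Q, p, hp, hcK, hK0, hQ⟩ := exists_locFree_quotient hreg hd.le (coh_cokernel hcL hcE i)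
  rw [show rk (cokernel i) = 1 by omega] at hQ
  haveI := hp
  have hdQ := (dg_quotient_le hd.le k p (coh_cokernel hcL hcE i) (isCoh_of_rank hQ) hcK hK0).1
  haveI : Epi (cokernel.π i ≫ p) := epi_comp _ _
  have hcL' := coh_kernel hcE (isCoh_of_rank hQ) (cokernel.π i ≫ p)
  obtain ⟨hr', hd'⟩ := add_kernel k hd.le (cokernel.π i ≫ p) hcE (isCoh_of_rank hQ)
  rw [rk_eq hE, rk_eq hQ] at hr'
  have hL' := locFree_of_mono hreg hd.le (kernel.ι (cokernel.π i ≫ p)) hcL' hE
  rw [show rk (kernel (cokernel.π i ≫ p)) = 1 by omega] at hL'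
  have hS := shortExact_kernel (cokernel.π i ≫ p)
  obtain ⟨φ, hφ⟩ := exists_hom_of_not_split k hd h0 hS hL' hQ fun hsp => by
    haveI := hsp
    let σ := ShortComplex.Splitting.ofExactOfSection _ hS.exact (section_ (cokernel.π i ≫ p)) (IsSplitEpi.id _)
      hS.mono_f
    rcases hind _ _ ⟨σ.isoBinaryBiproduct⟩ with hz | hz
    · exact not_isZero_of_rank Nat.one_pos hL' hz
    · exact not_isZero_of_rank Nat.one_pos hQ hz
  have hT := locFree_twist hd hreg hΩ hQ
  obtain ⟨a, b, K, I, -, -, -, -, -, -, hab, hb, hbs, hdeg, hK0', hle, -⟩ := hom_facts k hreg hd.le hL' hT hφ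
  have h1 := hK0' (by omega)
  have h2 := hle (by omega)
  rw [h1, zero_add] at hdeg
  rw [← hdeg, dg_eq k hL', dg_eq k hT, dg_twist k hd hΩ (isCoh_of_rank hQ), rk_eq hQ, dg_eq k (locFree_one hΩ),
    dg_omega k hd h0] at h2
  push_cast at h2
  omega

include k hd in
/-- A nonzero map from a line bundle to a bundle is injective. -/
theorem mono_of_line {r : ℕ} {L E : X.Modules} (hL : FlatMod.IsFinLocFreeOfRank 1 L)
    (hE : FlatMod.IsFinLocFreeOfRank r E) (φ : L ⟶ E) (hφ : φ ≠ 0) : Mono φ := by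
  have hreg := Groth.L21.Smooth.regular_stalk (k := k) (X ↘ Spec (CommRingCat.of k))
  have hcK := coh_kernel (isCoh_of_rank hL) (isCoh_of_rank hE) φ
  have hK := locFree_of_mono hreg hd.le (kernel.ι φ) hcK hL
  have hle := rk_le_of_mono (kernel.ι φ) hcK (isCoh_of_rank hL)
  rw [rk_eq hL] at hle
  rcases Nat.eq_zero_or_pos (rk (kernel φ)) with h1 | h1
  · exact Preadditive.mono_of_isZero_kernel φ (isZero_of_rank_zero (h1 ▸ hK))
  · exact absurd (eq_zero_of_comp_eq_zero hreg hd.le hE hcK (isCoh_of_rank hL) (kernel.ι φ)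
      (by rw [rk_eq hL]; omega) φ (kernel.condition φ)) hφ

include hd in
theorem exists_invertible_deg [IsAlgClosed k] (n : ℤ) :
    ∃ L : X.Modules, PicF.IsInvertible L ∧ Curv2.deg k X L 1 = n := by
  obtain ⟨L, hL, hdL⟩ := Groth.L22.CurveDeg.exists_deg_eq (X := X) (k := k) hd n.natAbs
  rcases Int.natAbs_eq n with h | h
  · exact ⟨L, hL, hdL.trans h.symm⟩
  · obtain ⟨L', hL', ⟨e⟩⟩ := Groth.L08.Cube.exists_inverse hL
    exact ⟨L', hL', by rw [deg_inverse k hd hL hL' e, hdL]; omega⟩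

include hd h0 in
/-- Line subbundles of simple bundles of rank two. -/
theorem two_mul_dg_le_of_simple {E L : X.Modules} (hE : FlatMod.IsFinLocFreeOfRank 2 E)
    (hsimple : ∀ φ : E ⟶ E, ∃ c : k, (SheafOfModules.toSheaf X.ringCatSheaf).map φ =
      Coh.smulAb E (Coh.toGlobal (X ↘ Spec (CommRingCat.of k)) c))
    (i : L ⟶ E) [Mono i] (hL : FlatMod.IsFinLocFreeOfRank 1 L)
    (hM : FlatMod.IsFinLocFreeOfRank 1 (cokernel i)) :
    2 * dg k L ≤ dg k E + (Curv2.genus k X : ℤ) - 2 := by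
  haveI := Groth.L21.RR.isNoetherian_of_proper (X := X) k
  haveI := Groth.L17.Duality.hasSheafHom (cokernel i)
  have hcL := isCoh_of_rank hL
  have hkill : ∀ φ : E ⟶ E, i ≫ φ = 0 → φ = 0 := fun φ h => by
    obtain ⟨c, hc⟩ := hsimple φ
    exact eq_zero_of_scalar k i (not_isZero_of_rank Nat.one_pos hL) φ c hc h
  have hzero : ∀ ψ : cokernel i ⟶ L, ψ = 0 := fun ψ => by
    have h1 := hkill (cokernel.π i ≫ ψ ≫ i) (by rw [← Category.assoc, cokernel.condition, zero_comp])
    rw [← cancel_mono i, zero_comp, ← cancel_epi (cokernel.π i), comp_zero]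
    exact h1
  haveI hH0 : Subsingleton (Coh.HH X ((homMod (cokernel i)).obj L) 0) :=
    ⟨fun x y => (homH0 (cokernel i) L).symm.injective ((hzero _).trans (hzero _).symm)⟩
  have hne : ¬ Subsingleton (Coh.HH X ((homMod (cokernel i)).obj L) 1) := fun hs => by
    haveI := hs
    haveI := isSplitEpi_of_h1_homMod (shortExact_cokernel i) (Groth.L22.CurveDeg.isFinLocFree_of_rank hM)
    have h1 := hkill (cokernel.π i ≫ section_ (cokernel.π i)) (by rw [← Category.assoc, cokernel.condition, zero_comp])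
    have h2 : cokernel.π i ≫ 𝟙 (cokernel i) = 0 := by
      rw [← IsSplitEpi.id (cokernel.π i), ← Category.assoc, h1, zero_comp]
    rw [Category.comp_id] at h2
    exact not_isZero_of_rank Nat.one_pos hM (IsZero.of_epi_eq_zero _ h2)
  have hχ := euler_homMod k hd h0 hL hM
  rw [Groth.L21.RR.euler_eq k hd.le, Groth.L21.RR.h_eq_zero_of_subsingleton k hH0] at hχ
  have hcH : Coh.IsCoh ((homMod (cokernel i)).obj L) :=
    Groth.L16.CohSupport.isCoh_of_iso
      ((Groth.L00.Tensor.tensorComm _ _) ≪≫ (Groth.L17.Duality.tensorDualIso (cokernel i)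
        (Groth.L22.CurveDeg.isFinLocFree_of_rank hM)).app L)
      (Groth.L22.CurveDeg.isCoh_tensor_locFree (isFinLocFreeOfRank_dual hM) hcL)
  haveI := Groth.L21.RR.finite_HH' k hcH 1
  have hpos : 0 < h k 1 ((homMod (cokernel i)).obj L) := by
    haveI := not_subsingleton_iff_nontrivial.1 hne
    exact Module.finrank_pos
  obtain ⟨-, hdd⟩ := add_cokernel k hd.le i hcL (isCoh_of_rank hE)
  push_cast at hχ
  omega

end Groth.L21.Bundle
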