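import Groth.Agent.L21.Bundle.GenPoint
import Groth.Agent.L21.Bundle.Hom
import Groth.Agent.L21.Bundle.RankTwoExt
import Groth.Agent.L21.Bundle.Lines
import Groth.Agent.L00.KFlatStalk
import Groth.Agent.L16.Existence.Lemmas

/-!
Embedding a bundle into copies of a line bundle.
-/

set_option autoImplicit false
set_option backward.isDefEq.respectTransparency false
set_option linter.style.haveILetI false
universe u

open CategoryTheory CategoryTheory.Limits AlgebraicGeometry TopologicalSpace

noncomputable section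

namespace Groth.L21.Bundle

open Groth.L00.Tensor
open Groth.L17.ChangeRings
open Groth.L21.RR (h)

variable {X : Scheme.{u}} [IsIntegral X] [IsLocallyNoetherian X] (k : Type u) [Field k]
  [X.Over (Spec (CommRingCat.of k))] [IsProper (X ↘ Spec (CommRingCat.of k))]
  [Smooth (X ↘ Spec (CommRingCat.of k))]
  (hd : topologicalKrullDim X = 1) (h0 : h k 0 (Coh.structureModule X) = 1)

attribute [local irreducible] dg rk

include hd h0 in
/-- A semistable bundle of slope less than `deg L - (2g - 1)` embeds into copies of `L`, given a point of degree one. -/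
theorem exists_mono_copies {r : ℕ} (hr : 0 < r) {F L : X.Modules} (hF : FlatMod.IsFinLocFreeOfRank r F)
    (hFb : Bd k F (dg k F) r) (hL : PicF.IsInvertible L) {P : X} (hP : IsClosed ({P} : Set X))
    (hres : @Module.finrank k (X.residueField P) _ _ (Curv2.resAlgebra k X P).toModule = 1)
    (hdeg : dg k F < (Curv2.deg k X L 1 - (2 * (Curv2.genus k X : ℤ) - 1)) * (r : ℤ)) :
    ∃ M : ℕ, 0 < M ∧ ∃ j : F ⟶ ∐ fun _ : Fin M => L, Mono j := by
  haveI := Groth.L21.RR.isNoetherian_of_proper (X := X) k
  have hreg := Groth.L21.Smooth.regular_stalk (k := k) (X ↘ Spec (CommRingCat.of k))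
  haveI := Groth.L17.Duality.hasSheafHom F
  have hFf := Groth.L22.CurveDeg.isFinLocFree_of_rank hF
  have hD := isFinLocFreeOfRank_dual hF
  have hcD := isCoh_of_rank hD
  let A : X.Modules := CohB1.tensorMod (Groth.L17.Duality.dual F) L
  have hA : FlatMod.IsFinLocFreeOfRank r A := locFree_twist hd hreg hL hD
  have hcA := isCoh_of_rank hA
  have hdA : dg k A = (r : ℤ) * Curv2.deg k X L 1 - dg k F := by
    rw [dg_twist k hd hL hcD, rk_eq hD, dg_dual k hd h0 hF]; ring
  let a : tensorRightF (Groth.L17.Duality.dual F) ⊣ tensorRightF F := Groth.L17.Duality.dualAdj F hFf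
  obtain ⟨N, q, hq⟩ := exists_sections_gen k hd h0 hA hP hres (E := A) (fun K i hi hK hrK => by
    haveI := hi
    obtain ⟨h1, h2⟩ := add_cokernel k hd.le i hK hcA
    rw [rk_eq hA] at h1
    have hC := coh_cokernel hK hcA i
    obtain ⟨Q, p, hp, hK', hK0, hQ⟩ := exists_locFree_quotient hreg hd.le hC
    rw [show rk (cokernel i) = 1 by omega] at hQ
    haveI := hp
    have hle := (dg_quotient_le hd.le k p hC (isCoh_of_rank hQ) hK' hK0).1
    haveI : Epi (cokernel.π i ≫ p) := epi_comp _ _
    have hne : (cokernel.π i ≫ p) ≠ 0 := fun h => not_isZero_of_rank Nat.one_pos hQ (IsZero.of_epi_eq_zero _ h)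
    let g : CohB1.tensorMod L (Groth.L17.Duality.dual F) ⟶ Q := (tensorComm L _).hom ≫ cokernel.π i ≫ p
    have hne' : (a.homEquiv L Q g) ≠ 0 := fun h => hne (by
      have h' : g = 0 := (a.homEquiv L Q).injective (h.trans (by rw [a.homEquiv_unit, Functor.map_zero, comp_zero]))
      rwa [← cancel_epi (tensorComm L (Groth.L17.Duality.dual F)).hom, comp_zero])
    let g' : L ⟶ CohB1.tensorMod F Q := a.homEquiv L Q g ≫ (tensorComm Q F).hom
    have hne'' : g' ≠ 0 := fun h => hne' (by
      rw [← cancel_mono (tensorComm Q F).hom, zero_comp]; exact h)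
    have hQi := isInvertible_of_rank hQ
    have hW := locFree_twist hd hreg hQi hF
    haveI := mono_of_line k hd (locFree_one hL) hW g' hne''
    have h5 := bd_twist k hd hQi hFb L g' inferInstance (isCoh_of_rank (locFree_one hL))
    rw [← dg_eq k (locFree_one hL), rk_eq (locFree_one hL), dg_eq k (locFree_one hQi)] at h5
    push_cast at h5
    by_contra hcon
    have hQle : dg k Q ≤ 2 * (Curv2.genus k X : ℤ) - 1 := by omega
    have hr0 : (0 : ℤ) ≤ r := Int.natCast_nonneg r
    nlinarith [mul_le_mul_of_nonneg_left hQle hr0])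
  -- the evaluation pairing
  let η : tensorRightF L ⋙ tensorRightF (Groth.L17.Duality.dual F) ≅ tensorRightF A :=
    Functor.isoWhiskerLeft _ (tensorFlipIso (Groth.L17.Duality.dual F)) ≪≫ tripleIso (Groth.L17.Duality.dual F) L
  let c : (tensorRightF L).obj F ⟶ (tensorRightF F).obj L := (tensorComm F L).hom
  let ψ : CohB1.tensorMod F A ⟶ L :=
    η.inv.app F ≫ (a.homEquiv ((tensorRightF L).obj F) L).symm c
  have hψ : ∀ {K : X.Modules} (i : K ⟶ F), (tensorRightF A).map i ≫ ψ = 0 → i = 0 := by
    intro K i h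
    have h1 : (tensorRightF (Groth.L17.Duality.dual F)).map ((tensorRightF L).map i) ≫
        (a.homEquiv ((tensorRightF L).obj F) L).symm c = 0 := by
      rw [← cancel_epi (η.inv.app K), comp_zero, ← Category.assoc]
      exact (congrArg (· ≫ _) (η.inv.naturality i).symm).trans ((Category.assoc _ _ _).trans h)
    have h1 := (a.homEquiv_naturality_left_symm ((tensorRightF L).map i) c).trans h1
    have h2 : (tensorRightF L).map i ≫ c = 0 := by
      apply (a.homEquiv _ _).symm.injective
      refine h1.trans ?_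
      rw [a.homEquiv_counit, Functor.map_zero, zero_comp]
    haveI : IsIso c := inferInstanceAs (IsIso (tensorComm F L).hom)
    rw [← zero_comp (f := c), cancel_mono] at h2
    obtain ⟨L', hL', ⟨e⟩⟩ := Groth.L08.Cube.exists_inverse hL
    let T : X.Modules ≌ X.Modules := twistEquiv (tensorComm L' L ≪≫ e)
    exact T.functor.map_injective (h2.trans (T.functor.map_zero _ _).symm)
  let φ : Fin (N + 1) → (F ⟶ L) := fun j => if hj : (j : ℕ) < N then
    (tensorUnitRight F).inv ≫ tensorMap (𝟙 F) (Sigma.ι (fun _ : Fin N => Coh.structureModule X) ⟨j, hj⟩ ≫ q) ≫ ψ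
    else 0
  let jj : F ⟶ ∐ fun _ : Fin (N + 1) => L :=
    biproduct.lift φ ≫ (biproduct.isoCoproduct fun _ : Fin (N + 1) => L).hom
  refine ⟨N + 1, N.succ_pos, jj, Preadditive.mono_of_isZero_kernel _ ?_⟩
  set K := kernel jj
  let i : K ⟶ F := kernel.ι jj
  have hij : ∀ j, i ≫ φ j = 0 := fun j => by
    have h := kernel.condition jj
    rw [← Category.assoc, ← zero_comp (f := (biproduct.isoCoproduct fun _ : Fin (N + 1) => L).hom), cancel_mono] at h
    have h' := congrArg (· ≫ biproduct.π _ j) h
    simp only [Category.assoc, biproduct.lift_π, zero_comp] at h'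
    exact h'
  have hcF := isCoh_of_rank hF
  have hcK : Coh.IsCoh K := by
    have hcc : Coh.IsCoh (∐ fun _ : Fin (N + 1) => L) := Groth.L16.Existence.isCoh_sigma (fun _ : Fin (N + 1) => L) (fun _ => isCoh_of_rank (locFree_one hL))
    exact coh_kernel hcF hcc jj
  have hKl := locFree_of_mono hreg hd.le i hcK hF
  haveI := Groth.L17.Duality.hasSheafHom K
  let b : tensorRightF K ⊣ homMod K := (ModSite.sheafHomAdj (O := X.sheaf) K).ofNatIsoLeft (tensorRightBiIso K).symm
  let hK : CohB1.tensorMod A K ⟶ L := (tensorComm A K).hom ≫ (tensorRightF A).map i ≫ ψ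
  let g : A ⟶ (homMod K).obj L := b.homEquiv A L hK
  have hg : q ≫ g = 0 := by
    refine Sigma.hom_ext _ _ fun j => ?_
    rw [comp_zero, ← Category.assoc, ← b.homEquiv_naturality_left]
    refine Eq.trans (congrArg _ ?_) ((b.homEquiv_unit _ _ _).trans (by rw [Functor.map_zero, comp_zero]))
    have h := hij ⟨j, Nat.lt_succ_of_lt j.2⟩
    simp only [φ, dif_pos j.2] at h
    set s := Sigma.ι (fun _ : Fin N => Coh.structureModule X) j ≫ q
    show tensorMap s (𝟙 K) ≫ (tensorComm A K).hom ≫ tensorMap i (𝟙 A) ≫ ψ = 0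
    rw [← Category.assoc, Groth.L00.Stk.tensorComm_natural, Category.assoc, ← Category.assoc (tensorMap (𝟙 K) s),
      ← tensorMap_comp, Category.id_comp, Category.comp_id]
    have h2 : tensorMap i s = tensorMap i (𝟙 _) ≫ tensorMap (𝟙 F) s := by
      rw [← tensorMap_comp, Category.comp_id, Category.id_comp]
    have h3 : tensorMap i (𝟙 (Coh.structureModule X)) = (tensorUnitRight K).hom ≫ i ≫ (tensorUnitRight F).inv := by
      rw [← Category.assoc, Iso.eq_comp_inv]
      exact Groth.L20.ResDescent.tensorUnitRight_natural i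
    rw [h2, h3]
    simp only [Category.assoc]
    rw [h, comp_zero, comp_zero]
  have hH : FlatMod.IsFinLocFreeOfRank (rk K) ((homMod K).obj L) := by
    have hD' := locFree_twist hd hreg hL (isFinLocFreeOfRank_dual hKl)
    let e : CohB1.tensorMod (Groth.L17.Duality.dual K) L ≅ (homMod K).obj L :=
      tensorComm (Groth.L17.Duality.dual K) L ≪≫
        (Groth.L17.Duality.tensorDualIso K (Groth.L22.CurveDeg.isFinLocFree_of_rank hKl)).app L
    have := locFree_of_mono hreg hd.le e.inv (Groth.L16.CohSupport.isCoh_of_iso e (isCoh_of_rank hD')) hD'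
    rwa [← rk_iso e, rk_eq hD'] at this
  have hfree : Coh.IsCoh (FlatMod.freeMod X N) :=
    Groth.L16.NegPow.isCoh_of_isFinLocFree (Groth.L29.DC.isFinLocFree_freeMod X _)
  have hg0 : g = 0 := by
    have hrI : rk (Abelian.image q) = rk A := by
      obtain ⟨h1, -⟩ := add_cokernel k hd.le (Abelian.image.ι q) (coh_image hfree hcA q) hcA
      have hc : cokernel (Abelian.image.ι q) ≅ cokernel q :=
        (cokernelEpiComp (Abelian.factorThruImage q) _).symm ≪≫ cokernelIsoOfEq (Abelian.image.fac q)
      rw [rk_iso hc, hq] at h1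
      omega
    refine eq_zero_of_comp_eq_zero hreg hd.le hH (coh_image hfree hcA q) hcA (Abelian.image.ι q) hrI g ?_
    rw [← cancel_epi (Abelian.factorThruImage q), comp_zero, ← Category.assoc, Abelian.image.fac, hg]
  have hK0 : hK = 0 := (b.homEquiv A L).injective (hg0.trans (by rw [b.homEquiv_unit, Functor.map_zero, comp_zero]))
  have hi0 : i = 0 := hψ i (by rwa [← cancel_epi (tensorComm A K).hom, comp_zero])
  haveI : Mono i := inferInstance
  exact IsZero.of_mono_eq_zero i hi0

end Groth.L21.Bundle
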