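import Groth.Agent.L21.Bundle.Lines
import Mathlib.RingTheory.Nilpotent.Basic
import Mathlib.CategoryTheory.Endomorphism

/-!
Fitting's lemma for vector bundles on curves: an endomorphism of an indecomposable bundle is invertible
or nilpotent.
-/

set_option autoImplicit false
set_option backward.isDefEq.respectTransparency false
set_option linter.style.haveILetI false
universe u

open CategoryTheory CategoryTheory.Limits AlgebraicGeometry

noncomputable section

namespace Groth.L21.Bundle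

variable {X : Scheme.{u}} [IsIntegral X] [IsLocallyNoetherian X] (k : Type u) [Field k]
  [X.Over (Spec (CommRingCat.of k))] [IsProper (X ↘ Spec (CommRingCat.of k))]
  (hreg : ∀ x : X, IsRegularLocalRing (X.presheaf.stalk x)) (hd : topologicalKrullDim X ≤ 1)

attribute [local irreducible] dg rk

include k hreg hd in
/-- Fitting's lemma. -/
theorem isIso_or_isNilpotent {r : ℕ} {E : X.Modules} (hE : FlatMod.IsFinLocFreeOfRank r E)
    (hind : ∀ (E₁ E₂ : X.Modules), Nonempty (E ≅ E₁ ⊞ E₂) → IsZero E₁ ∨ IsZero E₂) (f : End E) :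
    IsUnit f ∨ IsNilpotent f := by
  classical
  have hcE := isCoh_of_rank hE
  let K : ℕ → ℕ := fun n => rk (kernel (show E ⟶ E from f ^ (n + 1)))
  have hKr : ∀ n, K n ≤ r := fun n => by
    rw [← rk_eq hE]
    exact rk_le_of_mono (kernel.ι (show E ⟶ E from f ^ (n + 1))) (coh_kernel hcE hcE _) hcE
  obtain ⟨n, hn⟩ : ∃ n, ∀ m, K m ≤ K n := by
    obtain ⟨n, hn⟩ := Nat.findGreatest_spec (P := fun d => ∃ n, K n = d) (hKr 0) ⟨0, rfl⟩
    exact ⟨n, fun m => (Nat.le_findGreatest (P := fun d => ∃ n, K n = d) (hKr m) ⟨m, rfl⟩).trans_eq hn.symm⟩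
  let g : E ⟶ E := f ^ (n + 1)
  have hgg : g ≫ g = (f ^ ((n + 1) + (n + 1)) : End E) := (pow_add f (n + 1) (n + 1)).symm
  -- the image of `g` maps isomorphically to itself
  let I := Abelian.image g
  let π : E ⟶ I := Abelian.factorThruImage g
  let ι : I ⟶ E := Abelian.image.ι g
  have hπι : π ≫ ι = g := Abelian.image.fac g
  have hcI : Coh.IsCoh I := coh_image hcE hcE g
  have hI := locFree_of_mono hreg hd ι hcI hE
  let a : I ⟶ I := ι ≫ π
  have hle : rk (kernel g) ≤ rk (kernel (g ≫ g)) := by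
    let l : kernel g ⟶ kernel (g ≫ g) := kernel.lift (g ≫ g) (kernel.ι g) (by simp)
    haveI : Mono l := mono_of_mono_fac (kernel.lift_ι _ _ _)
    exact rk_le_of_mono l (coh_kernel hcE hcE g) (coh_kernel hcE hcE _)
  have hge : rk (kernel (g ≫ g)) ≤ rk (kernel g) := by
    have := hn (n + 1 + n)
    simp only [K] at this
    rw [hgg]
    convert this using 4
    omega
  obtain ⟨h1, -⟩ := add_image k hd g hcE hcE
  obtain ⟨h2, -⟩ := add_kernel k hd π hcE hcI
  obtain ⟨h3, -⟩ := add_image k hd a hcI hcI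
  have hKa : rk (kernel a) = 0 := by
    -- `π` maps the kernel of `g ≫ g` onto that of `a`
    let q : kernel (g ≫ g) ⟶ kernel a := kernel.lift a (kernel.ι (g ≫ g) ≫ π) (by
      rw [← cancel_mono ι, zero_comp]
      simp only [a, Category.assoc, hπι]
      rw [reassoc_of% hπι]
      exact kernel.condition _)
    have hq : rk (kernel (π ≫ a)) = rk (kernel (g ≫ g)) := by
      have e : π ≫ a ≫ ι = g ≫ g := by simp only [a, Category.assoc, hπι, reassoc_of% hπι]
      rw [← rk_iso (kernelCompMono (π ≫ a) ι), rk_iso (kernelIsoOfEq (by rw [Category.assoc, e] : (π ≫ a) ≫ ι = g ≫ g))]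
    obtain ⟨h4, -⟩ := add_image k hd (π ≫ a) hcE hcI
    have e2 : rk (Abelian.image (π ≫ a)) = rk (Abelian.image a) := by
      obtain ⟨h5, -⟩ := add_cokernel k hd (Abelian.image.ι (π ≫ a)) (coh_image hcE hcI _) hcI
      obtain ⟨h6, -⟩ := add_cokernel k hd (Abelian.image.ι a) (coh_image hcI hcI _) hcI
      have e1 : ∀ {M : X.Modules} (u : M ⟶ I), rk (cokernel (Abelian.image.ι u)) = rk (cokernel u) := fun {M} u =>
        rk_iso ((cokernelEpiComp (Abelian.factorThruImage u) (Abelian.image.ι u)).symm ≪≫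
          cokernelIsoOfEq (Abelian.image.fac u))
      rw [e1, rk_iso (cokernelEpiComp π a)] at h5
      rw [e1] at h6
      omega
    have hIr : rk I = rk (Abelian.image g) := rfl
    omega
  have hka := locFree_of_mono hreg hd (kernel.ι a) (coh_kernel hcI hcI a) hI
  rw [hKa] at hka
  haveI : Mono a := Preadditive.mono_of_isZero_kernel a (isZero_of_rank_zero hka)
  haveI : IsIso a := (dg_le_of_mono hd k a hcI hcI rfl).2 rfl
  -- hence `E` splits off the image
  let p : E ⟶ I := π ≫ inv a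
  have hp : ι ≫ p = 𝟙 I := by rw [← Category.assoc]; exact IsIso.hom_inv_id a
  haveI : IsSplitEpi p := IsSplitEpi.mk' ⟨ι, hp⟩
  have hS := shortExact_kernel p
  let σ := ShortComplex.Splitting.ofExactOfSection _ hS.exact ι hp hS.mono_f
  rcases hind _ _ ⟨σ.isoBinaryBiproduct⟩ with hz | hz
  · refine Or.inl ?_
    haveI : Mono p := Preadditive.mono_of_isZero_kernel p hz
    haveI : IsIso p := isIso_of_mono_of_epi p
    haveI : IsIso π := by
      have : π = p ≫ a := by simp [p]
      rw [this]; infer_instance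
    haveI : IsIso ι := by
      have h7 : ι = inv p := IsIso.eq_inv_of_inv_hom_id hp
      rw [h7]; infer_instance
    have hg : IsUnit (f ^ (n + 1) : End E) := (isUnit_iff_isIso (f ^ (n + 1) : End E)).2 (by
      show IsIso g
      rw [← hπι]; infer_instance)
    exact (isUnit_pow_iff n.succ_ne_zero).1 hg
  · refine Or.inr ⟨n + 1, ?_⟩
    show g = 0
    rw [← hπι, show ι = 0 from hz.eq_of_src _ _, comp_zero]

include k hreg hd in
/-- Endomorphisms of indecomposable bundles form a local ring. -/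
theorem isUnit_or_isUnit_of_add {r : ℕ} {E : X.Modules} (hE : FlatMod.IsFinLocFreeOfRank r E)
    (hind : ∀ (E₁ E₂ : X.Modules), Nonempty (E ≅ E₁ ⊞ E₂) → IsZero E₁ ∨ IsZero E₂) (f₁ f₂ : End E)
    (h : IsUnit (f₁ + f₂)) : IsUnit f₁ ∨ IsUnit f₂ := by
  obtain ⟨u, hu⟩ := h
  rcases isIso_or_isNilpotent k hreg hd hE hind (f₁ * ↑u⁻¹) with h1 | h1
  · exact Or.inl ((Units.isUnit_mul_units f₁ u⁻¹).1 h1)
  · refine Or.inr ((Units.isUnit_mul_units f₂ u⁻¹).1 ?_)
    rw [show f₂ * ↑u⁻¹ = 1 - f₁ * ↑u⁻¹ by rw [eq_sub_iff_add_eq', ← add_mul, ← hu, Units.mul_inv]]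
    exact h1.isUnit_one_sub

end Groth.L21.Bundle
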