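import Groth.Agent.L21.Bundle.DualityApps
import Groth.Agent.L21.RR.GenusOnePoint
import Groth.Agent.L21.RR.Point

/-!
Generation of bundles by global sections at a rational point, without algebraic closedness.
-/

set_option autoImplicit false
set_option backward.isDefEq.respectTransparency false
set_option linter.style.haveILetI false
universe u

open CategoryTheory CategoryTheory.Limits AlgebraicGeometry TopologicalSpace Opposite IsLocalRing

noncomputable section

namespace Groth.L21.Bundle

open Groth.L21.RR (h hk e0 st toPoint resMod)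
open Groth.L00.Sky (sky)
open Groth.L16.CohLinear (hmap exact_hmap_delta)

variable {X : Scheme.{u}} [IsIntegral X] [IsLocallyNoetherian X] (k : Type u) [Field k]
  [X.Over (Spec (CommRingCat.of k))] [IsProper (X ↘ Spec (CommRingCat.of k))]
  [Smooth (X ↘ Spec (CommRingCat.of k))]
  (hd : topologicalKrullDim X = 1) (h0 : h k 0 (Coh.structureModule X) = 1)

attribute [local irreducible] dg rk
attribute [local instance] Curv2.resAlgebra

/-- A rational point has residue field of dimension one. -/
theorem finrank_residue_of_isRat {P : X} (h : Groth.L21.RR.IsRat k P) :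
    Module.finrank k (X.residueField P) = 1 :=
  Groth.L21.RR.finrank_residueField_of_surjective k fun a => by
    obtain ⟨b, rfl⟩ := IsLocalRing.residue_surjective a
    obtain ⟨c, hc⟩ := h b
    exact ⟨c, (Ideal.Quotient.eq.mpr hc).symm⟩

include hd h0 in
/-- Sections generate at a point of degree one, hence generically. -/
theorem exists_sections_gen {r : ℕ} {E : X.Modules} (hE : FlatMod.IsFinLocFreeOfRank r E)
    {P : X} (hP : IsClosed ({P} : Set X)) (hres : Module.finrank k (X.residueField P) = 1)
    (hb : ∀ (K : X.Modules) (i : K ⟶ E), Mono i → Coh.IsCoh K → rk K + 1 = r →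
      dg k K + (2 * (Curv2.genus k X : ℤ) - 1) < dg k E) :
    ∃ (N : ℕ) (q : FlatMod.freeMod X N ⟶ E), rk (cokernel q) = 0 := by
  classical
  haveI := Groth.L21.RR.isNoetherian_of_proper (X := X) k
  have hreg := Groth.L21.Smooth.regular_stalk (k := k) (X ↘ Spec (CommRingCat.of k))
  have hcE := isCoh_of_rank hE
  haveI := Groth.L21.RR.finite_HH' k hcE 0
  let b := Module.finBasis k (Coh.HH X E 0)
  let q : FlatMod.freeMod X (Module.finrank k (Coh.HH X E 0)) ⟶ E :=
    Sigma.desc fun i => Groth.L16.homOfSection E (e0 E (b i))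
  have hq : ∀ i, ∀ (x : X), E.presheaf.germ ⊤ x trivial (e0 E (b i)) ∈ LinearMap.range (st q x) := by
    intro i x
    refine ⟨st (Sigma.ι (fun _ => Coh.structureModule X) i) x (Groth.L21.RR.one X x), ?_⟩
    have h1 : Sigma.ι (fun _ => Coh.structureModule X) i ≫ q = Groth.L16.homOfSection E (e0 E (b i)) :=
      Sigma.ι_desc _ _
    rw [← Groth.L21.RR.app_homOfSection_one (e0 E (b i)), ← h1]
    exact ((Groth.L21.RR.st_comp _ q x _).symm.trans (Groth.L21.RR.st_germ _ _ _))
  have hsec : ∀ (x : X) (s : Γ(E, ⊤)), E.presheaf.germ ⊤ x trivial s ∈ LinearMap.range (st q x) := by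
    intro x s
    obtain ⟨z, rfl⟩ := (e0 E).surjective s
    rw [← b.sum_repr z, map_sum, map_sum]
    refine Submodule.sum_mem _ fun i _ => ?_
    rw [Groth.L21.RR.e0_smul, Groth.L20.ModStalk.germ_smul]
    exact Submodule.smul_mem _ _ (hq i x)
  have hPsurj : Function.Surjective (st q P) := by
    rw [← LinearMap.range_eq_top]
    by_contra hne
    haveI := Groth.L06.SupportStalk.finite_stalk E hcE P
    obtain ⟨N, hN, hle⟩ := (IsCoatomic.eq_top_or_exists_le_coatom (LinearMap.range (st q P))).resolve_left hne
    haveI : IsSimpleModule (X.presheaf.stalk P) (E.presheaf.stalk P ⧸ N) := isSimpleModule_iff_isCoatom.2 hN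
    obtain ⟨I, hI, ⟨θ⟩⟩ := isSimpleModule_iff_quot_maximal.1
      (inferInstance : IsSimpleModule (X.presheaf.stalk P) (E.presheaf.stalk P ⧸ N))
    obtain rfl := IsLocalRing.eq_maximalIdeal hI
    let α : E.presheaf.stalk P →ₗ[X.presheaf.stalk P] ResidueField (X.presheaf.stalk P) :=
      θ.toLinearMap.comp N.mkQ
    have hα : Function.Surjective α := θ.surjective.comp N.mkQ_surjective
    haveI := Groth.L21.RR.isQCoh_skyPoint (P := P)
    haveI := Groth.L21.RR.epi_toPoint α hP hα
    obtain ⟨hcK, heK⟩ := Groth.L21.RR.euler_kernel_toPoint α k hd.le hP hcE hα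
    rw [hres] at heK
    have hS := shortExact_kernel (toPoint P α)
    have hη : ¬ IsClosed ({genericPoint X} : Set X) := Groth.L21.Bundle.not_isClosed_generic (X := X) hd
    have hsky : rk (sky P (resMod P)) = 0 := by
      haveI := Groth.L21.RR.suppClosed_sky hP (genericPoint X) hη
      unfold rk
      exact Module.finrank_zero_of_subsingleton
    have hK := locFree_of_mono hreg hd.le (kernel.ι (toPoint P α)) hcK hE
    have hrK : rk (kernel (toPoint P α)) = r := by
      have h1 := rk_add hS hcE
      have h2 := rk_eq hE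
      simp only at h1
      omega
    rw [hrK] at hK
    have hdK : dg k (kernel (toPoint P α)) = dg k E - 1 := by
      rw [← dg_eq k hK, ← dg_eq k hE, Curv2.deg, Curv2.deg, heK]
      push_cast
      ring
    haveI := subsingleton_h1_of_sub_bound k hd h0 hK fun G i hi hG hr => by
      haveI := hi
      have := hb G (i ≫ kernel.ι (toPoint P α)) inferInstance hG hr
      omega
    -- a section with nonzero value
    obtain ⟨v, hv⟩ := hα 1
    obtain ⟨g, hg, -⟩ := Groth.L21.RR.exists_section_germ (Groth.L21.RR.suppClosed_sky hP) P (st (toPoint P α) P v)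
    obtain ⟨t, ht⟩ := (exact_hmap_delta hS 0 ((e0 _).symm g)).1 (Subsingleton.elim _ _)
    have hmem : E.presheaf.germ ⊤ P trivial (e0 E t) ∈ N := hle (hsec P (e0 E t))
    have h1 : α (E.presheaf.germ ⊤ P trivial (e0 E t)) = 0 := by
      show θ (N.mkQ _) = 0
      rw [Submodule.mkQ_apply, (Submodule.Quotient.mk_eq_zero N).2 hmem, map_zero]
    have h2 : st (toPoint P α) P (E.presheaf.germ ⊤ P trivial (e0 E t)) = st (toPoint P α) P v := by
      refine (Groth.L21.RR.st_germ (toPoint P α) (U := ⊤) trivial (e0 E t)).trans (Eq.trans ?_ hg)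
      have h4 : (toPoint P α).app ⊤ (e0 E t) = g := by
        rw [← Groth.L21.RR.e0_hmap]
        exact (congrArg (e0 (sky P (resMod P))) ht).trans ((e0 _).apply_symm_apply g)
      rw [h4]
    have h3 := congrArg (fun z => (Groth.L00.Sky.adj P).counit.app (resMod P) z) h2
    exact one_ne_zero ((hv.symm.trans ((Groth.L21.RR.counit_toPoint α v).symm.trans (h3.symm.trans
      (Groth.L21.RR.counit_toPoint α _)))).trans h1)
  refine ⟨_, q, ?_⟩
  have hz0 : IsZero ((Groth.L00.Stk.F X P).obj (cokernel q)) := by
    haveI : Epi ((Groth.L00.Stk.F X P).map q) := (ModuleCat.epi_iff_surjective _).2 hPsurj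
    refine IsZero.of_epi_eq_zero ((Groth.L00.Stk.F X P).map (cokernel.π q)) ?_
    rw [← cancel_epi ((Groth.L00.Stk.F X P).map q), ← Functor.map_comp, cokernel.condition,
      Functor.map_zero, comp_zero]
  have hfree : Coh.IsCoh (FlatMod.freeMod X (Module.finrank k (Coh.HH X E 0))) :=
    Groth.L16.NegPow.isCoh_of_isFinLocFree (Groth.L29.DC.isFinLocFree_freeMod X _)
  obtain ⟨W, hPW, hW⟩ := Groth.L16.NegPow.exists_nhd_stalk_zero (coh_cokernel hfree hcE q) P hz0
  haveI := ModuleCat.subsingleton_of_isZero
    (hW (genericPoint X) (((genericPoint_spec X).specializes trivial).mem_open W.2 hPW))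
  unfold rk
  exact Module.finrank_zero_of_subsingleton (R := X.presheaf.stalk (genericPoint X)) (M := (Groth.L00.Stk.F X (genericPoint X)).obj (cokernel q))

end Groth.L21.Bundle
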