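import Groth.Agent.L21.Bundle.DualityApps
import Groth.Agent.L21.Bundle.Twist
import Groth.Agent.L17.Duality
import Groth.Agent.L20.ResDescent
import Groth.Agent.L29.DCoh.TensorPerfect

/-!
Splitting of short exact sequences of bundles on curves when `H¹(Hom(B, A)) = 0`.
-/

set_option autoImplicit false
set_option backward.isDefEq.respectTransparency false
set_option linter.style.haveILetI false
universe u

open CategoryTheory CategoryTheory.Limits AlgebraicGeometry TopologicalSpace

noncomputable section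

namespace Groth.L21.Bundle

open Groth.L00.Tensor Groth.L17.ChangeRings
open Groth.L21.RR (h e0 e0_hmap)
open Groth.L16.CohLinear (hmap exact_hmap_delta)
open Groth.L18.GenLoc (secOf homOfSection_secOf secOf_homOfSection)

section General

variable {X : Scheme.{u}}

/-- Isomorphic fixed factors. -/
def rightMapIso {N N' : X.Modules} (e : N ≅ N') : tensorRightF N ≅ tensorRightF N' :=
  NatIso.ofComponents (fun M =>
    { hom := tensorMap (𝟙 M) e.hom
      inv := tensorMap (𝟙 M) e.inv
      hom_inv_id := by rw [← tensorMap_comp, Category.comp_id, e.hom_inv_id, tensorMap_id]; rfl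
      inv_hom_id := by rw [← tensorMap_comp, Category.comp_id, e.inv_hom_id, tensorMap_id]; rfl })
    (fun {M M'} g => by
      show tensorMap g (𝟙 N) ≫ tensorMap (𝟙 M') e.hom = tensorMap (𝟙 M) e.hom ≫ tensorMap g (𝟙 N')
      rw [← tensorMap_comp, ← tensorMap_comp, Category.id_comp, Category.comp_id, Category.id_comp, Category.comp_id])

/-- Split epimorphisms transfer along natural isomorphisms. -/
theorem isSplitEpi_of_natIso {F G : X.Modules ⥤ X.Modules} (η : F ≅ G) {M N : X.Modules} (g : M ⟶ N)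
    [IsSplitEpi (F.map g)] : IsSplitEpi (G.map g) :=
  IsSplitEpi.mk' ⟨η.inv.app N ≫ section_ (F.map g) ≫ η.hom.app M, by
    rw [Category.assoc, Category.assoc, ← η.hom.naturality g, IsSplitEpi.id_assoc, Iso.inv_hom_id_app]⟩

/-- A section of the last term lifts if `H¹` of the first vanishes. -/
theorem exists_lift_section {S : ShortComplex X.Modules} (hS : S.ShortExact)
    (h1 : Subsingleton (Coh.HH X S.X₁ 1)) (σ : Coh.structureModule X ⟶ S.X₃) :
    ∃ τ : Coh.structureModule X ⟶ S.X₂, τ ≫ S.g = σ := by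
  obtain ⟨y, hy⟩ := (exact_hmap_delta hS 0 ((e0 _).symm (secOf σ))).1 (h1.elim _ _)
  refine ⟨Groth.L16.homOfSection S.X₂ (e0 S.X₂ y), ?_⟩
  refine (homOfSection_secOf _).symm.trans ((congrArg (Groth.L16.homOfSection S.X₃) ?_).trans
    (homOfSection_secOf σ))
  show S.g.app ⊤ (secOf (Groth.L16.homOfSection S.X₂ (e0 S.X₂ y))) = secOf σ
  rw [secOf_homOfSection, ← e0_hmap]
  exact (congrArg (e0 S.X₃) hy).trans ((e0 _).apply_symm_apply _)

/-- A sequence with invertible quotient splits if `H¹` of the twisted kernel vanishes. -/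
theorem isSplitEpi_of_twist {S : ShortComplex X.Modules} (hS : S.ShortExact) {L' : X.Modules}
    (hL : PicF.IsInvertible L') (e : CohB1.tensorMod L' S.X₃ ≅ Coh.structureModule X)
    [Subsingleton (Coh.HH X (CohB1.tensorMod S.X₁ L') 1)] : IsSplitEpi S.g := by
  have hS' := Groth.L03.Euler.shortExact_tensor hL hS
  let σ : Coh.structureModule X ≅ CohB1.tensorMod S.X₃ L' := e.symm ≪≫ tensorComm L' S.X₃
  obtain ⟨τ, hτ⟩ := exists_lift_section hS' ‹_› σ.hom
  haveI : IsSplitEpi ((tensorRightF L').map S.g) := IsSplitEpi.mk' ⟨σ.inv ≫ τ, by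
    rw [Category.assoc]
    exact (congrArg (σ.inv ≫ ·) hτ).trans σ.inv_hom_id⟩
  haveI : IsSplitEpi ((tensorRightF L' ⋙ tensorLeftF S.X₃).map S.g) :=
    inferInstanceAs (IsSplitEpi ((tensorLeftF S.X₃).map ((tensorRightF L').map S.g)))
  let η : tensorRightF L' ⋙ tensorLeftF S.X₃ ≅ 𝟭 X.Modules :=
    tripleIso S.X₃ L' ≪≫ rightMapIso σ.symm ≪≫
      NatIso.ofComponents (fun M => tensorUnitRight M) (fun g => Groth.L20.ResDescent.tensorUnitRight_natural g)
  exact isSplitEpi_of_natIso η S.g

/-- A sequence with locally free quotient `B` splits if `H¹(Hom(B, A)) = 0`. -/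
theorem isSplitEpi_of_h1_homMod {S : ShortComplex X.Modules} (hS : S.ShortExact)
    [ModSite.HasSheafHom (O := X.sheaf) S.X₃] (hB : FlatMod.IsFinLocFree S.X₃)
    [Subsingleton (Coh.HH X ((homMod S.X₃).obj S.X₁) 1)] : IsSplitEpi S.g := by
  haveI : (homMod S.X₃).IsRightAdjoint := (ModSite.sheafHomAdj (O := X.sheaf) S.X₃).isRightAdjoint
  haveI := Groth.L17.Duality.preservesFiniteColimits_homMod S.X₃ hB
  haveI : PreservesFiniteLimits (homMod S.X₃) := inferInstance
  have hS' := hS.map_of_exact (homMod S.X₃)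
  let a : tensorRightF S.X₃ ⊣ homMod S.X₃ :=
    (ModSite.sheafHomAdj (O := X.sheaf) S.X₃).ofNatIsoLeft (tensorRightBiIso S.X₃).symm
  let u : CohB1.tensorMod (Coh.structureModule X) S.X₃ ≅ S.X₃ := tensorUnitLeft S.X₃
  obtain ⟨τ, hτ⟩ := exists_lift_section hS' ‹_› (a.homEquiv (Coh.structureModule X) S.X₃ u.hom)
  refine IsSplitEpi.mk' ⟨u.inv ≫ (a.homEquiv (Coh.structureModule X) S.X₂).symm τ, ?_⟩
  rw [Category.assoc, ← a.homEquiv_naturality_right_symm]
  refine (congrArg (fun z => u.inv ≫ (a.homEquiv (Coh.structureModule X) S.X₃).symm z) hτ).trans ?_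
  rw [Equiv.symm_apply_apply]
  exact u.inv_hom_id

end General

variable {X : Scheme.{u}} [IsIntegral X] [IsLocallyNoetherian X] (k : Type u) [Field k]
  [X.Over (Spec (CommRingCat.of k))] [IsProper (X ↘ Spec (CommRingCat.of k))]
  [Smooth (X ↘ Spec (CommRingCat.of k))]
  (hd : topologicalKrullDim X = 1) (h0 : h k 0 (Coh.structureModule X) = 1)

include hd h0 in
/-- `H¹(Hom(B, A)) = 0` if `A` has no maps to `B ⊗ Ω`. -/
theorem subsingleton_h1_homMod {a b : ℕ} {A B : X.Modules} [ModSite.HasSheafHom (O := X.sheaf) B]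
    (hA : FlatMod.IsFinLocFreeOfRank a A) (hB : FlatMod.IsFinLocFreeOfRank b B)
    (hzero : ∀ φ : A ⟶ CohB1.tensorMod B (omega (X := X) k), φ = 0) :
    Subsingleton (Coh.HH X ((homMod B).obj A) 1) := by
  haveI := Groth.L21.RR.isNoetherian_of_proper (X := X) k
  have hBf := Groth.L22.CurveDeg.isFinLocFree_of_rank hB
  let e := (Groth.L17.Duality.tensorDualIso B hBf).app A
  have hT := Groth.L29.DC.isFinLocFree_tensor (Groth.L22.CurveDeg.isFinLocFree_of_rank hA)
    (Groth.L20.ResDescent.isFinLocFree_dual B hBf)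
  obtain ⟨n, hn⟩ := Groth.L21.Disc.exists_rank hT
  suffices hs : Subsingleton (Coh.HH X (CohB1.tensorMod A (Groth.L17.Duality.dual B)) 1) by
    refine ⟨fun x y => ?_⟩
    have hx : ∀ z, hmap e.hom 1 (hmap e.inv 1 z) = z := fun z => by
      rw [← Groth.L16.CohLinear.hmap_comp, e.inv_hom_id, Groth.L16.CohLinear.hmap_id]
    rw [← hx x, ← hx y]
    exact congrArg _ (hs.elim _ _)
  by_contra hns
  haveI := not_subsingleton_iff_nontrivial.1 hns
  obtain ⟨ψ, hψ⟩ := exists_hom_omega_ne_zero k hd h0 hn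
  refine hψ ?_
  let q := (Groth.L17.Duality.dualAdj B hBf).homEquiv A (omega (X := X) k)
  have h1 := hzero (q ψ ≫ (tensorComm _ _).hom)
  have h2 : q ψ = 0 := by rw [← cancel_mono (tensorComm (omega (X := X) k) B).hom, zero_comp]; exact h1
  refine (q.symm_apply_apply ψ).symm.trans ?_
  rw [h2]
  haveI : (tensorRightF (Groth.L17.Duality.dual B)).IsLeftAdjoint :=
    (Groth.L17.Duality.dualAdj B hBf).isLeftAdjoint
  rw [Adjunction.homEquiv_counit, Functor.map_zero, zero_comp]

end Groth.L21.Bundle
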