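import Groth.Agent.L21.Bundle.Lines
import Groth.Agent.L21.Bundle.DualityApps
import Groth.Agent.L21.Disc.SimplyConn
import Groth.Agent.L21.Sep.CurveSeries
import Groth.Agent.S14138
import Groth.Agent.L26.Weil.Axes

/-!
Rank two bundles on curves of genus one, via line subbundles through vanishing sections.
-/

set_option autoImplicit false
set_option backward.isDefEq.respectTransparency false
set_option linter.style.haveILetI false
universe u

open CategoryTheory CategoryTheory.Limits AlgebraicGeometry TopologicalSpace IsLocalRing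

noncomputable section

namespace Groth.L21.Bundle

open Groth.L21.RR (h hk e0 e0_hmap e0_smul st st_germ st_comp one oneSec)
open Groth.L03.ShStab.Scalar (sc)
open Groth.L16.CohLinear (hmap hmap_comp)
open Groth.L17.ChangeRings

variable {X : Scheme.{u}} [IsIntegral X] [IsLocallyNoetherian X] (k : Type u) [Field k]
  [X.Over (Spec (CommRingCat.of k))] [IsProper (X ↘ Spec (CommRingCat.of k))]

attribute [local irreducible] dg rk

omit [IsIntegral X] [X.Over (Spec (CommRingCat.of k))] [IsProper (X ↘ Spec (CommRingCat.of k))]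
  [IsLocallyNoetherian X] in
/-- Two vectors in a free module of rank two either span or have a combination vanishing in the fibre. -/
theorem exists_comb_mem_smul {R : Type u} [CommRing R] [IsLocalRing R] {M : Type u} [AddCommGroup M] [Module R M]
    (θ : (Fin 2 → R) ≃ₗ[R] M) (v : Fin 2 → M) (hv : ¬ Function.Surjective (Fintype.linearCombination R v)) :
    ∃ c : Fin 2 → R, (∃ i, IsUnit (c i)) ∧ ∑ i, c i • v i ∈ maximalIdeal R • (⊤ : Submodule R M) := by
  let w : Fin 2 → (Fin 2 → R) := fun i => θ.symm (v i)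
  let A : Matrix (Fin 2) (Fin 2) R := Matrix.of fun j i => w i j
  have hlc : ∀ c, Fintype.linearCombination R v c = θ (A.mulVec c) := fun c => by
    apply θ.symm.injective
    rw [LinearEquiv.symm_apply_apply, Fintype.linearCombination_apply, map_sum]
    funext j
    simp [A, w, Matrix.mulVec, dotProduct, mul_comm]
  have hdet : ¬ IsUnit A.det := fun hu => hv fun m => by
    obtain ⟨c, hc⟩ := (Matrix.mulVec_surjective_iff_isUnit.2 ((Matrix.isUnit_iff_isUnit_det A).2 hu)) (θ.symm m)
    exact ⟨c, by rw [hlc, hc, LinearEquiv.apply_symm_apply]⟩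
  let Ab := A.map (residue R)
  have hb : Ab.det = 0 := by
    rw [show Ab = (residue R).mapMatrix A from rfl, ← RingHom.map_det]
    exact residue_eq_zero_iff _ |>.2 (mem_nonunits_iff.2 hdet)
  obtain ⟨cb, hcb, hAb⟩ := Matrix.exists_mulVec_eq_zero_iff.2 hb
  choose c hc using fun i => IsLocalRing.residue_surjective (cb i)
  obtain ⟨i, hi⟩ := Function.ne_iff.1 hcb
  refine ⟨c, ⟨i, notMem_maximalIdeal.1 fun hm => hi ((hc i).symm.trans ((residue_eq_zero_iff _).2 hm))⟩, ?_⟩
  rw [← Fintype.linearCombination_apply, hlc, ← Finset.univ_sum_single (A.mulVec c), map_sum]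
  refine Submodule.sum_mem _ fun j _ => ?_
  have hmem : A.mulVec c j ∈ maximalIdeal R := by
    rw [← residue_eq_zero_iff]
    have h1 := RingHom.map_mulVec (residue R) A c j
    rw [h1, show (residue R) ∘ c = cb from funext hc]
    exact congrFun hAb j
  rw [show Pi.single j (A.mulVec c j) = A.mulVec c j • (Pi.single j (1 : R) : Fin 2 → R) by simp [← Pi.single_smul],
    map_smul]
  exact Submodule.smul_mem_smul hmem Submodule.mem_top

variable (hreg : ∀ x : X, IsRegularLocalRing (X.presheaf.stalk x)) (hd : topologicalKrullDim X = 1)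
  (h0 : h k 0 (Coh.structureModule X) = 1)

include hreg hd in
/-- A line bundle of nonpositive degree has at most one independent section. -/
theorem h0_le_one_of_dg_nonpos [IsAlgClosed k] {L : X.Modules} (hL : FlatMod.IsFinLocFreeOfRank 1 L)
    (hdeg : dg k L ≤ 0) : h k 0 L ≤ 1 := by
  obtain ⟨z, -, hz, hzne, hp⟩ := Groth.L22.CurveDeg.exists_regular_point_mem k hd ⊤ trivial
  obtain ⟨N, s, -, -, hN, hd1, hs, -⟩ := Groth.L21.RR.exists_deg_one_section k hd.le hz hzne
    (Groth.L21.RR.isRat_of_isClosed k hz) hp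
  have hb : Bd k L (dg k L) 1 := bd_of_ss k hreg hd.le hL fun G r' i hi hr' hG => by
    haveI := hi
    have hle := rk_le_of_mono i (isCoh_of_rank hG) (isCoh_of_rank hL)
    rw [rk_eq hG, rk_eq hL] at hle
    obtain rfl : r' = 1 := by omega
    rw [dg_eq k hG, dg_eq k hL]
    exact mul_le_mul_of_nonneg_right
      (dg_le_of_mono hd.le k i (isCoh_of_rank hG) (isCoh_of_rank hL) ((rk_eq hG).trans (rk_eq hL).symm)).1 zero_le_one
  exact h0_le_of_bd k hreg hd hN hd1 hs 1 hL hb (by push_cast; omega)

omit [IsIntegral X] [IsLocallyNoetherian X] [IsProper (X ↘ Spec (CommRingCat.of k))] in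
theorem app_sc_comb (E : X.Modules) (φ : Coh.structureModule X ⟶ E) (c : k) :
    (φ ≫ sc E (Coh.toGlobal (X ↘ Spec (CommRingCat.of k)) c)).app ⊤ (oneSec X) =
      (show Γ(X, ⊤) from Coh.toGlobal (X ↘ Spec (CommRingCat.of k)) c) • φ.app ⊤ (oneSec X) := by
  show (sc E _).app ⊤ (φ.app ⊤ (oneSec X)) = _
  rw [sc_app, Groth.L18.Frame.ro_self]

include hreg hd h0 in
/-- Two sections of a rank two bundle of positive degree produce a line subsheaf of positive degree. -/
theorem exists_line_dg_pos [IsAlgClosed k] {E : X.Modules} (hE : FlatMod.IsFinLocFreeOfRank 2 E)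
    (hdeg : 0 < dg k E) (h2 : 2 ≤ h k 0 E) :
    ∃ (L : X.Modules) (i : L ⟶ E), Mono i ∧ FlatMod.IsFinLocFreeOfRank 1 L ∧ 1 ≤ dg k L := by
  haveI := Groth.L21.RR.isNoetherian_of_proper (X := X) k
  have hcE := isCoh_of_rank hE
  haveI := Groth.L21.RR.finite_HH' k hcE 0
  obtain ⟨x, hxlin⟩ := exists_linearIndependent_of_le_finrank (R := k) (M := Coh.HH X E 0) h2
  let φ : Fin 2 → (Coh.structureModule X ⟶ E) := fun i => Groth.L16.homOfSection E (e0 E (x i))
  have hφ : ∀ i, (φ i).app ⊤ (oneSec X) = e0 E (x i) := fun i => Groth.L21.RR.app_homOfSection_one _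
  let q : Coh.structureModule X ⊞ Coh.structureModule X ⟶ E := biprod.desc (φ 0) (φ 1)
  have hO := locFree_one (Groth.L18.Ample.isInvertible_structureModule X)
  have hcO := isCoh_of_rank hO
  have hcP : Coh.IsCoh (Coh.structureModule X ⊞ Coh.structureModule X) := Groth.L16.Devissage.isCoh_biprod hcO hcO
  have hT : (ShortComplex.mk (biprod.inl : Coh.structureModule X ⟶ Coh.structureModule X ⊞ Coh.structureModule X)
      biprod.snd biprod.inl_snd).ShortExact :=
    ShortComplex.Splitting.shortExact { r := biprod.fst, s := biprod.inr }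
  have hP := locFree_extension hreg hd.le hT hO hO
  have hdP : dg k (Coh.structureModule X ⊞ Coh.structureModule X) = 0 :=
    (dg_add hd.le k hT hcO hcP hcO).trans (by simp [dg_structure])
  obtain ⟨hr1, hd1⟩ := add_image k hd.le q hcP hcE
  rw [rk_eq hP] at hr1
  have hI := locFree_of_mono hreg hd.le (Abelian.image.ι q) (coh_image hcP hcE q) hE
  have hrI := rk_le_of_mono (Abelian.image.ι q) (coh_image hcP hcE q) hcE
  rw [rk_eq hE] at hrI
  rcases Nat.lt_or_ge (rk (Abelian.image q)) 2 with hlt | hge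
  · -- the sections lie in a line subsheaf
    let g : Fin 2 → (Coh.structureModule X ⟶ Abelian.image q) :=
      ![biprod.inl ≫ Abelian.factorThruImage q, biprod.inr ≫ Abelian.factorThruImage q]
    have hg : ∀ i, g i ≫ Abelian.image.ι q = φ i := fun i => by
      fin_cases i <;> simp [g, q]
    let y : Fin 2 → Coh.HH X (Abelian.image q) 0 := fun i => (e0 _).symm ((g i).app ⊤ (oneSec X))
    have hy : ∀ i, hk k (Abelian.image.ι q) 0 (y i) = x i := fun i => by
      apply (e0 E).injective
      refine (e0_hmap _ _).trans ?_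
      rw [AddEquiv.apply_symm_apply, ← hφ i, ← hg i]
      rfl
    haveI := Groth.L21.RR.finite_HH' k (coh_image hcP hcE q) 0
    have hylin : LinearIndependent k y :=
      LinearIndependent.of_comp (hk k (Abelian.image.ι q) 0) (by rw [show _ ∘ y = x from funext hy]; exact hxlin)
    have h3 : 2 ≤ h k 0 (Abelian.image q) := by simpa using hylin.fintype_card_le_finrank
    have hne : rk (Abelian.image q) ≠ 0 := fun h => by
      have hz := isZero_of_rank_zero (h ▸ hI)
      have h4 := hxlin.ne_zero 0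
      rw [← hy 0] at h4
      refine h4 ?_
      rw [show Abelian.image.ι q = 0 from hz.eq_of_src _ _]
      exact Groth.L21.RR.hmap_zero _ _ _ _
    rw [show rk (Abelian.image q) = 1 by omega] at hI
    refine ⟨_, Abelian.image.ι q, inferInstance, hI, ?_⟩
    by_contra hle
    have := h0_le_one_of_dg_nonpos k hreg hd hI (by omega)
    omega
  -- the evaluation map is injective with torsion cokernel
  have hK := locFree_of_mono hreg hd.le (kernel.ι q) (coh_kernel hcP hcE q) hP
  have hKz := isZero_of_rank_zero ((show rk (kernel q) = 0 by omega) ▸ hK)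
  haveI : Mono q := Preadditive.mono_of_isZero_kernel q hKz
  obtain ⟨hr2, hd2⟩ := add_cokernel k hd.le q hcP hcE
  rw [rk_eq hP, rk_eq hE] at hr2
  rw [hdP] at hd2
  have hsupp := suppClosed_of_rk_eq_zero hd.le (coh_cokernel hcP hcE q) (show rk (cokernel q) = 0 by omega)
  obtain ⟨P, hP0⟩ : ∃ P : X, ¬ Subsingleton ((cokernel q).presheaf.stalk P) := by
    by_contra hall
    push Not at hall
    have := (zero_facts k hd.le ((Groth.L21.Mod.isZero_iff_stalk_subsingleton _).2 hall)).2
    omega
  have hPc : IsClosed ({P} : Set X) := by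
    by_contra hc
    exact hP0 (hsupp P hc)
  let v : Fin 2 → E.presheaf.stalk P := fun i => E.presheaf.germ ⊤ P trivial (e0 E (x i))
  have hv : ¬ Function.Surjective (Fintype.linearCombination (X.presheaf.stalk P) v) := fun hs => hP0 <| by
    have hst : Function.Surjective (st q P) := fun w => by
      obtain ⟨c, rfl⟩ := hs w
      refine ⟨c 0 • st (biprod.inl (C := X.Modules) (Y := Coh.structureModule X)) P (one X P) +
        c 1 • st (biprod.inr (C := X.Modules) (X := Coh.structureModule X)) P (one X P), ?_⟩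
      rw [map_add, map_smul, map_smul, ← st_comp, ← st_comp, Fintype.linearCombination_apply, Fin.sum_univ_two]
      simp only [q, biprod.inl_desc, biprod.inr_desc, v, ← hφ]
      congr 2 <;> exact (st_germ _ _ _)
    haveI : Epi ((Groth.L00.Stk.F X P).map q) := (ModuleCat.epi_iff_surjective _).2 hst
    exact ModuleCat.subsingleton_of_isZero (IsZero.of_epi_eq_zero ((Groth.L00.Stk.F X P).map (cokernel.π q))
      (by rw [← cancel_epi ((Groth.L00.Stk.F X P).map q), ← Functor.map_comp, cokernel.condition,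
        Functor.map_zero, comp_zero]))
  obtain ⟨θ⟩ := Groth.L22.CurveDeg.nonempty_stalk_equiv hE P
  obtain ⟨c, hcu, hcm⟩ := exists_comb_mem_smul θ v hv
  -- lift the coefficients to the ground field
  have hres : ∀ r : X.presheaf.stalk P, ∃ a : k,
      r - X.presheaf.germ ⊤ P trivial (Coh.toGlobal (X ↘ Spec (CommRingCat.of k)) a) ∈ maximalIdeal _ := fun r => by
    obtain ⟨a, ha⟩ := Groth.L21.RR.isRat_of_isClosed k hPc r
    exact ⟨a, ha⟩
  choose a ha using fun i => hres (c i)
  let z : Coh.HH X E 0 := ∑ i, a i • x i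
  have hz : E.presheaf.germ ⊤ P trivial (e0 E z) ∈
      maximalIdeal (X.presheaf.stalk P) • (⊤ : Submodule (X.presheaf.stalk P) (E.presheaf.stalk P)) := by
    have h5 : E.presheaf.germ ⊤ P trivial (e0 E z) =
        ∑ i, X.presheaf.germ ⊤ P trivial (Coh.toGlobal (X ↘ Spec (CommRingCat.of k)) (a i)) • v i := by
      simp only [z, map_sum, e0_smul, Groth.L20.ModStalk.germ_smul, v]
    rw [h5]
    have h6 : ∑ i, c i • v i - ∑ i, (c i - X.presheaf.germ ⊤ P trivial
        (Coh.toGlobal (X ↘ Spec (CommRingCat.of k)) (a i))) • v i ∈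
          maximalIdeal (X.presheaf.stalk P) • (⊤ : Submodule (X.presheaf.stalk P) (E.presheaf.stalk P)) :=
      Submodule.sub_mem _ hcm (Submodule.sum_mem _ fun i _ => Submodule.smul_mem_smul (ha i) Submodule.mem_top)
    convert h6 using 1
    simp [sub_smul, Finset.sum_sub_distrib]
  have hz0 : z ≠ 0 := fun h => by
    have h7 := Fintype.linearIndependent_iff.1 hxlin a h
    obtain ⟨i, hi⟩ := hcu
    have h8 := ha i
    rw [h7 i, show Coh.toGlobal (X ↘ Spec (CommRingCat.of k)) (0 : k) = 0 from map_zero _] at h8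
    erw [map_zero, sub_zero] at h8
    exact (mem_nonunits_iff.1 h8) hi
  -- saturate the section
  let s := Groth.L16.homOfSection E (e0 E z)
  have hs1 : s.app ⊤ (oneSec X) = e0 E z := Groth.L21.RR.app_homOfSection_one _
  have hs : s ≠ 0 := fun h => hz0 ((e0 E).injective (by rw [map_zero, ← hs1, h]; rfl))
  haveI : Mono s := by
    obtain ⟨-, hi⟩ := add_image k hd.le s hcO hcE
    have hK' := locFree_of_mono hreg hd.le (kernel.ι s) (coh_kernel hcO hcE s) hO
    have hle := rk_le_of_mono (kernel.ι s) (coh_kernel hcO hcE s) hcO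
    rw [rk_eq hO] at hle
    rcases Nat.eq_zero_or_pos (rk (kernel s)) with h9 | h9
    · exact Preadditive.mono_of_isZero_kernel s (isZero_of_rank_zero (h9 ▸ hK'))
    · exact absurd (eq_zero_of_comp_eq_zero hreg hd.le hE (coh_kernel hcO hcE s) hcO (kernel.ι s)
        (by rw [rk_eq hO]; omega) s (kernel.condition s)) hs
  obtain ⟨hr3, hd3⟩ := add_cokernel k hd.le s hcO hcE
  rw [rk_eq hO, rk_eq hE] at hr3
  obtain ⟨Q, p, hp, hcK, hK0, hQ⟩ := exists_locFree_quotient hreg hd.le (coh_cokernel hcO hcE s)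
  rw [show rk (cokernel s) = 1 by omega] at hQ
  haveI := hp
  have hdQ := (dg_quotient_le hd.le k p (coh_cokernel hcO hcE s) (isCoh_of_rank hQ) hcK hK0).1
  haveI : Epi (cokernel.π s ≫ p) := epi_comp _ _
  have hcL := coh_kernel hcE (isCoh_of_rank hQ) (cokernel.π s ≫ p)
  obtain ⟨hr4, hd4⟩ := add_kernel k hd.le (cokernel.π s ≫ p) hcE (isCoh_of_rank hQ)
  rw [rk_eq hE, rk_eq hQ] at hr4
  have hL := locFree_of_mono hreg hd.le (kernel.ι (cokernel.π s ≫ p)) hcL hE
  rw [show rk (kernel (cokernel.π s ≫ p)) = 1 by omega] at hL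
  refine ⟨_, kernel.ι (cokernel.π s ≫ p), inferInstance, hL, ?_⟩
  rw [dg_structure] at hd3
  by_contra hle
  let l := kernel.lift (cokernel.π s ≫ p) s (by rw [← Category.assoc, cokernel.condition, zero_comp])
  haveI : Mono l := mono_of_mono_fac (kernel.lift_ι _ _ _)
  haveI : IsIso l := (dg_le_of_mono hd.le k l hcO hcL (by rw [rk_eq hO, rk_eq hL])).2 (by rw [dg_structure]; omega)
  -- the stalk of the quotient is free, so the section cannot vanish in the fibre
  have hm := (shortExact_kernel (cokernel.π s ≫ p)).map_of_exact (Groth.L00.Stk.F X P)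
  obtain ⟨θQ⟩ := Groth.L22.CurveDeg.nonempty_stalk_equiv hQ P
  haveI := Module.Free.of_equiv θQ
  obtain ⟨σ, hσ⟩ := Module.projective_lifting_property (st (cokernel.π s ≫ p) P) LinearMap.id
    ((ModuleCat.epi_iff_surjective _).1 hm.epi_g)
  have hinj : Function.Injective (st s P) := by
    have : Mono ((Groth.L00.Stk.F X P).map s) := inferInstance
    exact (ModuleCat.mono_iff_injective _).1 this
  let ι' := st (kernel.ι (cokernel.π s ≫ p)) P
  have hι : Function.Injective ι' := (ModuleCat.mono_iff_injective _).1 hm.mono_f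
  have hex : LinearMap.range ι' = LinearMap.ker (st (cokernel.π s ≫ p) P) := hm.exact.moduleCat_range_eq_ker
  let π' : E.presheaf.stalk P →ₗ[X.presheaf.stalk P] LinearMap.range ι' :=
    LinearMap.codRestrict _ (LinearMap.id - σ.comp (st (cokernel.π s ≫ p) P)) fun w => hex ▸ by
      rw [LinearMap.mem_ker, LinearMap.sub_apply, map_sub, LinearMap.id_apply, LinearMap.comp_apply, sub_eq_zero]
      exact (LinearMap.congr_fun hσ _).symm
  let ρ := ((LinearEquiv.ofInjective ι' hι).symm.toLinearMap).comp π'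
  have hρ : ρ (st s P (one X P)) = st l P (one X P) := by
    apply (LinearEquiv.ofInjective ι' hι).injective
    simp only [ρ, LinearMap.comp_apply, LinearEquiv.coe_coe, LinearEquiv.apply_symm_apply]
    refine Subtype.ext ?_
    show st s P _ - σ (st (cokernel.π s ≫ p) P (st s P _)) = ι' (st l P _)
    rw [← st_comp, ← Category.assoc, cokernel.condition, zero_comp, ← st_comp, kernel.lift_ι]
    rw [show st (0 : Coh.structureModule X ⟶ Q) P (one X P) = 0 by simp [st]; rfl, map_zero, sub_zero]
  have hsP : st s P (one X P) = E.presheaf.germ ⊤ P trivial (e0 E z) := by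
    rw [← hs1]
    exact st_germ s _ _
  have hmem : st l P (one X P) ∈ maximalIdeal (X.presheaf.stalk P) •
      (⊤ : Submodule (X.presheaf.stalk P) ((kernel (cokernel.π s ≫ p)).presheaf.stalk P)) := by
    rw [← hρ, hsP]
    have := Submodule.mem_map_of_mem (f := ρ) hz
    rw [Submodule.map_smul''] at this
    exact Submodule.smul_mono le_rfl le_top this
  have hmem' := Submodule.mem_map_of_mem (f := st (inv l) P) hmem
  rw [Submodule.map_smul'', ← st_comp, IsIso.hom_inv_id] at hmem'
  have hone : one X P ∈ maximalIdeal (X.presheaf.stalk P) •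
      (⊤ : Submodule (X.presheaf.stalk P) ((Coh.structureModule X).presheaf.stalk P)) := by
    refine Submodule.smul_mono le_rfl (le_top : Submodule.map (st (inv l) P) ⊤ ≤ ⊤) ?_
    simpa [st] using hmem'
  have key : ∀ w ∈ maximalIdeal (X.presheaf.stalk P) •
      (⊤ : Submodule (X.presheaf.stalk P) ((Coh.structureModule X).presheaf.stalk P)),
      ∃ r ∈ maximalIdeal (X.presheaf.stalk P), r • one X P = w := fun w hw => by
    refine Submodule.smul_induction_on hw (fun r hr w _ => ?_) (fun w w' ⟨r, hr, e⟩ ⟨r', hr', e'⟩ => ?_)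
    · obtain ⟨t, rfl⟩ := (Groth.L21.RR.bijective_smul_one P).2 w
      exact ⟨r * t, Ideal.mul_mem_right _ _ hr, mul_smul _ _ _⟩
    · exact ⟨r + r', Ideal.add_mem _ hr hr', by rw [add_smul, e, e']⟩
  obtain ⟨r, hr⟩ := key _ hone
  have hr1 : r = 1 := (Groth.L21.RR.bijective_smul_one P).1 (show r • one X P = (1 : X.presheaf.stalk P) • one X P by
    rw [hr.2, one_smul])
  exact (maximalIdeal.isMaximal _).ne_top ((Ideal.eq_top_iff_one _).2 (hr1 ▸ hr.1))

include hreg hd h0 in
/-- A semistable rank two bundle of degree `2d` in genus one contains a line bundle of degree `d` with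
line bundle quotient. -/
theorem exists_line_half [IsAlgClosed k] (hg : Curv2.genus k X = 1) {E : X.Modules}
    (hE : FlatMod.IsFinLocFreeOfRank 2 E) (d : ℤ) (hdE : dg k E = 2 * d) (hb : Bd k E (dg k E) 2) :
    ∃ (L : X.Modules) (i : L ⟶ E), Mono i ∧ FlatMod.IsFinLocFreeOfRank 1 L ∧
      FlatMod.IsFinLocFreeOfRank 1 (cokernel i) ∧ dg k L = d ∧ dg k (cokernel i) = d := by
  haveI := Groth.L21.RR.isNoetherian_of_proper (X := X) k
  haveI : Smooth (X ↘ Spec (CommRingCat.of k)) :=
    Groth.L26.Weil.smooth_of_regular_closed _ fun x _ => hreg x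
  obtain ⟨N, hN, hdN⟩ := exists_invertible_deg (X := X) k hd (1 - d)
  have hcE := isCoh_of_rank hE
  have hE' := locFree_twist hd hreg hN hE
  have hdE' : dg k (CohB1.tensorMod E N) = 2 := by
    rw [dg_twist k hd hN hcE, rk_eq hE, hdE, hdN]
    push_cast
    ring
  have h2 : 2 ≤ h k 0 (CohB1.tensorMod E N) := by
    have hχ := euler_bundle k hd h0 hE'
    rw [Groth.L21.RR.euler_eq k hd.le, hdE', hg] at hχ
    push_cast at hχ
    omega
  obtain ⟨L', i', hi', hL', hd'⟩ := exists_line_dg_pos k hreg hd h0 hE' (by omega) h2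
  haveI := hi'
  obtain ⟨L, i, hi, hcL, hrL, hdL⟩ := exists_untwist k hd hN i' (isCoh_of_rank hL')
  haveI := hi
  rw [rk_eq hL'] at hrL
  have hle := hb L i hi hcL
  rw [hrL] at hle hdL
  rw [hdN] at hdL
  push_cast at hle hdL
  have hdd : dg k L = d := by omega
  have hL := locFree_of_mono hreg hd.le i hcL hE
  rw [hrL] at hL
  have hbL : Bd k E (dg k L) (rk L) := fun G j hj hG => by
    have := hb G j hj hG
    rw [hrL, hdd]
    rw [hdE] at this
    push_cast at this ⊢
    linarith
  have hQ := locFree_cokernel_of_max k hreg hd.le hcE i hcL (by omega) hbL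
  obtain ⟨hr, hd2⟩ := add_cokernel k hd.le i hcL hcE
  rw [rk_eq hE, hrL] at hr
  rw [show rk (cokernel i) = 1 by omega] at hQ
  exact ⟨L, i, hi, hL, hQ, hdd, by omega⟩

include hd h0 in
/-- Indecomposable bundles in genus one are semistable. -/
theorem ss_of_indecomposable [Smooth (X ↘ Spec (CommRingCat.of k))] (hg : Curv2.genus k X = 1) {r : ℕ} (hr : 0 < r)
    {E : X.Modules} (hE : FlatMod.IsFinLocFreeOfRank r E)
    (hind : ¬ IsZero E ∧ ∀ (E₁ E₂ : X.Modules), Nonempty (E ≅ E₁ ⊞ E₂) → IsZero E₁ ∨ IsZero E₂) :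
    ModFun.IsSlopeSemistable k X E r := by
  haveI := Groth.L21.SepSeries.geometricallyIntegral k h0
  haveI : GeometricallyConnected (X ↘ Spec (CommRingCat.of k)) := ⟨fun K _ y Y g q sq => by
    haveI : IsIntegral Y :=
      GeometricallyIntegral.geometrically_isIntegral (f := X ↘ Spec (CommRingCat.of k)) y g q sq
    infer_instance⟩
  exact Groth.Agent.S14138.result k X hd hg r hr E hE hind

include hd in
/-- Simple bundles are indecomposable. -/
theorem indecomposable_of_simple {r : ℕ} (hr : 0 < r) {E : X.Modules} (hE : FlatMod.IsFinLocFreeOfRank r E)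
    (hsimple : ∀ φ : E ⟶ E, ∃ c : k, (SheafOfModules.toSheaf X.ringCatSheaf).map φ =
      Coh.smulAb E (Coh.toGlobal (X ↘ Spec (CommRingCat.of k)) c)) :
    ¬ IsZero E ∧ ∀ (E₁ E₂ : X.Modules), Nonempty (E ≅ E₁ ⊞ E₂) → IsZero E₁ ∨ IsZero E₂ := by
  refine ⟨not_isZero_of_rank hr hE, fun E₁ E₂ ⟨e⟩ => or_iff_not_imp_right.2 fun hB => ?_⟩
  let jB : E₂ ⟶ E := biprod.inr ≫ e.inv
  haveI : Mono jB := mono_comp _ _
  obtain ⟨c, hc⟩ := hsimple (e.hom ≫ biprod.fst ≫ biprod.inl ≫ e.inv)
  have h1 := eq_zero_of_scalar k jB hB _ c hc (by simp [jB])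
  refine (IsZero.iff_id_eq_zero _).2 ?_
  have := congrArg (fun f => biprod.inl ≫ e.inv ≫ f ≫ e.hom ≫ biprod.fst) h1
  simpa using this

include hd h0 in
/-- A nonsplit self-extension in genus one has a map back. -/
theorem exists_hom_back [Smooth (X ↘ Spec (CommRingCat.of k))] (hg : Curv2.genus k X = 1) {S : ShortComplex X.Modules}
    (hS : S.ShortExact) (hL : FlatMod.IsFinLocFreeOfRank 1 S.X₁) (hM : FlatMod.IsFinLocFreeOfRank 1 S.X₃)
    (hdd : dg k S.X₁ = dg k S.X₃) (hns : ¬ IsSplitEpi S.g) : ∃ g : S.X₃ ⟶ S.X₁, g ≠ 0 := by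
  by_contra hall
  push Not at hall
  haveI := Groth.L21.RR.isNoetherian_of_proper (X := X) k
  haveI := Groth.L17.Duality.hasSheafHom S.X₃
  have hs0 : Subsingleton (Coh.HH X ((homMod S.X₃).obj S.X₁) 0) :=
    ⟨fun x y => (homH0 S.X₃ S.X₁).symm.injective ((hall _).trans (hall _).symm)⟩
  have hχ := euler_homMod k hd h0 hL hM
  rw [Groth.L21.RR.euler_eq k hd.le, Groth.L21.RR.h_eq_zero_of_subsingleton k hs0, hg, hdd] at hχ
  push_cast at hχ
  have hcH : Coh.IsCoh ((homMod S.X₃).obj S.X₁) :=
    Groth.L16.CohSupport.isCoh_of_iso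
      ((Groth.L00.Tensor.tensorComm _ _) ≪≫ (Groth.L17.Duality.tensorDualIso S.X₃
        (Groth.L22.CurveDeg.isFinLocFree_of_rank hM)).app S.X₁)
      (Groth.L22.CurveDeg.isCoh_tensor_locFree (isFinLocFreeOfRank_dual hM) (isCoh_of_rank hL))
  haveI := Groth.L21.RR.finite_HH' k hcH 1
  haveI : Subsingleton (Coh.HH X ((homMod S.X₃).obj S.X₁) 1) :=
    Module.finrank_zero_iff.1 (show h k 1 ((homMod S.X₃).obj S.X₁) = 0 by omega)
  exact hns (isSplitEpi_of_h1_homMod hS (Groth.L22.CurveDeg.isFinLocFree_of_rank hM))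

end Groth.L21.Bundle
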