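import Groth.Agent.L21.Bundle.RankTwoExt
import Groth.Agent.L21.Bundle.Lines
import Groth.Agent.L21.Smooth.Scheme
import Groth.Agent.L21.Bundle.Results
import Groth.Agent.L21.RR.GeomGenusZero
import Groth.Agent.L21.RR.TwoPoints
import Groth.Agent.L12.DefoSh.Ext

/-!
Existence of semistable bundles of every rank and degree on a curve of genus one, by nonsplit extensions of
stable bundles of adjacent slopes.
-/

set_option autoImplicit false
set_option backward.isDefEq.respectTransparency false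
set_option linter.style.haveILetI false
universe u

open CategoryTheory CategoryTheory.Limits AlgebraicGeometry TopologicalSpace

noncomputable section

namespace Groth.L21.Bundle

open Groth.L21.RR (h)
open Groth.L17.ChangeRings

/-- The numerical inequality for subsheaves of an extension of adjacent slopes. -/
theorem adjacent_arith {r₁ r₂ a b d₁ d₂ e f : ℤ} (h1 : r₁ * d₂ - r₂ * d₁ = 1) (hr₁ : 0 < r₁) (hr₂ : 0 < r₂)
    (ha : 0 ≤ a) (ha' : a ≤ r₁) (hb : 0 ≤ b) (hb' : b ≤ r₂) (hab : 0 < a + b) (hab' : a + b < r₁ + r₂)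
    (he₀ : a = 0 → e = 0) (he : 0 < a → a < r₁ → e * r₁ < d₁ * a) (he₁ : a = r₁ → e ≤ d₁)
    (hf₀ : b = 0 → f = 0) (hf : 0 < b → b < r₂ → f * r₂ < d₂ * b) (hf₁ : b = r₂ → f ≤ d₂)
    (hbad : a = 0 → b = r₂ → f < d₂) :
    (e + f) * (r₁ + r₂) < (d₁ + d₂) * (a + b) := by
  have hU : e * r₁ ≤ d₁ * a := by
    rcases eq_or_lt_of_le ha with h | h
    · rw [← h, he₀ h.symm]; simp
    rcases eq_or_lt_of_le ha' with h' | h'
    · rw [h']; exact mul_le_mul_of_nonneg_right (he₁ h') hr₁.le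
    · exact (he h h').le
  have hV : f * r₂ ≤ d₂ * b := by
    rcases eq_or_lt_of_le hb with h | h
    · rw [← h, hf₀ h.symm]; simp
    rcases eq_or_lt_of_le hb' with h' | h'
    · rw [h']; exact mul_le_mul_of_nonneg_right (hf₁ h') hr₂.le
    · exact (hf h h').le
  suffices r₂ * ((e * r₁ - d₁ * a) * (r₁ + r₂) - a) + r₁ * ((f * r₂ - d₂ * b) * (r₁ + r₂) + b) < 0 by
    by_contra hc
    push Not at hc
    have := mul_le_mul_of_nonneg_left hc (mul_pos hr₁ hr₂).le
    have e1 : r₂ * ((e * r₁ - d₁ * a) * (r₁ + r₂) - a) + r₁ * ((f * r₂ - d₂ * b) * (r₁ + r₂) + b) =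
        r₁ * r₂ * ((e + f) * (r₁ + r₂)) - r₁ * r₂ * ((d₁ + d₂) * (a + b)) := by
      linear_combination (r₂ * a - r₁ * b) * h1
    linarith
  have hr₁₂ : 0 ≤ r₁ + r₂ := by omega
  rcases eq_or_lt_of_le hV with hV0 | hV1
  · have hb2 : b = 0 ∨ b = r₂ := by
      by_contra hne
      push Not at hne
      exact absurd hV0 (hf (lt_of_le_of_ne hb (Ne.symm hne.1)) (lt_of_le_of_ne hb' hne.2)).ne
    rw [hV0, sub_self, zero_mul, zero_add]
    rcases hb2 with hb0 | hb2
    · subst hb0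
      have : r₂ * ((e * r₁ - d₁ * a) * (r₁ + r₂) - a) ≤ r₂ * (-1) :=
        mul_le_mul_of_nonneg_left (by nlinarith) hr₂.le
      linarith
    · subst hb2
      have ha0 : 0 < a := lt_of_le_of_ne ha fun h => by
        have := hbad h.symm rfl
        nlinarith
      have h2 := he ha0 (by omega)
      have h3 : (e * r₁ - d₁ * a) * (r₁ + b) ≤ (-1) * (r₁ + b) := mul_le_mul_of_nonneg_right (by omega) hr₁₂
      have h4 : b * ((e * r₁ - d₁ * a) * (r₁ + b) - a) ≤ b * (-1 * (r₁ + b) - a) :=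
        mul_le_mul_of_nonneg_left (by linarith) hr₂.le
      nlinarith
  · have h3 : (f * r₂ - d₂ * b) * (r₁ + r₂) ≤ (-1) * (r₁ + r₂) := mul_le_mul_of_nonneg_right (by omega) hr₁₂
    have h4 : r₁ * ((f * r₂ - d₂ * b) * (r₁ + r₂) + b) ≤ r₁ * (-1 * (r₁ + r₂) + b) :=
      mul_le_mul_of_nonneg_left (by linarith) hr₁.le
    have h5 : r₁ * (-1 * (r₁ + r₂) + b) < 0 := mul_neg_of_pos_of_neg hr₁ (by linarith)
    have h6 : (e * r₁ - d₁ * a) * (r₁ + r₂) ≤ 0 := mul_nonpos_of_nonpos_of_nonneg (by omega) hr₁₂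
    nlinarith

variable {X : Scheme.{u}} [IsIntegral X] [IsLocallyNoetherian X] (k : Type u) [Field k]
  [X.Over (Spec (CommRingCat.of k))] [IsProper (X ↘ Spec (CommRingCat.of k))]

attribute [local irreducible] dg rk

/-- A stable bundle of rank `r` and degree `d`. -/
def IsStableBundle (r : ℕ) (d : ℤ) (E : X.Modules) : Prop :=
  FlatMod.IsFinLocFreeOfRank r E ∧ dg k E = d ∧
    ∀ (G : X.Modules) (i : G ⟶ E), Mono i → Coh.IsCoh G → 0 < rk G → rk G < r →
      dg k G * (r : ℤ) < d * (rk G : ℤ)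

variable (hreg : ∀ x : X, IsRegularLocalRing (X.presheaf.stalk x))

include hreg in
/-- Subsheaves of a stable bundle. -/
theorem stable_sub_facts (hd : topologicalKrullDim X ≤ 1) {r : ℕ} {d : ℤ} {E G : X.Modules}
    (hE : IsStableBundle k r d E) (i : G ⟶ E) [Mono i] (hG : Coh.IsCoh G) :
    rk G ≤ r ∧ (rk G = 0 → IsZero G ∧ dg k G = 0) ∧
      (0 < rk G → rk G < r → dg k G * (r : ℤ) < d * (rk G : ℤ)) ∧
      (rk G = r → dg k G ≤ d ∧ (dg k G = d → IsIso i)) := by
  obtain ⟨hF, hdeg, hS⟩ := hE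
  refine ⟨rk_eq hF ▸ rk_le_of_mono i hG (isCoh_of_rank hF), fun h0 => ?_, hS G i ‹_› hG, fun hr => ?_⟩
  · have h1 := locFree_of_mono hreg hd i hG hF
    rw [h0] at h1
    exact ⟨isZero_of_rank_zero h1, (zero_facts k hd (isZero_of_rank_zero h1)).2⟩
  · have h1 := dg_le_of_mono hd k i hG (isCoh_of_rank hF) (hr.trans (rk_eq hF).symm)
    rw [hdeg] at h1
    exact h1

variable [Smooth (X ↘ Spec (CommRingCat.of k))] [IsAlgClosed k] (hd : topologicalKrullDim X = 1)
  (hg : Curv2.genus k X = 1)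

include hreg hd hg in
/-- A nonsplit extension of stable bundles of adjacent slopes is stable. -/
theorem exists_stable_adjacent {r₁ r₂ : ℕ} {d₁ d₂ : ℤ} (hr₁ : 0 < r₁) (hr₂ : 0 < r₂)
    (hdet : (r₁ : ℤ) * d₂ - (r₂ : ℤ) * d₁ = 1) {E₁ E₂ : X.Modules}
    (h₁ : IsStableBundle k r₁ d₁ E₁) (h₂ : IsStableBundle k r₂ d₂ E₂) :
    ∃ E : X.Modules, IsStableBundle k (r₁ + r₂) (d₁ + d₂) E := by
  haveI := Groth.L21.RR.isNoetherian_of_proper (X := X) k
  have h0 : h k 0 (Coh.structureModule X) = 1 := Groth.L21.RR.h0_eq_one_of_isAlgClosed k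
  haveI := Groth.L17.Duality.hasSheafHom E₂
  haveI := Groth.L00.Tensor.grothendieckAbelian_modules X
  haveI : HasExt.{u} X.Modules := inferInstance
  have hB := Groth.L22.CurveDeg.isFinLocFree_of_rank h₂.1
  have hH : ¬ Subsingleton (Coh.HH X ((homMod E₂).obj E₁) 1) := fun hs => by
    have h1 := euler_homMod k hd h0 h₁.1 h₂.1
    rw [Groth.L21.RR.euler_eq k hd.le, Groth.L21.RR.h_eq_zero_of_subsingleton k hs, hg, h₁.2.1, h₂.2.1] at h1
    push_cast at h1
    linarith [Int.natCast_nonneg (h k 0 ((homMod E₂).obj E₁))]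
  obtain ⟨e⟩ := Groth.L17.Duality.nonempty_ext_iso_cohomology E₂ hB E₁ 1
  haveI := not_subsingleton_iff_nontrivial.1 hH
  obtain ⟨x, hx⟩ := exists_ne (0 : Coh.HH X ((homMod E₂).obj E₁) 1)
  obtain ⟨M, u, v, w, hS, hcl⟩ := Groth.L12.DefoSh.exists_extension (e.symm x)
  have hns : ∀ s : E₂ ⟶ M, s ≫ v ≠ 𝟙 E₂ := fun s hs => hx <| by
    have h1 := Groth.L12.DefoSh.extClass_eq_zero_of_section hS s hs
    rw [hcl] at h1
    rw [← e.apply_symm_apply x, h1, map_zero]
  haveI : Mono u := hS.mono_f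
  haveI : Epi v := hS.epi_g
  have hM := locFree_extension hreg hd.le hS h₁.1 h₂.1
  have hcM := isCoh_of_rank hM
  have hc₂ := isCoh_of_rank h₂.1
  have hdM : dg k M = d₁ + d₂ := by
    have := dg_add hd.le k hS (isCoh_of_rank h₁.1) hcM hc₂
    simp only at this
    rw [this, h₁.2.1, h₂.2.1]
  refine ⟨M, hM, hdM, fun G i hi hG hpos hlt => ?_⟩
  haveI := hi
  let f : G ⟶ E₂ := i ≫ v
  let a : kernel f ⟶ E₁ := hS.exact.lift (kernel.ι f ≫ i) (by
    show (kernel.ι f ≫ i) ≫ v = 0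
    rw [Category.assoc]; exact kernel.condition f)
  have ha : a ≫ u = kernel.ι f ≫ i := hS.exact.lift_f _ _
  haveI : Mono (a ≫ u) := by rw [ha]; infer_instance
  haveI : Mono a := mono_of_mono a u
  obtain ⟨hK1, hK0, hK, hKe⟩ := stable_sub_facts k hreg hd.le h₁ a (coh_kernel hG hc₂ f)
  obtain ⟨hI1, hI0, hI, hIe⟩ := stable_sub_facts k hreg hd.le h₂ (Abelian.image.ι f) (coh_image hG hc₂ f)
  obtain ⟨hr, hdd⟩ := add_image k hd.le f hG hc₂
  have key := adjacent_arith (r₁ := (r₁ : ℤ)) (r₂ := (r₂ : ℤ)) (a := (rk (kernel f) : ℤ))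
    (b := (rk (Abelian.image f) : ℤ)) (d₁ := d₁) (d₂ := d₂) (e := dg k (kernel f)) (f := dg k (Abelian.image f))
    hdet (by omega) (by omega) (by omega) (by omega) (by omega) (by omega) (by omega) (by omega)
    (fun h => (hK0 (by omega)).2) (fun h h' => hK (by omega) (by omega)) (fun h => (hKe (by omega)).1)
    (fun h => (hI0 (by omega)).2) (fun h h' => hI (by omega) (by omega)) (fun h => (hIe (by omega)).1)
    fun h h' => lt_of_le_of_ne (hIe (by omega)).1 fun he => by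
      haveI := (hIe (by omega)).2 he
      haveI : Mono f := Preadditive.mono_of_isZero_kernel f (hK0 (by omega)).1
      haveI : Epi f := by rw [← Abelian.image.fac f]; exact epi_comp _ _
      haveI := isIso_of_mono_of_epi f
      exact hns (inv f ≫ i) (by rw [Category.assoc]; exact IsIso.inv_hom_id f)
  rw [hr, hdd]
  push_cast
  linarith

include hreg hd hg in
/-- A stable bundle for every coprime rank and degree. -/
theorem exists_stable_coprime : ∀ (r : ℕ), 0 < r → ∀ d : ℤ, Int.gcd (r : ℤ) d = 1 →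
    ∃ E : X.Modules, IsStableBundle k r d E := by
  intro r
  induction r using Nat.strong_induction_on with
  | _ r ih => ?_
  intro hr d hco
  rcases Nat.lt_or_ge 1 r with hr2 | hr1
  swap
  · obtain ⟨L, hL, hdL⟩ := exists_invertible_deg k hd d
    obtain rfl : r = 1 := by omega
    exact ⟨L, locFree_one hL, by rw [← dg_eq k (locFree_one hL), hdL], fun G i hi hG h0 h1 => by omega⟩
  obtain ⟨s, t, hst⟩ : IsCoprime d (r : ℤ) := (Int.isCoprime_iff_gcd_eq_one.2 (by rw [Int.gcd_comm]; exact hco))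
  have hrz : (0 : ℤ) < r := by omega
  have hs0 : s % (r : ℤ) ≠ 0 := fun h => by
    obtain ⟨q, hq⟩ := Int.dvd_of_emod_eq_zero h
    have h1 : (r : ℤ) ∣ 1 := ⟨q * d + t, by rw [← hst, hq]; ring⟩
    have := Int.le_of_dvd one_pos h1
    omega
  have hs1 := Int.emod_nonneg s hrz.ne'
  have hs2 := Int.emod_lt_of_pos s hrz
  have hse := Int.mul_ediv_add_emod s r
  obtain ⟨r₁, hr₁⟩ := Int.eq_ofNat_of_zero_le hs1
  let d₁ : ℤ := -(d * (s / (r : ℤ)) + t)
  have hdet : (r₁ : ℤ) * d - (r : ℤ) * d₁ = 1 := by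
    simp only [d₁]
    linear_combination hst + d * hse - d * hr₁
  obtain ⟨r₂, hr₂⟩ : ∃ r₂, r₁ + r₂ = r := ⟨r - r₁, by omega⟩
  have hdet' : (r₁ : ℤ) * (d - d₁) - (r₂ : ℤ) * d₁ = 1 := by
    have : (r : ℤ) = r₁ + r₂ := by omega
    linear_combination hdet + d₁ * this
  obtain ⟨E₁, h₁⟩ := ih r₁ (by omega) (by omega) d₁
    (Int.isCoprime_iff_gcd_eq_one.1 ⟨d - d₁, -(r₂ : ℤ), by linear_combination hdet'⟩)
  obtain ⟨E₂, h₂⟩ := ih r₂ (by omega) (by omega) (d - d₁)
    (Int.isCoprime_iff_gcd_eq_one.1 ⟨-d₁, (r₁ : ℤ), by linear_combination hdet'⟩)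
  obtain ⟨E, hE⟩ := exists_stable_adjacent k hreg hd hg (by omega) (by omega) hdet' h₁ h₂
  exact ⟨E, by simpa [hr₂] using hE⟩

omit [Smooth (X ↘ Spec (CommRingCat.of k))] [IsAlgClosed k] in
include hreg in
/-- Direct powers of semistable bundles are semistable. -/
theorem exists_bd_power (hd : topologicalKrullDim X ≤ 1) {r : ℕ} (hr : 0 < r) {E : X.Modules}
    (hE : FlatMod.IsFinLocFreeOfRank r E) (hb : Bd k E (dg k E) r) (n : ℕ) :
    ∃ F : X.Modules, FlatMod.IsFinLocFreeOfRank ((n + 1) * r) F ∧ dg k F = ((n + 1 : ℕ) : ℤ) * dg k E ∧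
      Bd k F (dg k F) ((n + 1) * r) := by
  induction n with
  | zero => exact ⟨E, by simpa using hE, by simp, by simpa using hb⟩
  | succ n ih =>
    obtain ⟨F, hF, hdF, hbF⟩ := ih
    let S := ShortComplex.mk (biprod.inl : F ⟶ F ⊞ E) biprod.snd biprod.inl_snd
    have hS : S.ShortExact :=
      ShortComplex.Splitting.shortExact
        { r := biprod.fst
          s := biprod.inr }
    have hM := locFree_extension hreg hd hS hF hE
    have hdM : dg k (F ⊞ E) = dg k F + dg k E :=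
      dg_add hd k hS (isCoh_of_rank hF) (isCoh_of_rank hM) (isCoh_of_rank hE)
    have e : (n + 1) * r + r = (n + 1 + 1) * r := by ring
    refine ⟨F ⊞ E, e ▸ hM, by rw [hdM, hdF]; push_cast; ring, e ▸ ?_⟩
    refine (bd_extension_iff k hreg hd hS (by positivity) hr (by positivity) hF hM hE ?_ ?_).2 ⟨hbF, hb⟩ <;>
    · show _ * _ = dg k (F ⊞ E) * _
      rw [hdM, hdF]
      push_cast
      ring

include hreg hd hg in
/-- A semistable bundle of every rank and degree. -/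
theorem exists_bd_bundle (r : ℕ) (hr : 0 < r) (d : ℤ) :
    ∃ F : X.Modules, FlatMod.IsFinLocFreeOfRank r F ∧ dg k F = d ∧ Bd k F d r := by
  have hh : 0 < Int.gcd (r : ℤ) d := Int.gcd_pos_of_ne_zero_left d (by omega)
  obtain ⟨g, r', d', hgpos, hco, e1, e2⟩ := Int.exists_gcd_one' hh
  have hrp : 0 < r' := by nlinarith
  obtain ⟨r₀, rfl⟩ := Int.eq_ofNat_of_zero_le hrp.le
  obtain ⟨E, hE, hdE, hS⟩ := exists_stable_coprime k hreg hd hg r₀ (by omega) d' hco
  have hb : Bd k E (dg k E) r₀ := fun G i hi hG => by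
    haveI := hi
    obtain ⟨h1, h2, h3, h4⟩ := stable_sub_facts k hreg hd.le ⟨hE, hdE, hS⟩ i hG
    rw [hdE]
    rcases Nat.eq_zero_or_pos (rk G) with h0 | h0
    · rw [(h2 h0).2, h0]; simp
    rcases lt_or_eq_of_le h1 with h5 | h5
    · exact (h3 h0 h5).le
    · rw [h5]; exact mul_le_mul_of_nonneg_right (h4 h5).1 (Int.natCast_nonneg _)
  obtain ⟨F, hF, hdF, hbF⟩ := exists_bd_power k hreg hd.le (by omega) hE hb (g - 1)
  have eg : g - 1 + 1 = g := by omega
  rw [eg] at hF hdF hbF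
  have er : g * r₀ = r := by
    have h := e1
    push_cast at h
    exact_mod_cast (by linarith : ((g : ℤ) * (r₀ : ℤ)) = r)
  have ed : dg k F = d := by rw [hdF, hdE, e2]; ring
  rw [er] at hF hbF
  exact ⟨F, hF, ed, ed ▸ hbF⟩

end Groth.L21.Bundle
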