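import Groth.Agent.L21.Bundle.Twist
import Groth.Agent.L21.Bundle.DualityApps
import Groth.Agent.L21.Duality.Main
import Groth.Agent.L21.Bundle.Hom
import Groth.Agent.L21.Duality.CliffordEquality
import Groth.Agent.L16.Rees.RelVanish
import Groth.Agent.L29.LocFree
import Groth.Agent.L21.NormRed.H0Conn
import Groth.Agent.S1530

/-!
Slope semistability through the sections of a large twist.
-/

set_option autoImplicit false
set_option backward.isDefEq.respectTransparency false
set_option linter.style.haveILetI false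
universe u

open CategoryTheory CategoryTheory.Limits AlgebraicGeometry

noncomputable section

namespace Groth.L21.Bundle

open Groth.L21.RR (h hk)
open Groth.L16.CohLinear (hmap exact_hmap_hmap)
open Groth.L00.Tensor (tensorRightF)

variable {X : Scheme.{u}} [IsIntegral X] [IsLocallyNoetherian X] (k : Type u) [Field k]
  [X.Over (Spec (CommRingCat.of k))] [IsProper (X ↘ Spec (CommRingCat.of k))]
  [Smooth (X ↘ Spec (CommRingCat.of k))]
  (hd : topologicalKrullDim X = 1) (h0 : h k 0 (Coh.structureModule X) = 1)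

attribute [local irreducible] dg rk

include hd h0 in
/-- Sections of subsheaves when all slopes are bounded and the bound is large. -/
theorem h0_mul_le_of_bd {s : ℕ} {E : X.Modules} (hE : FlatMod.IsFinLocFreeOfRank s E) {D : ℤ} {r : ℕ}
    (hb : Bd k E D r) (hD : (r : ℤ) * (2 * (Curv2.genus k X : ℤ) - 1) ≤ D) :
    ∀ (n : ℕ) (G : X.Modules) (i : G ⟶ E), Mono i → FlatMod.IsFinLocFreeOfRank n G →
      (r : ℤ) * h k 0 G ≤ (n : ℤ) * (D + (r : ℤ) * (1 - (Curv2.genus k X : ℤ))) := by
  haveI := Groth.L21.RR.isNoetherian_of_proper (X := X) k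
  have hreg := Groth.L21.Smooth.regular_stalk (k := k) (X ↘ Spec (CommRingCat.of k))
  intro n
  induction n using Nat.strong_induction_on with
  | _ n ih =>
    intro G i hi hG
    haveI := hi
    have hcG := isCoh_of_rank hG
    have h1 := hb G i hi hcG
    rw [rk_eq hG] at h1
    rcases subsingleton_or_nontrivial (Coh.HH X G 1) with hs | hs
    · have hχ := euler_bundle k hd h0 hG
      rw [Groth.L21.RR.euler_eq k hd.le, show h k 1 G = 0 from Module.finrank_zero_of_subsingleton] at hχ
      push_cast at hχ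
      rw [sub_zero] at hχ
      rw [hχ]
      linarith
    · obtain ⟨φ, hφ⟩ := exists_hom_omega_ne_zero k hd h0 hG
      have hΩ := locFree_one (Groth.L21.Duality.isInvertible_omega (X := X) (k := k) hd)
      have hcΩ := isCoh_of_rank hΩ
      obtain ⟨a1, -⟩ := add_image k hd.le φ hcG hcΩ
      have hI := locFree_of_mono hreg hd.le (Abelian.image.ι φ) (coh_image hcG hcΩ φ) hΩ
      have hpos : 0 < rk (Abelian.image φ) := Nat.pos_of_ne_zero fun h0' => hφ <| by
        rw [← Abelian.image.fac φ, (isZero_of_rank_zero (h0' ▸ hI)).eq_of_src (Abelian.image.ι φ) 0, comp_zero]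
      rw [rk_eq hG] at a1
      have hcK := coh_kernel hcG hcΩ φ
      have hK := locFree_of_mono hreg hd.le (kernel.ι φ) hcK hG
      have hKle := ih (rk (kernel φ)) (by omega) (kernel φ) (kernel.ι φ ≫ i) (mono_comp _ _) hK
      haveI := Groth.L21.RR.finite_HH' k hcK 0
      haveI := Groth.L21.RR.finite_HH' k hcG 0
      haveI := Groth.L21.RR.finite_HH' k hcΩ 0
      have hker : LinearMap.ker (hk k φ 0) ≤ LinearMap.range (hk k (kernel.ι φ) 0) := fun x hx => by
        have hS : (ShortComplex.mk (kernel.ι φ) (Abelian.factorThruImage φ)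
            (by rw [← cancel_mono (Abelian.image.ι φ), Category.assoc, Abelian.image.fac, kernel.condition,
              zero_comp])).ShortExact := Groth.L16.Devissage.shortExact_kernel_image φ
        have hx' : hmap (Abelian.image.ι φ) 0 (hmap (Abelian.factorThruImage φ) 0 x) = 0 := by
          rw [← Groth.L16.CohLinear.hmap_comp, Abelian.image.fac]
          exact hx
        have hz : hmap (Abelian.factorThruImage φ) 0 x = 0 :=
          Groth.L21.RR.injective_hmap_zero _ (hx'.trans (map_zero _).symm)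
        obtain ⟨y, hy⟩ := (exact_hmap_hmap hS 0 x).1 hz
        exact ⟨y, hy⟩
      have e1 := LinearMap.finrank_range_add_finrank_ker (hk k φ 0)
      have e2 : Module.finrank k (LinearMap.range (hk k φ 0)) ≤ Curv2.genus k X :=
        (Submodule.finrank_le _).trans (le_of_eq (Groth.L21.Duality.omega_invariants (k := k) (X := X) hd).1)
      have e3 : Module.finrank k (LinearMap.ker (hk k φ 0)) ≤ h k 0 (kernel φ) :=
        (Submodule.finrank_mono hker).trans (LinearMap.finrank_range_le _)
      have hG0 : (h k 0 G : ℤ) ≤ h k 0 (kernel φ) + Curv2.genus k X := by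
        show (Module.finrank k (Coh.HH X G 0) : ℤ) ≤ _
        omega
      have hn : (rk (kernel φ) : ℤ) + 1 ≤ n := by omega
      have hr : (r : ℤ) * Curv2.genus k X ≤ D + (r : ℤ) * (1 - (Curv2.genus k X : ℤ)) := by linarith
      nlinarith [mul_le_mul_of_nonneg_left hG0 (Int.natCast_nonneg r), hKle,
        mul_le_mul_of_nonneg_right hn (show (0 : ℤ) ≤ D + (r : ℤ) * (1 - (Curv2.genus k X : ℤ)) by
          have : (0 : ℤ) ≤ (r : ℤ) * Curv2.genus k X := by positivity
          linarith)]

omit [IsProper (X ↘ Spec (CommRingCat.of k))] [Smooth (X ↘ Spec (CommRingCat.of k))] [IsIntegral X]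
  [IsLocallyNoetherian X] [X.Over (Spec (CommRingCat.of k))] in
theorem locFree_freeMod (X : Scheme.{u}) (n : ℕ) : FlatMod.IsFinLocFreeOfRank n (FlatMod.freeMod X n) := fun _ =>
  ⟨⊤, trivial, ⟨(Scheme.Modules.restrictFunctorIsoPullback (⊤ : X.Opens).ι).app _ ≪≫
    Groth.L29.LocFree.pullbackFreeIso _ n⟩⟩

include k hd in
/-- `H¹` of the large twists of a quotient of a free module vanishes. -/
theorem exists_vanishing_quotient {L : X.Modules} (hLi : PicF.IsInvertible L) (hL : CohB1.IsAmple L) (N : ℕ) :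
    ∃ l₀ : ℕ, ∀ (F : X.Modules) (q : FlatMod.freeMod X N ⟶ F) [Epi q], Coh.IsCoh F → ∀ l, l₀ ≤ l →
      Subsingleton (Coh.HH X (ShStab.twist X L F l) 1) := by
  haveI := Groth.L21.RR.isNoetherian_of_proper (X := X) k
  obtain ⟨l₀, hl₀⟩ := Groth.L16.Rees.RelVanish.exists_vanishing (X ↘ Spec (CommRingCat.of k)) hL
    (M := FlatMod.freeMod X N) (isCoh_of_rank (locFree_freeMod X N))
  refine ⟨l₀, fun F q _ hF l hl => ?_⟩
  have hN := Groth.L18.Ample.isInvertible_tensorPow hLi l
  haveI : Epi ((tensorRightF (CohB1.tensorPow L l)).map q) :=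
    (Groth.L03.Euler.shortExact_tensor hN (shortExact_kernel q)).epi_g
  have hs := Groth.L21.RR.surjective_hmap_one_of_suppClosed hd.le ((tensorRightF (CohB1.tensorPow L l)).map q)
    (fun x _ => (Groth.L21.Mod.isZero_iff_stalk_subsingleton _).1 (isZero_cokernel_of_epi _) x)
  haveI : Subsingleton (Coh.HH X ((tensorRightF (CohB1.tensorPow L l)).obj (FlatMod.freeMod X N)) 1) := hl₀ l hl 1 one_pos
  exact hs.subsingleton

include hd h0 in
/-- Slope semistability is semistability of a twist by sections. -/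
theorem h0_twist_iff {L : X.Modules} (hLi : PicF.IsInvertible L) (hdeg : 0 < Curv2.deg k X L 1) {r : ℕ} {F : X.Modules}
    (hr : 0 < r) (hF : FlatMod.IsFinLocFreeOfRank r F) {l₀ l : ℕ}
    (hv : ∀ m, l₀ ≤ m → Subsingleton (Coh.HH X (ShStab.twist X L F m) 1))
    (hl : l = l₀ + 2 * Curv2.genus k X) :
    ModFun.IsSlopeSemistable k X F r ↔
      ∀ (F' : X.Modules) (r' : ℕ) (i : F' ⟶ F), Mono i → 0 < r' → FlatMod.IsFinLocFreeOfRank r' F' →
        (Module.finrank k (Coh.HH X (ShStab.twist X L F' l) 0) : ℚ) / (r' : ℚ) ≤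
          (Module.finrank k (Coh.HH X (ShStab.twist X L F l) 0) : ℚ) / (r : ℚ) := by
  haveI := Groth.L21.RR.isNoetherian_of_proper (X := X) k
  have hreg := Groth.L21.Smooth.regular_stalk (k := k) (X ↘ Spec (CommRingCat.of k))
  have hP := fun m : ℕ => Groth.L18.Ample.isInvertible_tensorPow hLi m
  have hdP : ∀ m : ℕ, Curv2.deg k X (CohB1.tensorPow L m) 1 = m * Curv2.deg k X L 1 :=
    fun m => Groth.L21.Duality.deg_tensorPow (k := k) hd hLi m
  have hT : ∀ {G : X.Modules} {s : ℕ}, FlatMod.IsFinLocFreeOfRank s G → ∀ m,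
      FlatMod.IsFinLocFreeOfRank s (ShStab.twist X L G m) ∧
        dg k (ShStab.twist X L G m) = dg k G + (s : ℤ) * (m * Curv2.deg k X L 1) := fun {G s} hG m => by
    refine ⟨locFree_twist hd hreg (hP m) hG, ?_⟩
    have := dg_twist k hd (hP m) (isCoh_of_rank hG)
    rw [rk_eq hG, hdP] at this
    exact this
  have hχ : ∀ {G : X.Modules} {s : ℕ}, FlatMod.IsFinLocFreeOfRank s G → ∀ m,
      (h k 0 (ShStab.twist X L G m) : ℤ) - h k 1 (ShStab.twist X L G m) =
        dg k G + (s : ℤ) * (m * Curv2.deg k X L 1) + (s : ℤ) * (1 - (Curv2.genus k X : ℤ)) := fun {G s} hG m => by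
    rw [← (hT hG m).2, ← euler_bundle k hd h0 (hT hG m).1, Groth.L21.RR.euler_eq k hd.le]
  have hF0 : ∀ m, l₀ ≤ m → h k 1 (ShStab.twist X L F m) = 0 := fun m hm =>
    haveI := hv m hm
    Module.finrank_zero_of_subsingleton
  have eF := hχ hF l
  rw [hF0 l (by omega)] at eF
  have eF₀ := hχ hF l₀
  rw [hF0 l₀ le_rfl] at eF₀
  push_cast at eF eF₀
  have key : ∀ {G : X.Modules} {r' : ℕ}, 0 < r' →
      (((Module.finrank k (Coh.HH X (ShStab.twist X L G l) 0) : ℚ) / (r' : ℚ) ≤
          (Module.finrank k (Coh.HH X (ShStab.twist X L F l) 0) : ℚ) / (r : ℚ)) ↔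
        (r : ℤ) * h k 0 (ShStab.twist X L G l) ≤ (r' : ℤ) * h k 0 (ShStab.twist X L F l)) := fun {G r'} hr' => by
    show _ ↔ (r : ℤ) * (Module.finrank k (Coh.HH X (ShStab.twist X L G l) 0) : ℤ) ≤
      (r' : ℤ) * (Module.finrank k (Coh.HH X (ShStab.twist X L F l) 0) : ℤ)
    rw [div_le_div_iff₀ (by exact_mod_cast hr') (by exact_mod_cast hr), mul_comm, mul_comm (_ : ℚ) (r' : ℚ)]
    norm_cast
  constructor
  · intro hss F' r' i hi hr' hF'
    haveI := hi
    rw [key hr']
    haveI := mono_twist (hP l) i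
    have hb := bd_twist k hd (hP l) (bd_of_ss k hreg hd.le hF hss)
    rw [hdP] at hb
    have hM : (r : ℤ) * (2 * (Curv2.genus k X : ℤ) - 1) ≤ dg k F + (r : ℤ) * (l * Curv2.deg k X L 1) := by
      subst hl
      have h2 : 0 ≤ (r : ℤ) * (Curv2.genus k X : ℤ) * (Curv2.deg k X L 1 - 1) :=
        mul_nonneg (by positivity) (by linarith)
      push_cast at *
      nlinarith
    have := h0_mul_le_of_bd k hd h0 (hT hF l).1 hb hM r' _ ((tensorRightF (CohB1.tensorPow L l)).map i)
      inferInstance (hT hF' l).1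
    refine this.trans (le_of_eq ?_)
    rw [show (h k 0 (ShStab.twist X L F l) : ℤ) =
      dg k F + (r : ℤ) * (l * Curv2.deg k X L 1) + (r : ℤ) * (1 - (Curv2.genus k X : ℤ)) by linarith]
  · intro hh F' r' i hi hr' hF'
    have h1 := (key hr').1 (hh F' r' i hi hr' hF')
    have h2 := hχ hF' l
    rw [dg_eq k hF', dg_eq k hF]
    nlinarith [mul_nonneg (Int.natCast_nonneg r) (Int.natCast_nonneg (h k 1 (ShStab.twist X L F' l)))]

end Groth.L21.Bundle
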