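import Groth.Agent.L21.Bundle.Hom
import Groth.Agent.L21.Bundle.Lines

/-!
Bundles with twisted endomorphisms (Higgs bundles, pairs, tuples): invariant subsheaves and slopes.
-/

set_option autoImplicit false
set_option backward.isDefEq.respectTransparency false
set_option linter.style.haveILetI false
universe u

open CategoryTheory CategoryTheory.Limits AlgebraicGeometry TopologicalSpace

noncomputable section

namespace Groth.L21.Bundle.Higgs

open Groth.L00.Tensor (tensorRightF tensorMap tensorComm tensorIso tensorAssoc tensorUnitLeft)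

section General

variable {X : Scheme.{u}}

/-- The twist of a map, in the form used by the statements. -/
theorem map_eq {M N : X.Modules} (j : M ⟶ N) (L : X.Modules) :
    (CohB1.sheafifyMod X).map (MonoidalCategoryStruct.whiskerRight (C := CohB1.PMod X) j.val (CohB1.toPMod L)) =
      (tensorRightF L).map j := by
  refine congrArg (CohB1.sheafifyMod X).map ?_
  rw [CategoryTheory.Functor.map_id]
  exact (MonoidalCategory.tensorHom_id _ _).symm

/-- `φ` restricts to the subsheaf `j`. -/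
def Inv {E G L : X.Modules} (φ : E ⟶ CohB1.tensorMod E L) (j : G ⟶ E) : Prop :=
  ∃ χ : G ⟶ CohB1.tensorMod G L, χ ≫ (tensorRightF L).map j = j ≫ φ

theorem inv_id {E L : X.Modules} (φ : E ⟶ CohB1.tensorMod E L) : Inv φ (𝟙 E) :=
  ⟨φ, by rw [CategoryTheory.Functor.map_id]; exact (Category.comp_id φ).trans (Category.id_comp φ).symm⟩

theorem inv_comp {E G K L : X.Modules} {φ : E ⟶ CohB1.tensorMod E L} {χ : G ⟶ CohB1.tensorMod G L}
    {j : G ⟶ E} (hj : χ ≫ (tensorRightF L).map j = j ≫ φ) {i : K ⟶ G} (hi : Inv χ i) : Inv φ (i ≫ j) := by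
  obtain ⟨c, hc⟩ := hi
  refine ⟨c, ?_⟩
  rw [Functor.map_comp, ← Category.assoc, hc, Category.assoc, hj, Category.assoc]

variable {L : X.Modules} (hL : PicF.IsInvertible L)

include hL in
/-- Maps into the twist of a subsheaf. -/
theorem exists_lift {E P G : X.Modules} (j : P ⟶ E) [Mono j] (g : G ⟶ CohB1.tensorMod E L)
    (h : g ≫ (tensorRightF L).map (cokernel.π j) = 0) : ∃ χ : G ⟶ CohB1.tensorMod P L, χ ≫ (tensorRightF L).map j = g := by
  have hS := Groth.L03.Euler.shortExact_tensor hL (shortExact_cokernel j)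
  haveI := hS.mono_f
  exact ⟨hS.exact.lift g h, hS.exact.lift_f g h⟩

include hL in
theorem inv_of_comp_eq_zero {E P : X.Modules} (φ : E ⟶ CohB1.tensorMod E L) (j : P ⟶ E) [Mono j]
    (h : j ≫ φ ≫ (tensorRightF L).map (cokernel.π j) = 0) : Inv φ j :=
  exists_lift hL j (j ≫ φ) (by rw [Category.assoc]; exact h)

include hL in
/-- The kernel of a compatible map is invariant. -/
theorem inv_kernel {E F : X.Modules} (φ : E ⟶ CohB1.tensorMod E L) (ψ : F ⟶ CohB1.tensorMod F L) (f : E ⟶ F)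
    (hf : f ≫ ψ = φ ≫ (tensorRightF L).map f) : Inv φ (kernel.ι f) := by
  refine inv_of_comp_eq_zero hL φ _ ?_
  let c : cokernel (kernel.ι f) ⟶ F := cokernel.desc _ f (kernel.condition f)
  have hc : c = (Abelian.coimageImageComparison f) ≫ Abelian.image.ι f := by
    apply coequalizer.hom_ext
    exact (cokernel.π_desc _ _ _).trans (Abelian.coimage_image_factorisation f).symm
  haveI : Mono c := by rw [hc]; infer_instance
  haveI := mono_twist hL c
  rw [← cancel_mono ((tensorRightF L).map c), zero_comp, Category.assoc, Category.assoc, ← Functor.map_comp,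
    cokernel.π_desc, ← hf, kernel.condition_assoc, zero_comp]

include hL in
/-- The image of a compatible map is invariant. -/
theorem inv_image {E F : X.Modules} (φ : E ⟶ CohB1.tensorMod E L) (ψ : F ⟶ CohB1.tensorMod F L) (f : E ⟶ F)
    (hf : f ≫ ψ = φ ≫ (tensorRightF L).map f) : Inv ψ (Abelian.image.ι f) := by
  refine inv_of_comp_eq_zero hL ψ _ ?_
  rw [← cancel_epi (Abelian.factorThruImage f), comp_zero, ← Category.assoc, Abelian.image.fac, reassoc_of% hf,
    ← Functor.map_comp]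
  have h0 : f ≫ cokernel.π (Abelian.image.ι f) = 0 := by
    refine (congrArg (· ≫ cokernel.π (Abelian.image.ι f)) (Abelian.image.fac f).symm).trans ?_
    simp only [Category.assoc, cokernel.condition, comp_zero]
  rw [h0, Functor.map_zero, comp_zero]

/-- The induced field on the quotient by an invariant subsheaf. -/
theorem exists_quotient_field {E G : X.Modules} (φ : E ⟶ CohB1.tensorMod E L) (i : G ⟶ E) (hi : Inv φ i) :
    ∃ φ' : cokernel i ⟶ CohB1.tensorMod (cokernel i) L, cokernel.π i ≫ φ' = φ ≫ (tensorRightF L).map (cokernel.π i) := by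
  obtain ⟨χ, hχ⟩ := hi
  have h0 : i ≫ φ ≫ (tensorRightF L).map (cokernel.π i) = 0 := by
    rw [← Category.assoc, ← hχ, Category.assoc, ← Functor.map_comp, cokernel.condition, Functor.map_zero, comp_zero]
  exact ⟨cokernel.desc i _ h0, cokernel.π_desc i _ h0⟩

end General

variable {X : Scheme.{u}} [IsIntegral X] [IsLocallyNoetherian X] (k : Type u) [Field k]
  [X.Over (Spec (CommRingCat.of k))] [IsProper (X ↘ Spec (CommRingCat.of k))]

attribute [local irreducible] dg rk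

/-- The inverse image of an invariant subsheaf of a quotient is invariant. -/
theorem exists_inv_preimage (hd : topologicalKrullDim X ≤ 1) {ι : Type u} {L : ι → X.Modules}
    (hL : ∀ a, PicF.IsInvertible (L a)) {E Q G : X.Modules} (φ : ∀ a, E ⟶ CohB1.tensorMod E (L a))
    (φ' : ∀ a, Q ⟶ CohB1.tensorMod Q (L a)) (q : E ⟶ Q) [Epi q] (hq : ∀ a, q ≫ φ' a = φ a ≫ (tensorRightF (L a)).map q)
    (j : G ⟶ Q) [Mono j] (hj : ∀ a, Inv (φ' a) j) (hE : Coh.IsCoh E) (hQ : Coh.IsCoh Q) (hG : Coh.IsCoh G) :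
    ∃ (P : X.Modules) (i : P ⟶ E), Mono i ∧ Coh.IsCoh P ∧ (∀ a, Inv (φ a) i) ∧
      rk P + rk Q = rk E + rk G ∧ dg k P + dg k Q = dg k E + dg k G := by
  have hC := coh_cokernel hG hQ j
  haveI : Epi (q ≫ cokernel.π j) := epi_comp _ _
  refine ⟨kernel (q ≫ cokernel.π j), kernel.ι _, inferInstance, coh_kernel hE hC _, fun a => ?_, ?_, ?_⟩
  · obtain ⟨φ'', hφ''⟩ := exists_quotient_field (φ' a) j (hj a)
    refine inv_kernel (hL a) (φ a) φ'' _ ?_
    rw [Functor.map_comp, Category.assoc, hφ'', reassoc_of% (hq a)]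
  all_goals
    obtain ⟨h1, h2⟩ := add_cokernel k hd j hG hQ
    obtain ⟨h3, h4⟩ := add_kernel k hd (q ≫ cokernel.π j) hE hC
    omega

/-- All slopes of subsheaves invariant under a family of twisted endomorphisms are at most `a / b`. -/
def PBd {ι : Type u} {L : ι → X.Modules} {E : X.Modules} (φ : ∀ a, E ⟶ CohB1.tensorMod E (L a)) (a : ℤ) (b : ℕ) : Prop :=
  ∀ (G : X.Modules) (i : G ⟶ E), Mono i → Coh.IsCoh G → (∀ t, Inv (φ t) i) → dg k G * (b : ℤ) ≤ a * (rk G : ℤ)

variable (hreg : ∀ x : X, IsRegularLocalRing (X.presheaf.stalk x)) (hd : topologicalKrullDim X ≤ 1)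
  {ι : Type u} {L : ι → X.Modules} (hL : ∀ a, PicF.IsInvertible (L a))

include hreg hd in
theorem pbd_of {r : ℕ} {E : X.Modules} (hE : FlatMod.IsFinLocFreeOfRank r E) (φ : ∀ a, E ⟶ CohB1.tensorMod E (L a))
    {a : ℤ} {b : ℕ}
    (h : ∀ (G : X.Modules) (n : ℕ) (i : G ⟶ E), Mono i → 0 < n → FlatMod.IsFinLocFreeOfRank n G →
      (∀ t, Inv (φ t) i) → Curv2.deg k X G n * (b : ℤ) ≤ a * (n : ℤ)) : PBd k φ a b := by
  intro G i hi hG hinv
  haveI := hi
  have hl := locFree_of_mono hreg hd i hG hE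
  rcases Nat.eq_zero_or_pos (rk G) with h0 | h0
  · rw [h0] at hl ⊢
    rw [(zero_facts k hd (isZero_of_rank_zero hl)).2]
    simp
  · have := h G (rk G) i hi h0 hl hinv
    rwa [dg_eq k hl] at this

theorem of_pbd {E G : X.Modules} {φ : ∀ a, E ⟶ CohB1.tensorMod E (L a)} {a : ℤ} {b : ℕ} (h : PBd k φ a b) {n : ℕ}
    (i : G ⟶ E) (hi : Mono i) (hG : FlatMod.IsFinLocFreeOfRank n G) (hinv : ∀ t, Inv (φ t) i) :
    Curv2.deg k X G n * (b : ℤ) ≤ a * (n : ℤ) := by
  have := h G i hi (isCoh_of_rank hG) hinv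
  rwa [← dg_eq k hG, rk_eq hG] at this

include hreg hd hL in
/-- A nonzero map of semistable tuples does not decrease slopes. -/
theorem slope_le_of_hom {r s : ℕ} {E F : X.Modules} (hE : FlatMod.IsFinLocFreeOfRank r E)
    (hF : FlatMod.IsFinLocFreeOfRank s F) (φ : ∀ a, E ⟶ CohB1.tensorMod E (L a))
    (ψ : ∀ a, F ⟶ CohB1.tensorMod F (L a)) (hEs : PBd k φ (dg k E) r) (hFs : PBd k ψ (dg k F) s)
    (f : E ⟶ F) (hf : ∀ a, f ≫ ψ a = φ a ≫ (tensorRightF (L a)).map f) (hne : f ≠ 0) :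
    dg k E * (s : ℤ) ≤ dg k F * (r : ℤ) := by
  have hcE := isCoh_of_rank hE
  have hcF := isCoh_of_rank hF
  have hI := locFree_of_mono hreg hd (Abelian.image.ι f) (coh_image hcE hcF f) hF
  have hpos : 0 < rk (Abelian.image f) := by
    refine Nat.pos_of_ne_zero fun h0 => hne ?_
    rw [h0] at hI
    rw [← Abelian.image.fac f, (isZero_of_rank_zero hI).eq_of_src (Abelian.image.ι f) 0, comp_zero]
  obtain ⟨h1, h2⟩ := add_image k hd f hcE hcF
  have h3 := hEs (kernel f) (kernel.ι f) inferInstance (coh_kernel hcE hcF f)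
    fun a => inv_kernel (hL a) (φ a) (ψ a) f (hf a)
  have h4 := hFs (Abelian.image f) (Abelian.image.ι f) inferInstance (coh_image hcE hcF f)
    fun a => inv_image (hL a) (φ a) (ψ a) f (hf a)
  rw [rk_eq hE] at h1
  rw [h2, h1] at h3
  push_cast at h3
  rw [h2, h1]
  push_cast
  have hI0 : (0 : ℤ) < rk (Abelian.image f) := by exact_mod_cast hpos
  have hs0 : (0 : ℤ) ≤ s := Int.natCast_nonneg s
  have hr0 : (0 : ℤ) ≤ (rk (kernel f) : ℤ) + rk (Abelian.image f) := by positivity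
  refine le_of_mul_le_mul_right ?_ hI0
  nlinarith [mul_le_mul_of_nonneg_left h4 hr0, mul_le_mul_of_nonneg_left h3 hs0]

include hreg hd in
/-- An invariant subsheaf of maximal slope and, among those, of maximal rank. -/
theorem exists_max_slope {r : ℕ} (hr : 0 < r) {E : X.Modules} (hE : FlatMod.IsFinLocFreeOfRank r E)
    (φ : ∀ a, E ⟶ CohB1.tensorMod E (L a)) :
    ∃ (E₁ : X.Modules) (i₁ : E₁ ⟶ E), Mono i₁ ∧ Coh.IsCoh E₁ ∧ (∀ a, Inv (φ a) i₁) ∧ 0 < rk E₁ ∧
      PBd k φ (dg k E₁) (rk E₁) ∧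
      ∀ (G : X.Modules) (i : G ⟶ E), Mono i → Coh.IsCoh G → (∀ a, Inv (φ a) i) → 0 < rk G →
        dg k G * (rk E₁ : ℤ) = dg k E₁ * (rk G : ℤ) → rk G ≤ rk E₁ := by
  classical
  have hcE := isCoh_of_rank hE
  obtain ⟨N, hN⟩ := exists_dg_bound k hd hcE
  let P : ℕ → ℤ → Prop := fun n d => ∃ (G : X.Modules) (i : G ⟶ E),
    Mono i ∧ Coh.IsCoh G ∧ (∀ a, Inv (φ a) i) ∧ rk G = n ∧ dg k G = d
  have hmax : ∀ n, (∃ d, P n d) → ∃ d, P n d ∧ ∀ d', P n d' → d' ≤ d := fun n hn =>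
    Int.exists_greatest_of_bdd ⟨N, fun d ⟨G, i, hi, hG, _, _, hd'⟩ => hd' ▸ hN G i hi hG⟩ hn
  have hrk : ∀ n d, P n d → n ≤ r := fun n d ⟨G, i, hi, hG, _, hn, _⟩ => by
    rw [← hn, ← rk_eq hE]; haveI := hi; exact rk_le_of_mono i hG hcE
  let T : Finset ℕ := (Finset.range (r + 1)).filter fun n => 0 < n ∧ ∃ d, P n d
  let m : ℕ → ℤ := fun n => if hn : ∃ d, P n d then (hmax n hn).choose else 0
  have hm : ∀ n, (∃ d, P n d) → P n (m n) ∧ ∀ d', P n d' → d' ≤ m n := fun n hn => by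
    simp only [m, dif_pos hn]; exact (hmax n hn).choose_spec
  have hTne : T.Nonempty := ⟨r, Finset.mem_filter.2 ⟨Finset.self_mem_range_succ r, hr,
    dg k E, E, 𝟙 E, inferInstance, hcE, fun a => inv_id (φ a), rk_eq hE, rfl⟩⟩
  let μ : ℕ → ℚ := fun n => (m n : ℚ) / n
  obtain ⟨n₁, hn₁, hbest⟩ := T.exists_max_image (fun n => toLex (μ n, n)) hTne
  obtain ⟨-, hpos₁, hex₁⟩ := Finset.mem_filter.1 hn₁
  obtain ⟨E₁, i₁, hi₁, hE₁, hinv₁, hr₁, hd₁⟩ := (hm n₁ hex₁).1
  have key : ∀ (G : X.Modules) (i : G ⟶ E), Mono i → Coh.IsCoh G → (∀ a, Inv (φ a) i) → 0 < rk G →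
      dg k G * (rk E₁ : ℤ) ≤ dg k E₁ * (rk G : ℤ) ∧
        (dg k G * (rk E₁ : ℤ) = dg k E₁ * (rk G : ℤ) → rk G ≤ rk E₁) := by
    intro G i hi hG hinv h0
    have hP : P (rk G) (dg k G) := ⟨G, i, hi, hG, hinv, rfl, rfl⟩
    have hle : dg k G ≤ m (rk G) := (hm _ ⟨_, hP⟩).2 _ hP
    have hmem : rk G ∈ T := Finset.mem_filter.2 ⟨Finset.mem_range.2 (Nat.lt_succ_of_le (hrk _ _ hP)), h0, _, hP⟩
    have hb := hbest _ hmem
    rw [Prod.Lex.toLex_le_toLex] at hb
    have hq0 : (0 : ℚ) < rk G := by exact_mod_cast h0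
    have hq1 : (0 : ℚ) < n₁ := by exact_mod_cast hpos₁
    rw [hr₁, hd₁]
    have hle' : (dg k G : ℚ) ≤ (m (rk G) : ℚ) := by exact_mod_cast hle
    have hle'' : (dg k G : ℚ) * n₁ ≤ (m (rk G) : ℚ) * n₁ := mul_le_mul_of_nonneg_right hle' hq1.le
    rcases hb with hlt | ⟨heq, hn⟩
    · simp only [μ, div_lt_div_iff₀ hq0 hq1] at hlt
      have : (dg k G : ℚ) * n₁ < (m n₁ : ℚ) * rk G := lt_of_le_of_lt hle'' hlt
      have h' : dg k G * (n₁ : ℤ) < m n₁ * (rk G : ℤ) := by exact_mod_cast this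
      exact ⟨h'.le, fun he => absurd he h'.ne⟩
    · simp only [μ, div_eq_div_iff hq0.ne' hq1.ne'] at heq
      exact ⟨by exact_mod_cast (heq ▸ hle'' : (dg k G : ℚ) * n₁ ≤ (m n₁ : ℚ) * rk G), fun _ => hn⟩
  refine ⟨E₁, i₁, hi₁, hE₁, hinv₁, hr₁ ▸ hpos₁, fun G i hi hG hinv => ?_,
    fun G i hi hG hinv h0 => (key G i hi hG hinv h0).2⟩
  rcases Nat.eq_zero_or_pos (rk G) with h0 | h0
  · haveI := hi
    have hl := locFree_of_mono hreg hd i hG hE
    rw [h0] at hl ⊢
    rw [(zero_facts k hd (isZero_of_rank_zero hl)).2]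
    simp
  · exact (key G i hi hG hinv h0).1

include hreg hd hL in
/-- An endomorphism commuting with the fields does not affect semistability. -/
theorem pbd_of_commuting {r : ℕ} (hr : 0 < r) {E : X.Modules} (hE : FlatMod.IsFinLocFreeOfRank r E)
    (φ : ∀ a, E ⟶ CohB1.tensorMod E (L a)) (ψ : E ⟶ E) (hc : ∀ a, ψ ≫ φ a = φ a ≫ (tensorRightF (L a)).map ψ)
    {c : ℤ} (h : ∀ (G : X.Modules) (i : G ⟶ E), Mono i → Coh.IsCoh G → (∀ a, Inv (φ a) i) →
      (∃ ψ' : G ⟶ G, ψ' ≫ i = i ≫ ψ) → dg k G * (r : ℤ) ≤ c * (rk G : ℤ)) : PBd k φ c r := by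
  obtain ⟨E₁, i₁, hi₁, hE₁, hinv₁, hpos, hb, hmax⟩ := exists_max_slope k hreg hd hr hE φ
  haveI := hi₁
  have hcE := isCoh_of_rank hE
  have hcQ := coh_cokernel hE₁ hcE i₁
  choose φ' hφ' using fun a => exists_quotient_field (φ a) i₁ (hinv₁ a)
  choose χ hχ using hinv₁
  let g : E₁ ⟶ cokernel i₁ := i₁ ≫ ψ ≫ cokernel.π i₁
  have hg : ∀ a, g ≫ φ' a = χ a ≫ (tensorRightF (L a)).map g := fun a => by
    simp only [g, Category.assoc, Functor.map_comp]
    rw [hφ' a, reassoc_of% (hc a), reassoc_of% (hχ a)]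
  have hg0 : g = 0 := by
    by_contra hne
    have hcI := coh_image hE₁ hcQ g
    obtain ⟨P, iP, hiP, hP, hPinv, hrP, hdP⟩ := exists_inv_preimage k hd hL φ φ' (cokernel.π i₁) hφ'
      (Abelian.image.ι g) (fun a => inv_image (hL a) (χ a) (φ' a) g (hg a)) hcE hcQ hcI
    obtain ⟨h1, h2⟩ := add_cokernel k hd i₁ hE₁ hcE
    obtain ⟨h3, h4⟩ := add_image k hd g hE₁ hcQ
    have hK := hb (kernel g) (kernel.ι g ≫ i₁) (mono_comp _ _) (coh_kernel hE₁ hcQ g)
      fun a => inv_comp (hχ a) (inv_kernel (hL a) (χ a) (φ' a) g (hg a))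
    have hPb := hb P iP hiP hP hPinv
    have hk1 : (0 : ℤ) < rk E₁ := by exact_mod_cast hpos
    have hrP' : (rk P : ℤ) = rk E₁ + rk (Abelian.image g) := by exact_mod_cast (show rk P = _ by omega)
    have hdP' : dg k P = dg k E₁ + dg k (Abelian.image g) := by omega
    rcases Nat.eq_zero_or_pos (rk (Abelian.image g)) with h0 | h0
    · obtain ⟨hnn, hz⟩ := dg_nonneg_of_rk_eq_zero hd k hcI h0
      rw [hrP', hdP', h0] at hPb
      push_cast at hPb
      have hI0 := hz (by nlinarith)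
      exact hne (by rw [← Abelian.image.fac g, hI0.eq_of_src (Abelian.image.ι g) 0, comp_zero])
    · have hne' : dg k P * (rk E₁ : ℤ) ≠ dg k E₁ * (rk P : ℤ) := fun he => by
        have := hmax P iP hiP hP hPinv (by omega) he
        omega
      have hlt := lt_of_le_of_ne hPb hne'
      rw [hrP', hdP'] at hlt
      have h3' : (rk E₁ : ℤ) = rk (kernel g) + rk (Abelian.image g) := by exact_mod_cast h3
      have e1 : dg k E₁ * (rk E₁ : ℤ) = (dg k (kernel g) + dg k (Abelian.image g)) * (rk E₁ : ℤ) := by rw [← h4]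
      have e2 : dg k E₁ * (rk E₁ : ℤ) = dg k E₁ * (rk (kernel g) : ℤ) + dg k E₁ * (rk (Abelian.image g) : ℤ) := by
        rw [← mul_add, ← h3']
      linarith
  obtain ⟨ψ', hψ'⟩ : ∃ ψ' : E₁ ⟶ E₁, ψ' ≫ i₁ = i₁ ≫ ψ :=
    ⟨(shortExact_cokernel i₁).exact.lift (i₁ ≫ ψ) (by rw [Category.assoc]; exact hg0),
      (shortExact_cokernel i₁).exact.lift_f _ _⟩
  have h5 := h E₁ i₁ hi₁ hE₁ (fun a => ⟨χ a, hχ a⟩) ⟨ψ', hψ'⟩
  intro G i hi hG hinv
  have h6 := hb G i hi hG hinv
  have hk1 : (0 : ℤ) < rk E₁ := by exact_mod_cast hpos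
  refine le_of_mul_le_mul_right ?_ hk1
  nlinarith [mul_le_mul_of_nonneg_right h6 (Int.natCast_nonneg r),
    mul_le_mul_of_nonneg_right h5 (Int.natCast_nonneg (rk G))]

include hreg hd hL in
/-- The quotient by an invariant subsheaf of the same slope. -/
theorem quotient_of_slope_eq (hd1 : topologicalKrullDim X = 1) {r : ℕ} (hr : 0 < r) {E : X.Modules} (hE : FlatMod.IsFinLocFreeOfRank r E)
    {φ : ∀ a, E ⟶ CohB1.tensorMod E (L a)} {c : ℤ} (hss : PBd k φ c r) (hc : dg k E = c) {F : X.Modules}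
    (i : F ⟶ E) [Mono i] (hF : Coh.IsCoh F) (hi : ∀ a, Inv (φ a) i) (hslope : dg k F * (r : ℤ) = c * (rk F : ℤ)) :
    FlatMod.IsFinLocFreeOfRank (rk (cokernel i)) (cokernel i) ∧
    rk F + rk (cokernel i) = r ∧ dg k F + dg k (cokernel i) = c ∧
    ∀ φ' : ∀ a, cokernel i ⟶ CohB1.tensorMod (cokernel i) (L a),
      (∀ a, cokernel.π i ≫ φ' a = φ a ≫ (tensorRightF (L a)).map (cokernel.π i)) → PBd k φ' c r := by
  have hcE := isCoh_of_rank hE
  have hcC := coh_cokernel hF hcE i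
  obtain ⟨h1, h2⟩ := add_cokernel k hd i hF hcE
  rw [rk_eq hE] at h1
  rw [hc] at h2
  have key : ∀ φ' : ∀ a, cokernel i ⟶ CohB1.tensorMod (cokernel i) (L a),
      (∀ a, cokernel.π i ≫ φ' a = φ a ≫ (tensorRightF (L a)).map (cokernel.π i)) → PBd k φ' c r := by
    intro φ' hφ' G j hj hG hinv
    haveI := hj
    obtain ⟨P, iP, hiP, hP, hPinv, hrP, hdP⟩ := exists_inv_preimage k hd hL φ φ' (cokernel.π i) hφ' j hinv hcE hcC hG
    rw [rk_eq hE] at hrP
    rw [hc] at hdP
    have hPb := hss P iP hiP hP hPinv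
    rw [show dg k P = dg k F + dg k G by omega, show rk P = rk F + rk G by omega] at hPb
    push_cast at hPb
    linarith
  refine ⟨?_, h1.symm, h2.symm, key⟩
  choose φ' hφ' using fun a => exists_quotient_field (φ a) i (hi a)
  obtain ⟨Q, p, hp, hK, hK0, hQ⟩ := exists_locFree_quotient hreg hd hcC
  haveI := hp
  have hinvK : ∀ a, Inv (φ' a) (kernel.ι p) := fun a => by
    refine inv_of_comp_eq_zero (hL a) _ _ ?_
    let e : cokernel (kernel.ι p) ⟶ Q := cokernel.desc _ p (kernel.condition p)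
    have he : e = (Abelian.coimageImageComparison p) ≫ Abelian.image.ι p := by
      apply coequalizer.hom_ext
      exact (cokernel.π_desc _ _ _).trans (Abelian.coimage_image_factorisation p).symm
    haveI : Mono e := by rw [he]; infer_instance
    haveI := mono_twist (hL a) e
    have hcQ := isCoh_of_rank hQ
    have hW := coh_twist (hL a) hcQ
    let f : kernel p ⟶ CohB1.tensorMod Q (L a) := kernel.ι p ≫ φ' a ≫ (tensorRightF (L a)).map p
    have hf0 : f = 0 := by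
      have hcI := coh_image hK hW f
      obtain ⟨g1, -⟩ := add_image k hd f hK hW
      have hl := locFree_of_mono hreg hd (Abelian.image.ι f) hcI (locFree_twist hd1 hreg (hL a) hQ)
      rw [show rk (Abelian.image f) = 0 by omega] at hl
      rw [← Abelian.image.fac f, (isZero_of_rank_zero hl).eq_of_src (Abelian.image.ι f) 0, comp_zero]
    rw [← cancel_mono ((tensorRightF (L a)).map e), zero_comp, Category.assoc, Category.assoc, ← Functor.map_comp,
      cokernel.π_desc]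
    exact hf0
  have hKb := key φ' hφ' (kernel p) (kernel.ι p) inferInstance hK hinvK
  obtain ⟨hnn, hz⟩ := dg_nonneg_of_rk_eq_zero hd k hK hK0
  rw [hK0] at hKb
  push_cast at hKb
  have hr' : (0 : ℤ) < r := by exact_mod_cast hr
  haveI : Mono p := Preadditive.mono_of_isZero_kernel p (hz (by nlinarith))
  haveI : IsIso p := isIso_of_mono_of_epi p
  exact locFree_of_mono hreg hd p hcC hQ

end Groth.L21.Bundle.Higgs
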