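import Groth.Agent.L21.Bundle.Higgs
import Groth.Agent.L21.Bundle.GenusOne

/-!
Pairs `(E, φ : E ⟶ E ⊗ L)`: consequences of the degree of `L`.
-/

set_option autoImplicit false
set_option backward.isDefEq.respectTransparency false
set_option linter.style.haveILetI false
universe u

open CategoryTheory CategoryTheory.Limits AlgebraicGeometry TopologicalSpace

noncomputable section

namespace Groth.L21.Bundle.Higgs

open Groth.L00.Tensor (tensorRightF tensorMap tensorComm tensorIso tensorAssoc tensorUnitRight)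

variable {X : Scheme.{u}} [IsIntegral X] [IsLocallyNoetherian X] (k : Type u) [Field k]
  [X.Over (Spec (CommRingCat.of k))] [IsProper (X ↘ Spec (CommRingCat.of k))]
  (hreg : ∀ x : X, IsRegularLocalRing (X.presheaf.stalk x)) (hd : topologicalKrullDim X = 1)
  {L : X.Modules} (hL : PicF.IsInvertible L)

attribute [local irreducible] dg rk

/-- A single field, as a family. -/
abbrev one (E : X.Modules) (φ : E ⟶ CohB1.tensorMod E L) :
    ∀ a : PUnit.{u + 1}, E ⟶ CohB1.tensorMod E ((fun _ => L) a) := fun _ => φ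

include hreg hd hL in
/-- A semistable pair with a nonzero field has a twist of nonnegative degree. -/
theorem deg_nonneg {r : ℕ} {E : X.Modules} (hE : FlatMod.IsFinLocFreeOfRank r E)
    (φ : E ⟶ CohB1.tensorMod E L) (hss : PBd k (one E φ) (dg k E) r) (hne : φ ≠ 0) :
    0 ≤ Curv2.deg k X L 1 := by
  have hcE := isCoh_of_rank hE
  have hT := locFree_twist hd hreg hL hE
  have hcT := isCoh_of_rank hT
  have hcI := coh_image hcE hcT φ
  obtain ⟨N, hN, ⟨e⟩⟩ := Groth.L08.Cube.exists_inverse hL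
  let A : X.Modules ≌ X.Modules := twistEquiv (tensorComm N L ≪≫ e)
  let G : X.Modules := A.inverse.obj (Abelian.image φ)
  let w : A.functor.obj G ≅ Abelian.image φ := A.counitIso.app _
  obtain ⟨j, hj⟩ : ∃ j : G ⟶ E, A.functor.map j = w.hom ≫ Abelian.image.ι φ :=
    A.functor.map_surjective (w.hom ≫ Abelian.image.ι φ)
  haveI : Mono (A.functor.map j) := by rw [hj]; infer_instance
  haveI : Mono j := A.functor.mono_of_mono_map inferInstance
  have hcG : Coh.IsCoh G := coh_twist hN hcI
  have h0 : φ ≫ A.functor.map (cokernel.π j) = 0 := by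
    have h1 : A.functor.map j ≫ A.functor.map (cokernel.π j) = 0 := by
      rw [← Functor.map_comp, cokernel.condition, Functor.map_zero]
    rw [hj, Category.assoc, ← comp_zero (f := w.hom), cancel_epi] at h1
    conv_lhs => arg 1; rw [← Abelian.image.fac φ]
    rw [Category.assoc, h1, comp_zero]
  have hinv : Inv φ j := inv_of_comp_eq_zero hL φ j (by
    show j ≫ φ ≫ A.functor.map (cokernel.π j) = 0
    rw [h0, comp_zero])
  have hK : Inv φ (kernel.ι φ) := inv_kernel hL φ ((tensorRightF L).map φ) φ rfl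
  have h3 := hss (kernel φ) (kernel.ι φ) inferInstance (coh_kernel hcE hcT φ) (fun _ => hK)
  have h4 := hss G j inferInstance hcG (fun _ => hinv)
  obtain ⟨h1, h2⟩ := add_image k hd.le φ hcE hcT
  have h5 : dg k (Abelian.image φ) = dg k G + (rk G : ℤ) * Curv2.deg k X L 1 := by
    rw [← dg_iso k w]
    exact dg_twist k hd hL hcG
  have h6 : rk (Abelian.image φ) = rk G := by
    rw [← rk_iso w]
    exact rk_twist hL G
  have hpos : 0 < rk (Abelian.image φ) := by
    refine Nat.pos_of_ne_zero fun h0 => hne ?_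
    have hI := locFree_of_mono hreg hd.le (Abelian.image.ι φ) hcI hT
    rw [h0] at hI
    rw [← Abelian.image.fac φ, (isZero_of_rank_zero hI).eq_of_src (Abelian.image.ι φ) 0, comp_zero]
  rw [rk_eq hE, h6] at h1
  rw [h5] at h2
  have h1' : (r : ℤ) = rk (kernel φ) + rk G := by exact_mod_cast h1
  have hr0 : (0 : ℤ) < r := by omega
  have hG0 : (0 : ℤ) < rk G := by omega
  have e1 : dg k E * (r : ℤ) = dg k E * (rk (kernel φ) : ℤ) + dg k E * (rk G : ℤ) := by rw [← mul_add, ← h1']
  have e2 : dg k E * (r : ℤ) = dg k (kernel φ) * r + dg k G * r + (rk G : ℤ) * Curv2.deg k X L 1 * r := by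
    rw [h2]; ring
  have : 0 ≤ (rk G : ℤ) * Curv2.deg k X L 1 * r := by linarith
  exact nonneg_of_mul_nonneg_right (nonneg_of_mul_nonneg_left this hr0) hG0

include hreg hd hL in
/-- A semistable pair with twist of degree zero has semistable underlying bundle. -/
theorem bd_of_deg_zero {r : ℕ} (hr : 0 < r) {E : X.Modules} (hE : FlatMod.IsFinLocFreeOfRank r E)
    (φ : E ⟶ CohB1.tensorMod E L) (hL0 : Curv2.deg k X L 1 = 0) {c : ℤ} (hss : PBd k (one E φ) c r) :
    Bd k E c r := by
  have hcE := isCoh_of_rank hE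
  obtain ⟨E₁, i₁, hi₁, hE₁, hpos, hb, hmax⟩ := Groth.L21.Bundle.exists_max_slope k hreg hd.le hr hE
  haveI := hi₁
  have hQ := locFree_cokernel_of_max k hreg hd.le hcE i₁ hE₁ hpos hb
  have hcQ := isCoh_of_rank hQ
  have hlE := locFree_of_mono hreg hd.le i₁ hE₁ hE
  obtain ⟨a1, a2⟩ := add_cokernel k hd.le i₁ hE₁ hcE
  have hb₁ : Bd k E₁ (dg k E₁) (rk E₁) := fun G i hi hG => by
    haveI := hi
    exact hb G (i ≫ i₁) (mono_comp _ _) hG
  have hQb : SBd k (cokernel i₁) (dg k E₁) (rk E₁) := by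
    intro G j hj hG h0
    haveI := hj
    obtain ⟨P, iP, hiP, hP, hrP, hdP⟩ := exists_preimage k hd.le (cokernel.π i₁) j hcE hcQ hG
    have hle := hb P iP hiP hP
    have hne : dg k P * (rk E₁ : ℤ) ≠ dg k E₁ * (rk P : ℤ) := fun he => by
      have := hmax P iP hiP hP (by omega) he
      omega
    have hlt := lt_of_le_of_ne hle hne
    rw [show dg k P = dg k E₁ + dg k G by omega, show rk P = rk E₁ + rk G by omega] at hlt
    push_cast at hlt
    linarith
  have hT := sbd_twist k hd hL hQb
  rw [hL0, mul_zero, add_zero] at hT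
  have h0 := hom_eq_zero_of_sbd k hreg hd.le hlE (locFree_twist hd hreg hL hQ) hb₁ hT
    (i₁ ≫ φ ≫ (tensorRightF L).map (cokernel.π i₁))
  have h5 := hss E₁ i₁ hi₁ hE₁ (fun _ => inv_of_comp_eq_zero hL φ i₁ h0)
  intro G i hi hG
  have h6 := hb G i hi hG
  have hk1 : (0 : ℤ) < rk E₁ := by exact_mod_cast hpos
  refine le_of_mul_le_mul_right ?_ hk1
  nlinarith [mul_le_mul_of_nonneg_right h6 (Int.natCast_nonneg r),
    mul_le_mul_of_nonneg_right h5 (Int.natCast_nonneg (rk G))]

omit [IsIntegral X] [IsLocallyNoetherian X] in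
/-- An invertible module twisted to itself only by a trivial one. -/
theorem nonempty_trivial_of_twist {Q L : X.Modules} (hQ : PicF.IsInvertible Q) (e : CohB1.tensorMod Q L ≅ Q) :
    Nonempty (L ≅ Coh.structureModule X) := by
  obtain ⟨N, hN, ⟨ε⟩⟩ := Groth.L08.Cube.exists_inverse hQ
  let ε' : CohB1.tensorMod N Q ≅ Coh.structureModule X := tensorComm N Q ≪≫ ε
  exact ⟨(Groth.L00.Tensor.tensorUnitLeft L).symm ≪≫ tensorIso ε'.symm (Iso.refl L) ≪≫ tensorAssoc N Q L ≪≫
    tensorIso (Iso.refl N) e ≪≫ ε'⟩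

variable [Smooth (X ↘ Spec (CommRingCat.of k))] (h0 : Groth.L21.RR.h k 0 (Coh.structureModule X) = 1)

include hreg hd hL h0 in
/-- On a curve of genus one a stable pair of rank two with twist of degree zero, not of order dividing two,
has stable underlying bundle. -/
theorem stable_of_genus_one (hg : Curv2.genus k X = 1) (hL0 : Curv2.deg k X L 1 = 0)
    (hL2 : ¬ Nonempty (CohB1.tensorMod L L ≅ Coh.structureModule X))
    {E : X.Modules} (hE : FlatMod.IsFinLocFreeOfRank 2 E) (φ : E ⟶ CohB1.tensorMod E L)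
    (hst : ∀ (G : X.Modules) (j : G ⟶ E), Mono j → FlatMod.IsFinLocFreeOfRank 1 G → Inv φ j →
      dg k G * 2 < dg k E)
    (hss : PBd k (one E φ) (dg k E) 2) :
    ∀ (G : X.Modules) (j : G ⟶ E), Mono j → FlatMod.IsFinLocFreeOfRank 1 G → dg k G * 2 < dg k E := by
  have hcE := isCoh_of_rank hE
  have hbd : Bd k E (dg k E) 2 := bd_of_deg_zero k hreg hd hL (by norm_num) hE φ hL0 hss
  have key : ∀ (G : X.Modules) (j : G ⟶ E) [Mono j], FlatMod.IsFinLocFreeOfRank 1 G → dg k G * 2 = dg k E →
      FlatMod.IsFinLocFreeOfRank 1 (cokernel j) ∧ dg k (cokernel j) = dg k G ∧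
        Nonempty (CohB1.tensorMod (cokernel j) L ≅ G) := by
    intro G j _ hG heq
    have hcG := isCoh_of_rank hG
    have hb : Bd k E (dg k G) (rk G) := fun P i hi hP => by
      have := hbd P i hi hP
      rw [rk_eq hG]
      push_cast
      rw [← heq] at this; push_cast at this; nlinarith
    obtain ⟨a1, a2⟩ := add_cokernel k hd.le j hcG hcE
    rw [rk_eq hE, rk_eq hG] at a1
    have hQ := locFree_cokernel_of_max k hreg hd.le hcE j hcG (by rw [rk_eq hG]; norm_num) hb
    rw [show rk (cokernel j) = 1 by omega] at hQ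
    have hdQ : dg k (cokernel j) = dg k G := by omega
    refine ⟨hQ, hdQ, ?_⟩
    have hW := locFree_twist hd hreg hL hQ
    let f : G ⟶ CohB1.tensorMod (cokernel j) L := j ≫ φ ≫ (tensorRightF L).map (cokernel.π j)
    have hf : f ≠ 0 := fun hf => by
      have := hst G j inferInstance hG (inv_of_comp_eq_zero hL φ j hf)
      omega
    obtain ⟨-, -, hiso⟩ := line_hom_facts k hreg hd.le hG hW f hf
    haveI := hiso (by rw [dg_twist k hd hL (isCoh_of_rank hQ), hL0, mul_zero, add_zero, hdQ])
    exact ⟨(asIso f).symm⟩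
  intro G j hj hG
  haveI := hj
  have hle := hbd G j hj (isCoh_of_rank hG)
  rw [rk_eq hG] at hle
  push_cast at hle
  refine lt_of_le_of_ne (by linarith) fun heq => hL2 ?_
  obtain ⟨hQ, hdQ, ⟨e₁⟩⟩ := key G j hG heq
  have hS := shortExact_cokernel j
  haveI : IsSplitEpi (ShortComplex.mk j (cokernel.π j) (cokernel.condition j)).g := by
    by_contra hns
    obtain ⟨g, hg'⟩ := exists_hom_back k hd h0 hg hS hG hQ hdQ.symm hns
    obtain ⟨-, -, hiso⟩ := line_hom_facts k hreg hd.le hQ hG g hg'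
    haveI := hiso hdQ
    obtain ⟨e⟩ := nonempty_trivial_of_twist (isInvertible_of_rank hQ) (e₁ ≪≫ (asIso g).symm)
    exact hL2 ⟨tensorIso e (Iso.refl L) ≪≫ Groth.L00.Tensor.tensorUnitLeft L ≪≫ e⟩
  let s := ShortComplex.Splitting.ofExactOfSection _ hS.exact (section_ (cokernel.π j)) (IsSplitEpi.id (cokernel.π j)) hj
  haveI : Mono s.s := mono_of_mono_fac s.s_g
  obtain ⟨-, -, ⟨e₂⟩⟩ := key (cokernel j) s.s hQ (by omega)
  let c : cokernel s.s ≅ G :=
    { hom := cokernel.desc s.s s.r s.s_r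
      inv := j ≫ cokernel.π s.s
      hom_inv_id := by
        apply coequalizer.hom_ext
        show cokernel.π s.s ≫ cokernel.desc s.s s.r s.s_r ≫ j ≫ cokernel.π s.s = cokernel.π s.s ≫ 𝟙 _
        rw [cokernel.π_desc_assoc, Category.comp_id]
        have h := congrArg (· ≫ cokernel.π s.s) s.id
        simp only [Preadditive.add_comp, Category.assoc, cokernel.condition, comp_zero, add_zero,
          Category.id_comp] at h
        exact h
      inv_hom_id := by
        rw [Category.assoc, cokernel.π_desc]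
        exact s.f_r }
  -- `Q ⊗ L ≅ G` and `G ⊗ L ≅ Q`
  have e₃ : CohB1.tensorMod G L ≅ cokernel j := tensorIso c.symm (Iso.refl L) ≪≫ e₂
  exact nonempty_trivial_of_twist (isInvertible_of_rank hQ)
    ((tensorAssoc _ L L).symm ≪≫ tensorIso e₁ (Iso.refl L) ≪≫ e₃)

end Groth.L21.Bundle.Higgs
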