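import Groth.Agent.L21.Bundle.Lines
import Groth.Agent.L21.Bundle.Sections
import Groth.Agent.L21.RR.Equality
import Groth.Agent.L03.ShStab.QuadricCoh

/-!
Submodules of free modules without sections are filtered by negative line bundles.
-/

set_option autoImplicit false
set_option backward.isDefEq.respectTransparency false
set_option linter.style.haveILetI false
universe u

open CategoryTheory CategoryTheory.Limits AlgebraicGeometry TopologicalSpace Opposite

noncomputable section

namespace Groth.L21.Bundle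

open Groth.L21.RR (st one oneSec mulC cstAt st_comp st_mulC bijective_smul_one)

variable {X : Scheme.{u}}

/-- A map to the structure module is an epimorphism when surjective at closed points. -/
theorem epi_of_surjective_closed [CompactSpace X] {N : X.Modules} (φ : N ⟶ Coh.structureModule X)
    (h : ∀ x : X, IsClosed ({x} : Set X) → Function.Surjective (st φ x)) : Epi φ := by
  refine (Groth.L21.Mod.epi_iff_stalk_surjective φ).2 fun x => ?_
  obtain ⟨z, hzx, hz⟩ := (isClosed_closure (s := ({x} : Set X))).exists_closed_singleton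
    ⟨x, subset_closure rfl⟩
  obtain ⟨v, hv⟩ := h z hz (one X z)
  obtain ⟨U, hzU, s, rfl⟩ := TopCat.Presheaf.exists_germ_eq N.presheaf v
  rw [Groth.L21.RR.st_germ] at hv
  obtain ⟨W, hzW, i₁, i₂, hW⟩ := (Coh.structureModule X).presheaf.germ_eq z hzU (show z ∈ (⊤ : X.Opens) from trivial) _ _ hv
  have hxW : x ∈ W := (specializes_iff_mem_closure.2 hzx).mem_open W.2 hzW
  intro a
  obtain ⟨b, rfl⟩ := (bijective_smul_one x).2 a
  refine ⟨b • N.presheaf.germ U x (i₁.le hxW) s, ?_⟩
  show st φ x (b • N.presheaf.germ U x (i₁.le hxW) s) = b • one X x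
  rw [map_smul, Groth.L21.RR.st_germ]
  congr 1
  show (Coh.structureModule X).presheaf.germ U x (i₁.le hxW) (φ.app U s) =
    (Coh.structureModule X).presheaf.germ ⊤ x trivial (oneSec X)
  rw [← TopCat.Presheaf.germ_res_apply (Coh.structureModule X).presheaf i₁ x hxW (φ.app U s),
    ← TopCat.Presheaf.germ_res_apply (Coh.structureModule X).presheaf i₂ x hxW (oneSec X), hW]

/-- A stalk map to the local ring which is not surjective lands in the maximal ideal. -/
theorem mem_of_not_surjective {N : X.Modules} (φ : N ⟶ Coh.structureModule X) {x : X}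
    (h : ¬ Function.Surjective (st φ x)) (w : N.presheaf.stalk x) :
    ∃ a ∈ IsLocalRing.maximalIdeal (X.presheaf.stalk x), a • one X x = st φ x w := by
  obtain ⟨a, ha⟩ := (bijective_smul_one x).2 (st φ x w)
  refine ⟨a, (IsLocalRing.mem_maximalIdeal _).2 fun hu => h fun b => ?_, ha⟩
  obtain ⟨c, rfl⟩ := (bijective_smul_one x).2 b
  obtain ⟨u, rfl⟩ := hu
  refine ⟨(c * ↑u⁻¹) • w, ?_⟩
  show st φ x ((c * ↑u⁻¹) • w) = c • one X x
  rw [map_smul, ← ha]
  show (c * ↑u⁻¹) • (u : X.presheaf.stalk x) • one X x = c • one X x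
  rw [smul_smul, mul_assoc, Units.inv_mul, mul_one]

variable [IsIntegral X] (k : Type u) [Field k] [IsAlgClosed k]
  [X.Over (Spec (CommRingCat.of k))] [IsProper (X ↘ Spec (CommRingCat.of k))]
  (hreg : ∀ x : X, IsRegularLocalRing (X.presheaf.stalk x)) (hd : topologicalKrullDim X ≤ 1)

include hreg hd in
/-- A module with a separating family of surjective functionals has a section. -/
theorem exists_section_of_all_epi : ∀ (r : ℕ) (N : X.Modules) (S : Set (N ⟶ Coh.structureModule X)),
    FlatMod.IsFinLocFreeOfRank (r + 1) N →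
    (∀ φ ∈ S, ∀ ψ ∈ S, ∀ c : k, φ - ψ ≫ mulC k c ∈ S) →
    (∀ (Z : X.Modules) (g : Z ⟶ N), (∀ φ ∈ S, g ≫ φ = 0) → g = 0) →
    (∀ φ ∈ S, φ ≠ 0 → Epi φ) → ∃ s : Coh.structureModule X ⟶ N, s ≠ 0
  | r, N, S, hN, hclo, hsep, hepi => by
    haveI := Groth.L21.RR.isNoetherian_of_proper (X := X) k
    have hO : Coh.IsCoh (Coh.structureModule X) := Groth.L16.CohClosedPush.isCoh_structure
    obtain ⟨φ₁, hφ₁, hne⟩ : ∃ φ ∈ S, φ ≠ 0 := by
      by_contra hh
      push Not at hh
      exact not_isZero_of_rank (Nat.succ_pos r) hN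
        ((IsZero.iff_id_eq_zero N).2 (hsep N (𝟙 N) fun φ hφ => by rw [hh φ hφ, comp_zero]))
    haveI := hepi φ₁ hφ₁ hne
    have hcN := isCoh_of_rank hN
    have hcK := coh_kernel hcN hO φ₁
    have hK := locFree_of_mono hreg hd (kernel.ι φ₁) hcK hN
    have hrk := (add_kernel k hd φ₁ hcN hO).1
    rw [rk_eq hN, rk_eq (Groth.L22.CurveDeg.Det.isFinLocFreeOfRank_one_of_isInvertible
      (Groth.L18.Ample.isInvertible_structureModule X))] at hrk
    have hrK : rk (kernel φ₁) = r := by omega
    rcases Nat.eq_zero_or_pos (rk (kernel φ₁)) with h0 | hpos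
    · haveI : Mono φ₁ := Preadditive.mono_of_isZero_kernel φ₁ (isZero_of_rank_zero (h0 ▸ hK))
      haveI : IsIso φ₁ := isIso_of_mono_of_epi φ₁
      refine ⟨inv φ₁, fun h => hne ?_⟩
      rw [← Category.id_comp φ₁, ← IsIso.hom_inv_id φ₁, h, comp_zero, zero_comp]
    obtain ⟨r', hr'⟩ := Nat.exists_eq_succ_of_ne_zero hpos.ne'
    let S' : Set (kernel φ₁ ⟶ Coh.structureModule X) := (fun φ => kernel.ι φ₁ ≫ φ) '' S
    obtain ⟨s, hs⟩ := exists_section_of_all_epi r' (kernel φ₁) S' (by rw [← Nat.succ_eq_add_one, ← hr']; exact hK)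
      (by
        rintro _ ⟨φ, hφ, rfl⟩ _ ⟨ψ, hψ, rfl⟩ c
        exact ⟨φ - ψ ≫ mulC k c, hclo φ hφ ψ hψ c, by
          show kernel.ι φ₁ ≫ (φ - ψ ≫ mulC k c) = kernel.ι φ₁ ≫ φ - (kernel.ι φ₁ ≫ ψ) ≫ mulC k c
          rw [Preadditive.comp_sub, Category.assoc]⟩)
      (fun Z g hg => by
        rw [← cancel_mono (kernel.ι φ₁), zero_comp]
        exact hsep Z _ fun φ hφ => by rw [Category.assoc]; exact hg _ ⟨φ, hφ, rfl⟩)
      (by
        rintro _ ⟨φ, hφ, rfl⟩ hnz
        refine epi_of_surjective_closed _ fun x hx => ?_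
        by_contra hn
        obtain ⟨v, hv⟩ : ∃ v : N.presheaf.stalk x, st φ₁ x v = one X x :=
          ((Groth.L21.Mod.epi_iff_stalk_surjective φ₁).1 inferInstance) x (one X x)
        obtain ⟨a, ha⟩ := (bijective_smul_one x).2 (st φ x v)
        change a • one X x = st φ x v at ha
        obtain ⟨c, hc⟩ := Groth.L21.RR.isRat_of_isClosed k hx a
        let φ' := φ - φ₁ ≫ mulC k c
        have hns : ¬ Function.Surjective (st φ' x) := by
          intro hsurj
          obtain ⟨w, hw⟩ := hsurj (one X x)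
          obtain ⟨b, hb⟩ := (bijective_smul_one x).2 (st φ₁ x w)
          change b • one X x = st φ₁ x w at hb
          have hm := (shortExact_kernel φ₁).map_of_exact (Groth.L00.Stk.F X x)
          have he : LinearMap.range (sm (kernel.ι φ₁) x) = LinearMap.ker (sm φ₁ x) :=
            hm.exact.moduleCat_range_eq_ker
          obtain ⟨u, hu⟩ : w - b • v ∈ LinearMap.range (sm (kernel.ι φ₁) x) := by
            rw [he]
            show st φ₁ x (w - b • v) = 0
            rw [map_sub, map_smul, hv, hb, sub_self]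
          obtain ⟨d, hd', hdu⟩ := mem_of_not_surjective _ hn u
          rw [st_comp, show st (kernel.ι φ₁) x u = w - b • v from hu, map_sub, map_smul, ← ha] at hdu
          have hφw : st φ x w = (d + b * a) • one X x := by
            rw [add_smul, hdu, mul_smul, sub_add_cancel]
          have hsub : st φ' x w = st φ x w - cstAt k x c • st φ₁ x w := by
            haveI : (Groth.L00.Stk.F X x).Additive := DerSch.additive_stalkFunctor x
            rw [← st_mulC k c x, ← st_comp]
            simp only [φ', st, Functor.map_sub]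
            rfl
          rw [hsub, hφw, ← hb, smul_smul, ← sub_smul] at hw
          have h1 : d + b * a - cstAt k x c * b = 1 := (bijective_smul_one x).1 (by
            show (d + b * a - cstAt k x c * b) • one X x = (1 : X.presheaf.stalk x) • one X x
            rw [hw, one_smul])
          have h2 : d + b * (a - cstAt k x c) ∈ IsLocalRing.maximalIdeal (X.presheaf.stalk x) :=
            Ideal.add_mem _ hd' (Ideal.mul_mem_left _ b hc)
          rw [show d + b * (a - cstAt k x c) = d + b * a - cstAt k x c * b by ring, h1] at h2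
          exact (IsLocalRing.maximalIdeal.isMaximal _).ne_top ((Ideal.eq_top_iff_one _).2 h2)
        have h0 : φ' = 0 := by
          by_contra h
          haveI := hepi φ' (hclo φ hφ φ₁ hφ₁ c) h
          exact hns ((Groth.L21.Mod.epi_iff_stalk_surjective φ').1 inferInstance x)
        refine hnz ?_
        show kernel.ι φ₁ ≫ φ = 0
        rw [sub_eq_zero.1 h0, kernel.condition_assoc, zero_comp])
    exact ⟨s ≫ kernel.ι φ₁, fun h => hs (by rw [← cancel_mono (kernel.ι φ₁), h, zero_comp])⟩
  termination_by r => r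
  decreasing_by omega

include hreg hd in
/-- A module without sections inside a free module maps onto a negative line bundle. -/
theorem exists_neg_quotient {r m : ℕ} {N : X.Modules} (hN : FlatMod.IsFinLocFreeOfRank (r + 1) N)
    (ι : N ⟶ ∐ fun _ : Fin m => Coh.structureModule X) [Mono ι]
    (h0 : ∀ s : Coh.structureModule X ⟶ N, s = 0) :
    ∃ (I : X.Modules) (p : N ⟶ I), Epi p ∧ PicF.IsInvertible I ∧ Curv2.deg k X I 1 < 0 := by
  haveI := Groth.L21.RR.isNoetherian_of_proper (X := X) k
  have hO : Coh.IsCoh (Coh.structureModule X) := Groth.L16.CohClosedPush.isCoh_structure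
  have hO1 := Groth.L22.CurveDeg.Det.isFinLocFreeOfRank_one_of_isInvertible
    (Groth.L18.Ample.isInvertible_structureModule X)
  obtain ⟨φ, hne, hnepi⟩ : ∃ φ : N ⟶ Coh.structureModule X, φ ≠ 0 ∧ ¬ Epi φ := by
    by_contra hh
    push Not at hh
    obtain ⟨s, hs⟩ := exists_section_of_all_epi k hreg hd r N
      (Set.range fun p : (∐ fun _ : Fin m => Coh.structureModule X) ⟶ Coh.structureModule X => ι ≫ p) hN
      (by
        rintro _ ⟨p, rfl⟩ _ ⟨q, rfl⟩ c
        exact ⟨p - q ≫ mulC k c, by
          show ι ≫ (p - q ≫ mulC k c) = ι ≫ p - (ι ≫ q) ≫ mulC k c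
          rw [Preadditive.comp_sub, Category.assoc]⟩)
      (fun Z g hg => by
        obtain ⟨pr, hid, -⟩ := Groth.L03.ShStab.QuadricCoh.id_sigma fun _ : Fin m => Coh.structureModule X
        rw [← cancel_mono ι, zero_comp, ← Category.comp_id (g ≫ ι), hid, Preadditive.comp_sum]
        refine Finset.sum_eq_zero fun j _ => ?_
        rw [← Category.assoc, Category.assoc g ι, hg _ ⟨pr j, rfl⟩, zero_comp])
      (fun φ _ h => hh φ h)
    exact hs (h0 s)
  have hcN := isCoh_of_rank hN
  have hcI := coh_image hcN hO φ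
  have hI := locFree_of_mono hreg hd (Abelian.image.ι φ) hcI hO1
  have hle := rk_le_of_mono (Abelian.image.ι φ) hcI hO
  rw [rk_eq hO1] at hle
  have hι : Abelian.image.ι φ ≠ 0 := fun h => hne (by rw [← Abelian.image.fac φ, h, comp_zero])
  obtain h1 : rk (Abelian.image φ) = 1 := by
    rcases Nat.eq_zero_or_pos (rk (Abelian.image φ)) with h | h
    · exact absurd ((isZero_of_rank_zero (h ▸ hI)).eq_of_src _ _) hι
    · omega
  rw [h1] at hI
  obtain ⟨-, hdle, hiso⟩ := line_hom_facts k hreg hd hI hO1 (Abelian.image.ι φ) hι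
  refine ⟨_, Abelian.factorThruImage φ, inferInstance, isInvertible_of_rank hI, ?_⟩
  rw [dg_eq k hI]
  rw [dg_structure k] at hdle hiso
  refine lt_of_le_of_ne hdle fun he => hnepi ?_
  haveI := hiso he
  rw [← Abelian.image.fac φ]
  exact epi_comp _ _

include hreg hd in
/-- The filtration by negative line bundles. -/
theorem exists_neg_filtration : ∀ (r : ℕ) (N : X.Modules), FlatMod.IsFinLocFreeOfRank r N →
    ∀ (m : ℕ) (ι : N ⟶ ∐ fun _ : Fin m => Coh.structureModule X), Mono ι →
    (∀ s : Coh.structureModule X ⟶ N, s = 0) →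
    ∃ (M : Fin (r + 1) → X.Modules) (f : (j : Fin r) → (M j.succ ⟶ M j.castSucc)),
      Nonempty (M 0 ≅ N) ∧ IsZero (M (Fin.last r)) ∧
        ∀ j : Fin r, Mono (f j) ∧ PicF.IsInvertible (cokernel (f j)) ∧ Curv2.deg k X (cokernel (f j)) 1 < 0
  | 0, N, hN, _, _, _, _ =>
    ⟨fun _ => N, fun j => j.elim0, ⟨Iso.refl N⟩, isZero_of_rank_zero hN, fun j => j.elim0⟩
  | r + 1, N, hN, m, ι, hι, h0 => by
    haveI := hι
    haveI := Groth.L21.RR.isNoetherian_of_proper (X := X) k
    obtain ⟨I, p, hp, hI, hneg⟩ := exists_neg_quotient k hreg hd hN ι h0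
    haveI := hp
    have hcN := isCoh_of_rank hN
    have hcI := Groth.L16.ProperFinite.isCoh_of_isInvertible hI
    have hK := locFree_of_mono hreg hd (kernel.ι p) (coh_kernel hcN hcI p) hN
    have hrk := (add_kernel k hd p hcN hcI).1
    rw [rk_eq hN, rk_eq (Groth.L22.CurveDeg.Det.isFinLocFreeOfRank_one_of_isInvertible hI)] at hrk
    rw [show rk (kernel p) = r by omega] at hK
    obtain ⟨M, f, ⟨e⟩, hlast, hf⟩ := exists_neg_filtration r (kernel p) hK m (kernel.ι p ≫ ι) inferInstance
      (fun s => by rw [← cancel_mono (kernel.ι p), zero_comp]; exact h0 _)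
    let M' : Fin (r + 1 + 1) → X.Modules := Fin.cons N M
    let g : (M 0 ⟶ N) := e.hom ≫ kernel.ι p
    let f' : (j : Fin (r + 1)) → (M' j.succ ⟶ M' j.castSucc) :=
      Fin.cases g (fun j => f j)
    refine ⟨M', f', ⟨Iso.refl N⟩, hlast, fun j => ?_⟩
    induction j using Fin.cases with
    | zero =>
      show Mono g ∧ PicF.IsInvertible (cokernel g) ∧ Curv2.deg k X (cokernel g) 1 < 0
      let i : cokernel g ≅ I := cokernelEpiComp e.hom (kernel.ι p) ≪≫
        (cokernelIsCokernel (kernel.ι p)).coconePointUniqueUpToIso (shortExact_kernel p).gIsCokernel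
      exact ⟨inferInstanceAs (Mono (e.hom ≫ kernel.ι p)), Groth.L18.Ample.isInvertible_of_iso i.symm hI,
        by rw [Groth.L21.RR.deg_congr k i]; exact hneg⟩
    | succ j => exact hf j

end Groth.L21.Bundle
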