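import Groth.Agent.L21.Bundle.Twist
import Groth.Agent.L21.Bundle.Lines
import Groth.Agent.L21.Weil.EssFin

/-!
Nilpotent twisted endomorphisms of bundles of rank two.
-/

set_option autoImplicit false
set_option backward.isDefEq.respectTransparency false
set_option linter.style.haveILetI false
universe u

open CategoryTheory CategoryTheory.Limits AlgebraicGeometry

noncomputable section

namespace Groth.L21.Bundle

open Groth.L00.Tensor (tensorRightF)

variable {X : Scheme.{u}} [IsIntegral X] [IsLocallyNoetherian X]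
  (hreg : ∀ x : X, IsRegularLocalRing (X.presheaf.stalk x)) (hd : topologicalKrullDim X ≤ 1)

include hreg hd in
theorem nilpotent_iff {E K : X.Modules} (hE : FlatMod.IsFinLocFreeOfRank 2 E) (hK : PicF.IsInvertible K) :
    (∃ α : E ⟶ CohB1.tensorMod E K, α ≫ (tensorRightF K).map α = 0 ∧ α ≠ 0) ↔
      ∃ (L : X.Modules) (j : L ⟶ E), PicF.IsInvertible L ∧ Mono j ∧ PicF.IsInvertible (cokernel j) ∧
        ∃ β : cokernel j ⟶ CohB1.tensorMod L K, β ≠ 0 := by
  haveI := (Groth.L21.Weil.additive_tensor K).2
  constructor
  · rintro ⟨α, hsq, hα⟩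
    have hEK : ∃ r, FlatMod.IsFinLocFreeOfRank r (CohB1.tensorMod E K) :=
      Groth.L21.Weil.IsBundle.tensor ⟨2, hE⟩ ⟨1, locFree_one hK⟩
    have hcE := isCoh_of_rank hE
    have hcT := coh_twist hK hcE
    let π := cokernel.π (kernel.ι α)
    let ab : cokernel (kernel.ι α) ⟶ CohB1.tensorMod E K := cokernel.desc (kernel.ι α) α (kernel.condition α)
    haveI : Mono ab := inferInstanceAs (Mono (Abelian.factorThruCoimage α))
    have hcK' := coh_kernel hcE hcT α
    have hcC := coh_cokernel hcK' hcE (kernel.ι α)
    have hlK := locFree_of_mono hreg hd (kernel.ι α) hcK' hE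
    obtain ⟨r, hr⟩ := hEK
    have hlC := locFree_of_mono hreg hd ab hcC hr
    have hsum : rk E = rk (kernel α) + rk (cokernel (kernel.ι α)) :=
      rk_add (shortExact_cokernel (kernel.ι α)) hcE
    rw [rk_eq hE] at hsum
    haveI := mono_twist hK ab
    haveI := mono_twist hK (kernel.ι α)
    have h1 : ab ≫ (tensorRightF K).map π = 0 := by
      refine (cancel_epi π).1 ?_
      rw [comp_zero, ← Category.assoc, cokernel.π_desc, ← cancel_mono ((tensorRightF K).map ab), zero_comp,
        Category.assoc, ← Functor.map_comp, cokernel.π_desc]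
      exact hsq
    have hS := Groth.L03.Euler.shortExact_tensor hK (shortExact_cokernel (kernel.ι α))
    obtain ⟨β, hβ⟩ : ∃ β : cokernel (kernel.ι α) ⟶ CohB1.tensorMod (kernel α) K,
        β ≫ (tensorRightF K).map (kernel.ι α) = ab :=
      ⟨_, (KernelFork.IsLimit.lift' hS.fIsKernel ab h1).2⟩
    have hβm : Mono β := by
      suffices h : β ≫ (tensorRightF K).map (kernel.ι α) = ab from mono_of_mono_fac h
      exact hβ
    have hle := rk_le_of_mono β hcC (coh_twist hK hcK')
    rw [rk_twist hK] at hle
    have hpos : 0 < rk (cokernel (kernel.ι α)) := by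
      by_contra h
      rw [show rk (cokernel (kernel.ι α)) = 0 by omega] at hlC
      refine hα ?_
      rw [← cokernel.π_desc (kernel.ι α) α (kernel.condition α), (isZero_of_rank_zero hlC).eq_of_tgt (cokernel.π _) 0,
        zero_comp]
    rw [show rk (kernel α) = 1 by omega] at hlK
    rw [show rk (cokernel (kernel.ι α)) = 1 by omega] at hlC
    refine ⟨kernel α, kernel.ι α, isInvertible_of_rank hlK, inferInstance, isInvertible_of_rank hlC, β, fun h0 => ?_⟩
    exact not_isZero_of_rank Nat.one_pos hlC (IsZero.of_mono_eq_zero β h0)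
  · rintro ⟨L, j, hL, hj, hC, β, hβ⟩
    haveI := hj
    haveI := mono_twist hK j
    refine ⟨cokernel.π j ≫ β ≫ (tensorRightF K).map j, ?_, fun h0 => hβ ?_⟩
    · simp only [Category.assoc, ← Functor.map_comp, cokernel.condition_assoc, zero_comp, Functor.map_zero,
        comp_zero]
    · rw [← cancel_mono ((tensorRightF K).map j), zero_comp, ← cancel_epi (cokernel.π j), comp_zero]
      exact h0

end Groth.L21.Bundle
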