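import Groth.Agent.L21.Bundle.GenusOne

/-!
Normalised bundles: a section, and no sections after any negative twist.
-/

set_option autoImplicit false
set_option backward.isDefEq.respectTransparency false
set_option linter.style.haveILetI false
universe u

open CategoryTheory CategoryTheory.Limits AlgebraicGeometry TopologicalSpace

noncomputable section

namespace Groth.L21.Bundle

open Groth.L21.RR (h e0)
open Groth.L00.Tensor (tensorRightF)

variable {X : Scheme.{u}} [IsIntegral X] [IsLocallyNoetherian X] (k : Type u) [Field k]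
  [X.Over (Spec (CommRingCat.of k))] [IsProper (X ↘ Spec (CommRingCat.of k))]
  (hreg : ∀ x : X, IsRegularLocalRing (X.presheaf.stalk x)) (hd : topologicalKrullDim X = 1)

attribute [local irreducible] dg rk

include hd in
/-- Line subsheaves of a module without sections in negative twists have nonpositive degree. -/
theorem dg_line_nonpos {E : X.Modules}
    (hneg : ∀ M : X.Modules, PicF.IsInvertible M → Curv2.deg k X M 1 < 0 →
      Subsingleton (Coh.HH X (CohB1.tensorMod E M) 0))
    {L : X.Modules} (hL : FlatMod.IsFinLocFreeOfRank 1 L) (i : L ⟶ E) [Mono i] : dg k L ≤ 0 := by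
  by_contra hlt
  obtain ⟨L', hL', ⟨e⟩⟩ := Groth.L08.Cube.exists_inverse (isInvertible_of_rank hL)
  have hs := hneg L' hL' (by rw [deg_inverse k hd (isInvertible_of_rank hL) hL' e, dg_eq k hL]; omega)
  haveI := mono_twist hL' i
  haveI : Mono (e.inv ≫ (tensorRightF L').map i) := mono_comp _ _
  have h1 := Groth.L21.RR.injective_hmap_zero (e.inv ≫ (tensorRightF L').map i)
    (a₁ := (e0 (Coh.structureModule X)).symm (Groth.L21.RR.oneSec X)) (a₂ := 0) (hs.elim _ _)
  have h2 := congrArg (e0 (Coh.structureModule X)) h1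
  rw [AddEquiv.apply_symm_apply, map_zero] at h2
  haveI := isInvertible_of_rank hL
  exact one_ne_zero (α := Γ(X, ⊤)) h2

include k hreg hd in
/-- A module with sections contains the structure sheaf. -/
theorem exists_mono_structure {r : ℕ} {E : X.Modules} (hE : FlatMod.IsFinLocFreeOfRank r E)
    (hn : Nontrivial (Coh.HH X E 0)) :
    ∃ s : Coh.structureModule X ⟶ E, Mono s := by
  haveI := hn
  obtain ⟨φ, hφ⟩ := Groth.L21.RR.exists_hom_ne_zero (L := E)
  have hO := locFree_one (Groth.L18.Ample.isInvertible_structureModule X)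
  have hcO := isCoh_of_rank hO
  have hK := locFree_of_mono hreg hd.le (kernel.ι φ) (coh_kernel hcO (isCoh_of_rank hE) φ) hO
  have hle := rk_le_of_mono (kernel.ι φ) (coh_kernel hcO (isCoh_of_rank hE) φ) hcO
  rw [rk_eq hO] at hle
  rcases Nat.eq_zero_or_pos (rk (kernel φ)) with h1 | h1
  · exact ⟨φ, Preadditive.mono_of_isZero_kernel φ (isZero_of_rank_zero (h1 ▸ hK))⟩
  · exact absurd (eq_zero_of_comp_eq_zero hreg hd.le hE (coh_kernel hcO (isCoh_of_rank hE) φ) hcO (kernel.ι φ)
      (by rw [rk_eq hO]; omega) φ (kernel.condition φ)) hφ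

include k hreg hd in
/-- A rank two bundle which is no sum of two line bundles is indecomposable. -/
theorem indecomposable_of_lines {E : X.Modules} (hE : FlatMod.IsFinLocFreeOfRank 2 E)
    (hind : ∀ L₁ L₂ : X.Modules, PicF.IsInvertible L₁ → PicF.IsInvertible L₂ → IsEmpty (E ≅ L₁ ⊞ L₂))
    (E₁ E₂ : X.Modules) : Nonempty (E ≅ E₁ ⊞ E₂) → IsZero E₁ ∨ IsZero E₂ := by
  rintro ⟨e⟩
  by_contra hne
  push Not at hne
  have hA1 : (biprod.inl ≫ e.inv) ≫ (e.hom ≫ biprod.fst) = 𝟙 E₁ := by simp
  have hB1 : (biprod.inr ≫ e.inv) ≫ (e.hom ≫ biprod.snd) = 𝟙 E₂ := by simp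
  have hcE := isCoh_of_rank hE
  have hcA := coh_retract hcE _ _ hA1
  have hcB := coh_retract hcE _ _ hB1
  haveI : Mono (biprod.inl ≫ e.inv) := mono_comp _ _
  haveI : Mono (biprod.inr ≫ e.inv) := mono_comp _ _
  have hA' := locFree_of_mono hreg hd.le (biprod.inl ≫ e.inv) hcA hE
  have hB' := locFree_of_mono hreg hd.le (biprod.inr ≫ e.inv) hcB hE
  have hT : (ShortComplex.mk (biprod.inl ≫ e.inv) (e.hom ≫ biprod.snd) (by simp)).ShortExact :=
    ShortComplex.Splitting.shortExact
      { r := e.hom ≫ biprod.fst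
        s := biprod.inr ≫ e.inv
        id := by
          simp only [Category.assoc]
          rw [← Category.assoc biprod.fst, ← Category.assoc biprod.snd, ← Preadditive.comp_add,
            ← Preadditive.add_comp, biprod.total, Category.id_comp, e.hom_inv_id] }
  have hr : rk E = rk E₁ + rk E₂ := rk_add hT hcE
  rw [rk_eq hE] at hr
  have ha : rk E₁ ≠ 0 := fun h0 => hne.1 (isZero_of_rank_zero (h0 ▸ hA'))
  have hb : rk E₂ ≠ 0 := fun h0 => hne.2 (isZero_of_rank_zero (h0 ▸ hB'))
  rw [show rk E₁ = 1 by omega] at hA'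
  rw [show rk E₂ = 1 by omega] at hB'
  exact (hind _ _ (isInvertible_of_rank hA') (isInvertible_of_rank hB')).false e

include hreg hd in
/-- Degree bounds for normalised indecomposable bundles of rank two. -/
theorem normalized_bounds [IsAlgClosed k] {E : X.Modules} (hE : FlatMod.IsFinLocFreeOfRank 2 E)
    (hn : Nontrivial (Coh.HH X E 0))
    (hneg : ∀ M : X.Modules, PicF.IsInvertible M → Curv2.deg k X M 1 < 0 →
      Subsingleton (Coh.HH X (CohB1.tensorMod E M) 0))
    (hind : ∀ L₁ L₂ : X.Modules, PicF.IsInvertible L₁ → PicF.IsInvertible L₂ → IsEmpty (E ≅ L₁ ⊞ L₂)) :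
    2 - 2 * (Curv2.genus k X : ℤ) ≤ dg k E ∧ dg k E ≤ 2 * (Curv2.genus k X : ℤ) ∧
      (Curv2.genus k X = 1 → dg k E ≠ 2) := by
  haveI := Groth.L21.RR.isNoetherian_of_proper (X := X) k
  haveI : Smooth (X ↘ Spec (CommRingCat.of k)) :=
    Groth.L26.Weil.smooth_of_regular_closed _ fun x _ => hreg x
  have h0 : h k 0 (Coh.structureModule X) = 1 := Groth.L21.RR.h0_eq_one_of_isAlgClosed k
  obtain ⟨s, hs⟩ := exists_mono_structure k hreg hd hE hn
  haveI := hs
  have h1 := two_mul_dg_le k hd h0 hE (indecomposable_of_lines k hreg hd hE hind) s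
    (locFree_one (Groth.L18.Ample.isInvertible_structureModule X))
  rw [dg_structure] at h1
  refine ⟨by omega, ?_, fun hg he => ?_⟩
  · obtain ⟨L, hL, hdL⟩ := exists_invertible_deg (X := X) k hd ((dg k E - 2 * (Curv2.genus k X : ℤ) + 1) / 2)
    have hL1 := locFree_one hL
    rw [dg_eq k hL1] at hdL
    obtain ⟨φ, hφ⟩ := exists_hom_ne_zero k hd h0 hE hL1 (by push_cast; omega)
    haveI := mono_of_line k hd hL1 hE φ hφ
    have := dg_line_nonpos k hd hneg hL1 φ
    omega
  · have hχ := euler_bundle k hd h0 hE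
    rw [Groth.L21.RR.euler_eq k hd.le, he, hg] at hχ
    push_cast at hχ
    obtain ⟨L, i, hi, hL, hdL⟩ := exists_line_dg_pos k hreg hd h0 hE (by omega) (by omega)
    haveI := hi
    have := dg_line_nonpos k hd hneg hL i
    omega

end Groth.L21.Bundle
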