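import Groth.Agent.L21.Bundle.Normalized
import Groth.Agent.L16.Rees.Consequences

/-!
Self-extensions of the structure sheaf of a genus one curve.
-/

set_option autoImplicit false
set_option backward.isDefEq.respectTransparency false
set_option linter.style.haveILetI false
set_option linter.unusedSectionVars false
universe u

open CategoryTheory CategoryTheory.Limits AlgebraicGeometry TopologicalSpace

noncomputable section

namespace Groth.L21.Bundle

open Groth.L21.RR (h e0)
open Groth.L16.CohLinear (hmap delta exact_hmap_delta exact_hmap_hmap)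
open Groth.L18.GenLoc (secOf homOfSection_secOf secOf_homOfSection)

section General

variable {X : Scheme.{u}}

/-- A section of the last term with vanishing obstruction lifts. -/
theorem exists_lift_of_delta_eq_zero {S : ShortComplex X.Modules} (hS : S.ShortExact)
    (σ : Coh.structureModule X ⟶ S.X₃) (h : delta hS 0 ((e0 _).symm (secOf σ)) = 0) :
    ∃ τ : Coh.structureModule X ⟶ S.X₂, τ ≫ S.g = σ := by
  obtain ⟨y, hy⟩ := (exact_hmap_delta hS 0 ((e0 _).symm (secOf σ))).1 h
  refine ⟨Groth.L16.homOfSection S.X₂ (e0 S.X₂ y), ?_⟩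
  refine (homOfSection_secOf _).symm.trans ((congrArg (Groth.L16.homOfSection S.X₃) ?_).trans
    (homOfSection_secOf σ))
  show S.g.app ⊤ (secOf (Groth.L16.homOfSection S.X₂ (e0 S.X₂ y))) = secOf σ
  rw [secOf_homOfSection, ← Groth.L21.RR.e0_hmap]
  exact (congrArg (e0 S.X₃) hy).trans ((e0 _).apply_symm_apply _)

end General

variable {X : Scheme.{u}} [IsIntegral X] [IsLocallyNoetherian X] (k : Type u) [Field k]
  [X.Over (Spec (CommRingCat.of k))] [IsProper (X ↘ Spec (CommRingCat.of k))]
  (hreg : ∀ x : X, IsRegularLocalRing (X.presheaf.stalk x)) (hd : topologicalKrullDim X = 1)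

include hreg hd in
/-- Nonsplit self-extensions of the structure sheaf are isomorphic when `h¹(O) = 1`. -/
theorem nonempty_iso_selfExt (hh1 : h k 1 (Coh.structureModule X) = 1) {E E' : X.Modules}
    (i : Coh.structureModule X ⟶ E) (q : E ⟶ Coh.structureModule X) (w : i ≫ q = 0)
    (hS : (ShortComplex.mk i q w).ShortExact)
    (i' : Coh.structureModule X ⟶ E') (q' : E' ⟶ Coh.structureModule X) (w' : i' ≫ q' = 0)
    (hS' : (ShortComplex.mk i' q' w').ShortExact)
    (hns : ¬ IsSplitEpi q) (hns' : ¬ IsSplitEpi q') : Nonempty (E ≅ E') := by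
  let O := Coh.structureModule X
  haveI : Mono i := hS.mono_f
  haveI : Mono i' := hS'.mono_f
  haveI : Epi q := hS.epi_g
  haveI : Epi q' := hS'.epi_g
  let one0 : Coh.HH X O 0 := (e0 O).symm (secOf (𝟙 O))
  have hδ' : delta hS' 0 one0 ≠ 0 := fun h0 => by
    obtain ⟨τ, hτ⟩ := exists_lift_of_delta_eq_zero hS' (𝟙 _) h0
    exact hns' (IsSplitEpi.mk' ⟨τ, hτ⟩)
  obtain ⟨c, hc⟩ := (finrank_eq_one_iff_of_nonzero' (K := k) (delta hS' 0 one0) hδ').1 hh1 (delta hS 0 one0)
  have hkill : hmap i' 1 (delta hS' 0 one0) = 0 := by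
    exact ((Groth.L16.CohLinear.exact_delta_hmap hS' 0) _).2 ⟨_, rfl⟩
  have hc0 : hmap i' 1 (delta hS 0 one0) = 0 := by
    rw [← hc]
    show hmap i' 1 ((Coh.toGlobal (X ↘ Spec (CommRingCat.of k)) c) • delta hS' 0 one0) = 0
    rw [map_smul, hkill, smul_zero]
  -- the push-out
  let P := pushout i i'
  haveI : Mono (pushout.inr i i') := inferInstance
  let gP : P ⟶ O := pushout.desc q 0 (by rw [w, comp_zero])
  have hgl : pushout.inl i i' ≫ gP = q := pushout.inl_desc _ _ _
  have hgr : pushout.inr i i' ≫ gP = 0 := pushout.inr_desc _ _ _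
  haveI : Epi gP := epi_of_epi_fac hgl
  let T := ShortComplex.mk (pushout.inr i i') gP hgr
  have hexact : T.Exact := by
    refine T.exact_of_g_is_cokernel ?_
    have hkey : ∀ (Z : X.Modules) (h : P ⟶ Z), pushout.inr i i' ≫ h = 0 → i ≫ pushout.inl i i' ≫ h = 0 :=
      fun Z h hh => by rw [← Category.assoc, pushout.condition, Category.assoc, hh, comp_zero]
    exact CokernelCofork.IsColimit.ofπ gP hgr
      (fun {Z} h hh => (hS.gIsCokernel).desc (CokernelCofork.ofπ (pushout.inl i i' ≫ h) (hkey Z h hh)))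
      (fun {Z} h hh => by
        have hf := hS.gIsCokernel.fac (CokernelCofork.ofπ (pushout.inl i i' ≫ h) (hkey Z h hh)) WalkingParallelPair.one
        apply pushout.hom_ext
        · rw [← Category.assoc, hgl]; exact hf
        · rw [← Category.assoc, hgr, zero_comp, hh])
      (fun {Z} h hh m hm => by
        have hf := hS.gIsCokernel.fac (CokernelCofork.ofπ (pushout.inl i i' ≫ h) (hkey Z h hh)) WalkingParallelPair.one
        rw [← cancel_epi q]
        refine Eq.trans ?_ hf.symm
        show q ≫ m = pushout.inl i i' ≫ h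
        rw [← hgl, Category.assoc, hm])
  have hT : T.ShortExact := ⟨hexact⟩
  let τS : ShortComplex.mk i q w ⟶ T :=
    { τ₁ := i'
      τ₂ := pushout.inl i i'
      τ₃ := 𝟙 _
      comm₁₂ := pushout.condition.symm
      comm₂₃ := hgl.trans (Category.comp_id q).symm }
  have hnat := Groth.L16.Rees.delta_naturality hS hT τS one0
  have hone : hmap τS.τ₃ 0 one0 = one0 := by
    apply (e0 O).injective
    rw [Groth.L21.RR.e0_hmap]
    rfl
  rw [hone] at hnat
  obtain ⟨τ, hτ⟩ := exists_lift_of_delta_eq_zero hT (𝟙 _) (hnat.trans hc0)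
  let σ := ShortComplex.Splitting.ofExactOfSection T hT.exact τ hτ hT.mono_f
  have hr : pushout.inr i i' ≫ σ.r = 𝟙 E' := σ.f_r
  let φ : E ⟶ E' := pushout.inl i i' ≫ σ.r
  have hφ : i ≫ φ = i' := by
    rw [← Category.assoc, pushout.condition, Category.assoc, hr, Category.comp_id]
  let b := hS.gIsCokernel.desc (CokernelCofork.ofπ (φ ≫ q') (by
    show i ≫ φ ≫ q' = 0
    rw [← Category.assoc, hφ, w']))
  have hb : q ≫ b = φ ≫ q' := hS.gIsCokernel.fac _ WalkingParallelPair.one
  have hO := locFree_one (Groth.L18.Ample.isInvertible_structureModule X)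
  by_cases hb0 : b = 0
  · exfalso
    let ψ := hS'.fIsKernel.lift (KernelFork.ofι φ (show φ ≫ q' = 0 by rw [← hb, hb0, comp_zero]))
    have hψ : ψ ≫ i' = φ := hS'.fIsKernel.fac _ WalkingParallelPair.zero
    have hiψ : i ≫ ψ = 𝟙 O := by rw [← cancel_mono i', Category.assoc, hψ, hφ, Category.id_comp]
    exact hns (isSplitEpi_of_retraction hS ψ hiψ)
  · haveI hbi : IsIso b := (line_hom_facts k hreg hd.le hO hO b hb0).2.2 rfl
    let Φ : ShortComplex.mk i q w ⟶ ShortComplex.mk i' q' w' :=
      { τ₁ := 𝟙 _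
        τ₂ := φ
        τ₃ := b
        comm₁₂ := (Category.id_comp _).trans hφ.symm
        comm₂₃ := hb.symm }
    haveI := ShortComplex.isIso₂_of_shortExact_of_isIso₁₃' Φ hS hS' (inferInstanceAs (IsIso (𝟙 O))) hbi
    exact ⟨asIso Φ.τ₂⟩

include hreg hd in
/-- A normalised indecomposable bundle of rank two and degree zero in genus one is an extension of `O` by `O`. -/
theorem exists_selfExt [Smooth (X ↘ Spec (CommRingCat.of k))] (h0 : h k 0 (Coh.structureModule X) = 1)
    (hg : Curv2.genus k X = 1) {E : X.Modules} (hE : FlatMod.IsFinLocFreeOfRank 2 E)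
    (hn : Nontrivial (Coh.HH X E 0))
    (hneg : ∀ M : X.Modules, PicF.IsInvertible M → Curv2.deg k X M 1 < 0 →
      Subsingleton (Coh.HH X (CohB1.tensorMod E M) 0))
    (hind : ∀ L₁ L₂ : X.Modules, PicF.IsInvertible L₁ → PicF.IsInvertible L₂ → IsEmpty (E ≅ L₁ ⊞ L₂))
    (hdeg : Curv2.deg k X E 2 = 0) :
    ∃ (i : Coh.structureModule X ⟶ E) (q : E ⟶ Coh.structureModule X) (w : i ≫ q = 0),
      (ShortComplex.mk i q w).ShortExact ∧ ¬ IsSplitEpi q := by
  have hind' := indecomposable_of_lines k hreg hd hE hind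
  have hdE : dg k E = 0 := by rw [← dg_eq k hE, hdeg]
  obtain ⟨s, hs⟩ := exists_mono_structure k hreg hd hE hn
  haveI := hs
  have hO := locFree_one (Groth.L18.Ample.isInvertible_structureModule X)
  have hcE := isCoh_of_rank hE
  have hcO := isCoh_of_rank hO
  obtain ⟨hr, hdd⟩ := add_cokernel k hd.le s hcO hcE
  rw [rk_eq hE, rk_eq hO] at hr
  obtain ⟨Q, p, hp, hcK, hK0, hQ⟩ := exists_locFree_quotient hreg hd.le (coh_cokernel hcO hcE s)
  rw [show rk (cokernel s) = 1 by omega] at hQ
  haveI := hp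
  let π := cokernel.π s ≫ p
  haveI : Epi π := epi_comp _ _
  have hcL := coh_kernel hcE (isCoh_of_rank hQ) π
  obtain ⟨hr', hd'⟩ := add_kernel k hd.le π hcE (isCoh_of_rank hQ)
  rw [rk_eq hE, rk_eq hQ] at hr'
  have hL := locFree_of_mono hreg hd.le (kernel.ι π) hcL hE
  rw [show rk (kernel π) = 1 by omega] at hL
  let a := kernel.lift π s (by rw [← Category.assoc, cokernel.condition, zero_comp])
  have has : a ≫ kernel.ι π = s := kernel.lift_ι _ _ _
  haveI : Mono a := mono_of_mono_fac has
  have h1 := (dg_le_of_mono hd.le k a hcO hcL (by rw [rk_eq hO, rk_eq hL])).1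
  rw [dg_structure] at h1
  have h2 := dg_line_nonpos k hd hneg hL (kernel.ι π)
  haveI : IsIso a := (dg_le_of_mono hd.le k a hcO hcL (by rw [rk_eq hO, rk_eq hL])).2 (by rw [dg_structure]; omega)
  have hK := shortExact_kernel π
  have hns : ¬ IsSplitEpi π := fun hsp => by
    haveI := hsp
    let σ := ShortComplex.Splitting.ofExactOfSection _ hK.exact (section_ π) (IsSplitEpi.id _) hK.mono_f
    rcases hind' _ _ ⟨σ.isoBinaryBiproduct⟩ with hz | hz
    · exact not_isZero_of_rank Nat.one_pos hL hz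
    · exact not_isZero_of_rank Nat.one_pos hQ hz
  have hdL : dg k (kernel π) = 0 := by omega
  have hdQ : dg k Q = 0 := by omega
  obtain ⟨g, hg'⟩ := exists_hom_back k hd h0 hg hK hL hQ (hdL.trans hdQ.symm) hns
  haveI := (line_hom_facts k hreg hd.le hQ hL g hg').2.2 (hdQ.trans hdL.symm)
  let u : Q ≅ Coh.structureModule X := asIso g ≪≫ (asIso a).symm
  refine ⟨s, π ≫ u.hom, by rw [← Category.assoc, show s ≫ π = 0 by rw [← Category.assoc, cokernel.condition, zero_comp], zero_comp], ?_, fun hsp => ?_⟩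
  · refine ShortComplex.shortExact_of_iso (S₁ := ShortComplex.mk (kernel.ι π) π (kernel.condition π)) (ShortComplex.isoMk (asIso a).symm (Iso.refl _) u ?_ ?_) hK
    · show inv a ≫ s = kernel.ι π ≫ 𝟙 _
      rw [Category.comp_id, IsIso.inv_comp_eq, has]
    · exact Category.id_comp _
  · haveI := hsp
    exact hns (IsSplitEpi.mk' ⟨u.hom ≫ section_ (π ≫ u.hom), by
      rw [← cancel_mono u.hom, Category.assoc, Category.assoc, IsSplitEpi.id, Category.comp_id, Category.id_comp]⟩)

end Groth.L21.Bundle
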