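import Groth.Agent.L21.Bundle.GenusOne
import Groth.Agent.L21.Bundle.GenusOneExist
import Groth.Agent.L21.Bundle.Stable
import Groth.Agent.L21.Bundle.DualityApps
import Groth.Agent.L21.Weil.Closed
import Groth.Agent.L26.Pic0.EulerPull

/-!
On a curve of genus one the rank and degree of a stable bundle are coprime.
-/

set_option autoImplicit false
set_option backward.isDefEq.respectTransparency false
set_option linter.style.haveILetI false
universe u

open CategoryTheory CategoryTheory.Limits AlgebraicGeometry TopologicalSpace IsLocalRing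

noncomputable section

namespace Groth.L21.Bundle

open Groth.L21.RR (h hk e0 e0_hmap e0_smul st st_germ st_comp one oneSec)
open Groth.L17.ChangeRings
open Groth.L00.Tensor (tensorRightF tensorComm tensorAssoc tensorIso tensorUnitRight)

variable {X : Scheme.{u}} [IsIntegral X] [IsLocallyNoetherian X] (k : Type u) [Field k]
  [X.Over (Spec (CommRingCat.of k))] [IsProper (X ↘ Spec (CommRingCat.of k))]

attribute [local irreducible] dg rk

/-- Vectors in a free module of the same rank either span or have a combination vanishing in the fibre. -/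
theorem exists_comb_mem_smul_fin {n : ℕ} {R : Type u} [CommRing R] [IsLocalRing R] {M : Type u} [AddCommGroup M]
    [Module R M] (θ : (Fin n → R) ≃ₗ[R] M) (v : Fin n → M) (hv : ¬ Function.Surjective (Fintype.linearCombination R v)) :
    ∃ c : Fin n → R, (∃ i, IsUnit (c i)) ∧ ∑ i, c i • v i ∈ maximalIdeal R • (⊤ : Submodule R M) := by
  let w : Fin n → (Fin n → R) := fun i => θ.symm (v i)
  let A : Matrix (Fin n) (Fin n) R := Matrix.of fun j i => w i j
  have hlc : ∀ c, Fintype.linearCombination R v c = θ (A.mulVec c) := fun c => by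
    apply θ.symm.injective
    rw [LinearEquiv.symm_apply_apply, Fintype.linearCombination_apply, map_sum]
    funext j
    simp [A, w, Matrix.mulVec, dotProduct, mul_comm]
  have hdet : ¬ IsUnit A.det := fun hu => hv fun m => by
    obtain ⟨c, hc⟩ := (Matrix.mulVec_surjective_iff_isUnit.2 ((Matrix.isUnit_iff_isUnit_det A).2 hu)) (θ.symm m)
    exact ⟨c, by rw [hlc, hc, LinearEquiv.apply_symm_apply]⟩
  let Ab := A.map (residue R)
  have hb : Ab.det = 0 := by
    rw [show Ab = (residue R).mapMatrix A from rfl, ← RingHom.map_det]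
    exact residue_eq_zero_iff _ |>.2 (mem_nonunits_iff.2 hdet)
  obtain ⟨cb, hcb, hAb⟩ := Matrix.exists_mulVec_eq_zero_iff.2 hb
  choose c hc using fun i => IsLocalRing.residue_surjective (cb i)
  obtain ⟨i, hi⟩ := Function.ne_iff.1 hcb
  refine ⟨c, ⟨i, notMem_maximalIdeal.1 fun hm => hi ((hc i).symm.trans ((residue_eq_zero_iff _).2 hm))⟩, ?_⟩
  rw [← Fintype.linearCombination_apply, hlc, ← Finset.univ_sum_single (A.mulVec c), map_sum]
  refine Submodule.sum_mem _ fun j _ => ?_
  have hmem : A.mulVec c j ∈ maximalIdeal R := by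
    rw [← residue_eq_zero_iff]
    have h1 := RingHom.map_mulVec (residue R) A c j
    rw [h1, show (residue R) ∘ c = cb from funext hc]
    exact congrFun hAb j
  rw [show Pi.single j (A.mulVec c j) = A.mulVec c j • (Pi.single j (1 : R) : Fin n → R) by simp [← Pi.single_smul],
    map_smul]
  exact Submodule.smul_mem_smul hmem Submodule.mem_top

variable (hreg : ∀ x : X, IsRegularLocalRing (X.presheaf.stalk x)) (hd : topologicalKrullDim X = 1)

include hreg hd in
/-- A section vanishing in a fibre produces a line subsheaf of positive degree. -/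
theorem exists_line_dg_pos_of_vanishing {n : ℕ} {E : X.Modules} (hE : FlatMod.IsFinLocFreeOfRank n E)
    {P : X} (z : Coh.HH X E 0) (hz0 : z ≠ 0)
    (hz : E.presheaf.germ ⊤ P trivial (e0 E z) ∈
      maximalIdeal (X.presheaf.stalk P) • (⊤ : Submodule (X.presheaf.stalk P) (E.presheaf.stalk P))) :
    ∃ (L : X.Modules) (i : L ⟶ E), Mono i ∧ FlatMod.IsFinLocFreeOfRank 1 L ∧ 1 ≤ dg k L := by
  have hcE := isCoh_of_rank hE
  have hO := locFree_one (Groth.L18.Ample.isInvertible_structureModule X)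
  have hcO := isCoh_of_rank hO
  -- saturate the section
  let s := Groth.L16.homOfSection E (e0 E z)
  have hs1 : s.app ⊤ (oneSec X) = e0 E z := Groth.L21.RR.app_homOfSection_one _
  have hs : s ≠ 0 := fun h => hz0 ((e0 E).injective (by rw [map_zero, ← hs1, h]; rfl))
  haveI : Mono s := by
    obtain ⟨-, hi⟩ := add_image k hd.le s hcO hcE
    have hK' := locFree_of_mono hreg hd.le (kernel.ι s) (coh_kernel hcO hcE s) hO
    have hle := rk_le_of_mono (kernel.ι s) (coh_kernel hcO hcE s) hcO
    rw [rk_eq hO] at hle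
    rcases Nat.eq_zero_or_pos (rk (kernel s)) with h9 | h9
    · exact Preadditive.mono_of_isZero_kernel s (isZero_of_rank_zero (h9 ▸ hK'))
    · exact absurd (eq_zero_of_comp_eq_zero hreg hd.le hE (coh_kernel hcO hcE s) hcO (kernel.ι s)
        (by rw [rk_eq hO]; omega) s (kernel.condition s)) hs
  obtain ⟨hr3, hd3⟩ := add_cokernel k hd.le s hcO hcE
  rw [rk_eq hO, rk_eq hE] at hr3
  obtain ⟨Q, p, hp, hcK, hK0, hQ⟩ := exists_locFree_quotient hreg hd.le (coh_cokernel hcO hcE s)
  haveI := hp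
  have hdQ := (dg_quotient_le hd.le k p (coh_cokernel hcO hcE s) (isCoh_of_rank hQ) hcK hK0).1
  haveI : Epi (cokernel.π s ≫ p) := epi_comp _ _
  have hcL := coh_kernel hcE (isCoh_of_rank hQ) (cokernel.π s ≫ p)
  obtain ⟨hr4, hd4⟩ := add_kernel k hd.le (cokernel.π s ≫ p) hcE (isCoh_of_rank hQ)
  rw [rk_eq hE, rk_eq hQ] at hr4
  have hL := locFree_of_mono hreg hd.le (kernel.ι (cokernel.π s ≫ p)) hcL hE
  rw [show rk (kernel (cokernel.π s ≫ p)) = 1 by omega] at hL
  refine ⟨_, kernel.ι (cokernel.π s ≫ p), inferInstance, hL, ?_⟩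
  rw [dg_structure] at hd3
  by_contra hle
  let l := kernel.lift (cokernel.π s ≫ p) s (by rw [← Category.assoc, cokernel.condition, zero_comp])
  haveI : Mono l := mono_of_mono_fac (kernel.lift_ι _ _ _)
  haveI : IsIso l := (dg_le_of_mono hd.le k l hcO hcL (by rw [rk_eq hO, rk_eq hL])).2 (by rw [dg_structure]; omega)
  -- the stalk of the quotient is free, so the section cannot vanish in the fibre
  have hm := (shortExact_kernel (cokernel.π s ≫ p)).map_of_exact (Groth.L00.Stk.F X P)
  obtain ⟨θQ⟩ := Groth.L22.CurveDeg.nonempty_stalk_equiv hQ P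
  haveI := Module.Free.of_equiv θQ
  obtain ⟨σ, hσ⟩ := Module.projective_lifting_property (st (cokernel.π s ≫ p) P) LinearMap.id
    ((ModuleCat.epi_iff_surjective _).1 hm.epi_g)
  have hinj : Function.Injective (st s P) := by
    have : Mono ((Groth.L00.Stk.F X P).map s) := inferInstance
    exact (ModuleCat.mono_iff_injective _).1 this
  let ι' := st (kernel.ι (cokernel.π s ≫ p)) P
  have hι : Function.Injective ι' := (ModuleCat.mono_iff_injective _).1 hm.mono_f
  have hex : LinearMap.range ι' = LinearMap.ker (st (cokernel.π s ≫ p) P) := hm.exact.moduleCat_range_eq_ker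
  let π' : E.presheaf.stalk P →ₗ[X.presheaf.stalk P] LinearMap.range ι' :=
    LinearMap.codRestrict _ (LinearMap.id - σ.comp (st (cokernel.π s ≫ p) P)) fun w => hex ▸ by
      rw [LinearMap.mem_ker, LinearMap.sub_apply, map_sub, LinearMap.id_apply, LinearMap.comp_apply, sub_eq_zero]
      exact (LinearMap.congr_fun hσ _).symm
  let ρ := ((LinearEquiv.ofInjective ι' hι).symm.toLinearMap).comp π'
  have hρ : ρ (st s P (one X P)) = st l P (one X P) := by
    apply (LinearEquiv.ofInjective ι' hι).injective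
    simp only [ρ, LinearMap.comp_apply, LinearEquiv.coe_coe, LinearEquiv.apply_symm_apply]
    refine Subtype.ext ?_
    show st s P _ - σ (st (cokernel.π s ≫ p) P (st s P _)) = ι' (st l P _)
    rw [← st_comp, ← Category.assoc, cokernel.condition, zero_comp, ← st_comp, kernel.lift_ι]
    rw [show st (0 : Coh.structureModule X ⟶ Q) P (one X P) = 0 by simp [st]; rfl, map_zero, sub_zero]
  have hsP : st s P (one X P) = E.presheaf.germ ⊤ P trivial (e0 E z) := by
    rw [← hs1]
    exact st_germ s _ _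
  have hmem : st l P (one X P) ∈ maximalIdeal (X.presheaf.stalk P) •
      (⊤ : Submodule (X.presheaf.stalk P) ((kernel (cokernel.π s ≫ p)).presheaf.stalk P)) := by
    rw [← hρ, hsP]
    have := Submodule.mem_map_of_mem (f := ρ) hz
    rw [Submodule.map_smul''] at this
    exact Submodule.smul_mono le_rfl le_top this
  have hmem' := Submodule.mem_map_of_mem (f := st (inv l) P) hmem
  rw [Submodule.map_smul'', ← st_comp, IsIso.hom_inv_id] at hmem'
  have hone : one X P ∈ maximalIdeal (X.presheaf.stalk P) •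
      (⊤ : Submodule (X.presheaf.stalk P) ((Coh.structureModule X).presheaf.stalk P)) := by
    refine Submodule.smul_mono le_rfl (le_top : Submodule.map (st (inv l) P) ⊤ ≤ ⊤) ?_
    simpa [st] using hmem'
  have key : ∀ w ∈ maximalIdeal (X.presheaf.stalk P) •
      (⊤ : Submodule (X.presheaf.stalk P) ((Coh.structureModule X).presheaf.stalk P)),
      ∃ r ∈ maximalIdeal (X.presheaf.stalk P), r • one X P = w := fun w hw => by
    refine Submodule.smul_induction_on hw (fun r hr w _ => ?_) (fun w w' ⟨r, hr, e⟩ ⟨r', hr', e'⟩ => ?_)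
    · obtain ⟨t, rfl⟩ := (Groth.L21.RR.bijective_smul_one P).2 w
      exact ⟨r * t, Ideal.mul_mem_right _ _ hr, mul_smul _ _ _⟩
    · exact ⟨r + r', Ideal.add_mem _ hr hr', by rw [add_smul, e, e']⟩
  obtain ⟨r, hr⟩ := key _ hone
  have hr1 : r = 1 := (Groth.L21.RR.bijective_smul_one P).1 (show r • one X P = (1 : X.presheaf.stalk P) • one X P by
    rw [hr.2, one_smul])
  exact (maximalIdeal.isMaximal _).ne_top ((Ideal.eq_top_iff_one _).2 (hr1 ▸ hr.1))

include hreg hd in
/-- As many independent sections as the rank, in positive degree, produce a line subsheaf of positive degree. -/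
theorem exists_line_dg_pos_fin [IsAlgClosed k] {n : ℕ} {E : X.Modules} (hE : FlatMod.IsFinLocFreeOfRank n E)
    (hdeg : 0 < dg k E) (hn : n ≤ h k 0 E) :
    ∃ (L : X.Modules) (i : L ⟶ E), Mono i ∧ FlatMod.IsFinLocFreeOfRank 1 L ∧ 1 ≤ dg k L := by
  haveI := Groth.L21.RR.isNoetherian_of_proper (X := X) k
  have hcE := isCoh_of_rank hE
  haveI := Groth.L21.RR.finite_HH' k hcE 0
  obtain ⟨x, hxlin⟩ := exists_linearIndependent_of_le_finrank (R := k) (M := Coh.HH X E 0) hn
  let φ : Fin n → (Coh.structureModule X ⟶ E) := fun i => Groth.L16.homOfSection E (e0 E (x i))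
  have hφ : ∀ i, (φ i).app ⊤ (oneSec X) = e0 E (x i) := fun i => Groth.L21.RR.app_homOfSection_one _
  let q : FlatMod.freeMod X n ⟶ E := Sigma.desc φ
  have hF : FlatMod.IsFinLocFreeOfRank n (FlatMod.freeMod X n) := fun _ =>
    ⟨⊤, trivial, ⟨(Scheme.Modules.restrictFunctorIsoPullback (⊤ : X.Opens).ι).app _ ≪≫
      Groth.L29.LocFree.pullbackFreeIso _ n⟩⟩
  have hcF := isCoh_of_rank hF
  have hdF : dg k (FlatMod.freeMod X n) = 0 := by
    rw [← dg_eq k hF, Curv2.deg, Groth.Agent.Pic0.EulerPull.euler_freeMod]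
    ring
  obtain ⟨P, hPc, hPq⟩ : ∃ P : X, IsClosed ({P} : Set X) ∧ ¬ Function.Surjective (st q P) := by
    by_contra hall
    push Not at hall
    haveI hepi : Epi q := by
      refine Abelian.epi_of_cokernel_π_eq_zero _ (zero_of_target_iso_zero _
        ((Groth.L00.Stk.isZero_iff _).2 fun x => ?_).isoZero)
      obtain ⟨w, hw, hxw⟩ := Groth.L21.RR.exists_closed_specialization x
      have hz0 : IsZero ((Groth.L00.Stk.F X w).obj (cokernel q)) := by
        haveI : Epi ((Groth.L00.Stk.F X w).map q) := (ModuleCat.epi_iff_surjective _).2 (hall w hw)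
        refine IsZero.of_epi_eq_zero ((Groth.L00.Stk.F X w).map (cokernel.π q)) ?_
        rw [← cancel_epi ((Groth.L00.Stk.F X w).map q), ← Functor.map_comp, cokernel.condition,
          Functor.map_zero, comp_zero]
      obtain ⟨W, hwW, hW⟩ := Groth.L16.NegPow.exists_nhd_stalk_zero (coh_cokernel hcF hcE q) w hz0
      exact hW x (hxw.mem_open W.2 hwW)
    obtain ⟨h1, h2⟩ := add_kernel k hd.le q hcF hcE
    have hK := locFree_of_mono hreg hd.le (kernel.ι q) (coh_kernel hcF hcE q) hF
    rw [rk_eq hF, rk_eq hE] at h1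
    have hK0 := isZero_of_rank_zero ((show rk (kernel q) = 0 by omega) ▸ hK)
    rw [hdF, (zero_facts k hd.le hK0).2] at h2
    omega
  let v : Fin n → E.presheaf.stalk P := fun i => E.presheaf.germ ⊤ P trivial (e0 E (x i))
  have hv : ¬ Function.Surjective (Fintype.linearCombination (X.presheaf.stalk P) v) := fun hs => hPq fun w => by
    obtain ⟨c, rfl⟩ := hs w
    refine ⟨∑ i, c i • st (Sigma.ι (fun _ : Fin n => Coh.structureModule X) i) P (one X P), ?_⟩
    rw [map_sum, Fintype.linearCombination_apply]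
    refine Finset.sum_congr rfl fun i _ => ?_
    rw [map_smul, ← st_comp]
    simp only [q, Sigma.ι_desc, v, ← hφ]
    congr 1
    exact st_germ _ _ _
  obtain ⟨θ⟩ := Groth.L22.CurveDeg.nonempty_stalk_equiv hE P
  obtain ⟨c, hcu, hcm⟩ := exists_comb_mem_smul_fin θ v hv
  have hres : ∀ r : X.presheaf.stalk P, ∃ a : k,
      r - X.presheaf.germ ⊤ P trivial (Coh.toGlobal (X ↘ Spec (CommRingCat.of k)) a) ∈ maximalIdeal _ := fun r => by
    obtain ⟨a, ha⟩ := Groth.L21.RR.isRat_of_isClosed k hPc r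
    exact ⟨a, ha⟩
  choose a ha using fun i => hres (c i)
  let z : Coh.HH X E 0 := ∑ i, a i • x i
  have hz : E.presheaf.germ ⊤ P trivial (e0 E z) ∈
      maximalIdeal (X.presheaf.stalk P) • (⊤ : Submodule (X.presheaf.stalk P) (E.presheaf.stalk P)) := by
    have h5 : E.presheaf.germ ⊤ P trivial (e0 E z) =
        ∑ i, X.presheaf.germ ⊤ P trivial (Coh.toGlobal (X ↘ Spec (CommRingCat.of k)) (a i)) • v i := by
      simp only [z, map_sum, e0_smul, Groth.L20.ModStalk.germ_smul, v]
    rw [h5]
    have h6 : ∑ i, c i • v i - ∑ i, (c i - X.presheaf.germ ⊤ P trivial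
        (Coh.toGlobal (X ↘ Spec (CommRingCat.of k)) (a i))) • v i ∈
          maximalIdeal (X.presheaf.stalk P) • (⊤ : Submodule (X.presheaf.stalk P) (E.presheaf.stalk P)) :=
      Submodule.sub_mem _ hcm (Submodule.sum_mem _ fun i _ => Submodule.smul_mem_smul (ha i) Submodule.mem_top)
    convert h6 using 1
    simp [sub_smul, Finset.sum_sub_distrib]
  have hz0 : z ≠ 0 := fun h => by
    have h7 := Fintype.linearIndependent_iff.1 hxlin a h
    obtain ⟨i, hi⟩ := hcu
    have h8 := ha i
    rw [h7 i, show Coh.toGlobal (X ↘ Spec (CommRingCat.of k)) (0 : k) = 0 from map_zero _] at h8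
    erw [map_zero, sub_zero] at h8
    exact (mem_nonunits_iff.1 h8) hi
  exact exists_line_dg_pos_of_vanishing k hreg hd hE z hz0 hz

variable [Smooth (X ↘ Spec (CommRingCat.of k))] [IsAlgClosed k] (hg : Curv2.genus k X = 1)

include hreg hd hg in
/-- A stable bundle in genus one has coprime rank and degree. -/
theorem gcd_eq_one_of_stable {r : ℕ} (hr : 0 < r) {F : X.Modules} (hF : FlatMod.IsFinLocFreeOfRank r F)
    (hFs : ModFun.IsSlopeStable k X F r) : Int.gcd (r : ℤ) (dg k F) = 1 := by
  haveI := Groth.L21.RR.isNoetherian_of_proper (X := X) k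
  have h0 : h k 0 (Coh.structureModule X) = 1 := Groth.L21.RR.h0_eq_one_of_isAlgClosed k
  have hh : 0 < Int.gcd (r : ℤ) (dg k F) := Int.gcd_pos_of_ne_zero_left _ (by omega)
  obtain ⟨g, r', d₀, hgpos, hco, e1, e2⟩ := Int.exists_gcd_one' hh
  have hrp : 0 < r' := by nlinarith
  obtain ⟨r₀, rfl⟩ := Int.eq_ofNat_of_zero_le hrp.le
  obtain ⟨E₀, hE₀, hdE₀, hS⟩ := exists_stable_coprime k hreg hd hg r₀ (by omega) d₀ hco
  haveI := Groth.L17.Duality.hasSheafHom E₀
  let G := (homMod E₀).obj F
  have hB := Groth.L22.CurveDeg.isFinLocFree_of_rank hE₀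
  have hG : FlatMod.IsFinLocFreeOfRank (r * r₀) G := by
    obtain ⟨m, hm⟩ := Groth.L21.Disc.exists_rank (Groth.L29.LocFree.of_iso
      ((Groth.L17.Duality.tensorDualIso E₀ hB).app F)
      (Groth.L22.CurveDeg.isFinLocFree_of_rank (Groth.L21.Weil.rk_tensor hF (isFinLocFreeOfRank_dual hE₀))))
    have hmm : m = r * r₀ := by
      rw [← rk_eq hm, ← rk_iso ((Groth.L17.Duality.tensorDualIso E₀ hB).app F)]
      exact rk_eq (Groth.L21.Weil.rk_tensor hF (isFinLocFreeOfRank_dual hE₀))
    exact hmm ▸ hm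
  have hdG : dg k G = 0 := by
    have hχ := euler_homMod k hd h0 hF hE₀
    rw [euler_bundle k hd h0 hG, hdE₀, hg] at hχ
    push_cast at hχ
    have e3 : (r₀ : ℤ) * dg k F - (r : ℤ) * d₀ = 0 := by rw [e2, e1]; ring
    linarith
  obtain ⟨M, hM, hdM⟩ := exists_invertible_deg (X := X) k hd 1
  have hG' := locFree_twist hd hreg hM hG
  have hdG' : dg k (CohB1.tensorMod G M) = ((r * r₀ : ℕ) : ℤ) := by
    rw [dg_twist k hd hM (isCoh_of_rank hG), hdG, rk_eq hG, hdM]
    ring
  have hpos : 0 < r * r₀ := Nat.mul_pos hr (by omega)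
  have hn : r * r₀ ≤ h k 0 (CohB1.tensorMod G M) := by
    have hχ := euler_bundle k hd h0 hG'
    rw [Groth.L21.RR.euler_eq k hd.le, hdG', hg] at hχ
    push_cast at hχ
    zify
    omega
  obtain ⟨L', i', hi', hL', hdL'⟩ := exists_line_dg_pos_fin k hreg hd hG' (by omega) hn
  haveI := hi'
  obtain ⟨L, i, hi, hcL, hrL, hdL⟩ := exists_untwist k hd hM i' (isCoh_of_rank hL')
  haveI := hi
  rw [rk_eq hL'] at hrL
  rw [hrL, hdM] at hdL
  have hL := locFree_of_mono hreg hd.le i hcL hG
  rw [hrL] at hL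
  have hLi := isInvertible_of_rank hL
  let adj : tensorRightF E₀ ⊣ homMod E₀ :=
    (ModSite.sheafHomAdj (O := X.sheaf) E₀).ofNatIsoLeft (tensorRightBiIso E₀).symm
  let φ : CohB1.tensorMod L E₀ ⟶ F := (adj.homEquiv L F).symm i
  let ψ : CohB1.tensorMod E₀ L ⟶ F := (tensorComm E₀ L).hom ≫ φ
  have hψ : ψ ≠ 0 := fun h => by
    have h1 : φ = 0 := by
      rw [← cancel_epi (tensorComm E₀ L).hom, comp_zero]
      exact h
    have h2 : i = 0 := by
      rw [← (adj.homEquiv L F).apply_symm_apply i]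
      show adj.homEquiv L F φ = 0
      rw [h1, Adjunction.homEquiv_unit, Functor.map_zero, comp_zero]
    exact not_isZero_of_rank Nat.one_pos hL (IsZero.of_mono_eq_zero i h2)
  have hT := locFree_twist hd hreg hLi hE₀
  have hdT : dg k (CohB1.tensorMod E₀ L) = d₀ + (r₀ : ℤ) * dg k L := by
    rw [dg_twist k hd hLi (isCoh_of_rank hE₀), rk_eq hE₀, hdE₀, dg_eq k hL]
  have hTs : ModFun.IsSlopeStable k X (CohB1.tensorMod E₀ L) r₀ := fun H r₁ j hj hr₁ hlt hH => by
    haveI := hj
    obtain ⟨H₀, j₀, hj₀, hc₀, hrH, hdH⟩ := exists_untwist k hd hLi j (isCoh_of_rank hH)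
    rw [rk_eq hH] at hrH
    have := hS H₀ j₀ hj₀ hc₀ (by omega) (by omega)
    rw [dg_eq k hH, dg_eq k hT, hdT, hdH, hrH, dg_eq k hL]
    rw [hrH] at this
    linarith
  have hTss := isSlopeSemistable_of_stable k hreg hd.le hT hTs
  have hFss := isSlopeSemistable_of_stable k hreg hd.le hF hFs
  have hδ : dg k L = 0 := by
    by_contra hne
    refine hψ (hom_eq_zero k hreg hd.le hT hF hTss hFss ?_ ψ)
    rw [dg_eq k hF, dg_eq k hT, hdT, e2, e1]
    have h1 : (0 : ℤ) < dg k L := by omega
    have h2 : (0 : ℤ) < (r₀ : ℤ) * (g * r₀) * dg k L := by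
      have : (0 : ℤ) < g := by omega
      have : (0 : ℤ) < r₀ := by omega
      positivity
    linarith
  haveI := isIso_of_eq_slope k hreg hd.le hT hF hTss hFss (by
    rw [dg_eq k hF, dg_eq k hT, hdT, hδ, e2, e1]; ring) (Or.inr ⟨hTs, hFs⟩) ψ hψ
  have hrr : r₀ = r := by rw [← rk_eq hT, ← rk_eq hF]; exact rk_iso (asIso ψ)
  have hg1 : g = 1 := by
    have h1 : (1 : ℤ) * r₀ = (g : ℤ) * r₀ := by rw [one_mul]; rw [hrr] at e1 ⊢; linarith
    have := mul_right_cancel₀ (by omega : (r₀ : ℤ) ≠ 0) h1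
    omega
  subst hg1
  simp at e1 e2
  rw [e1, e2]
  exact hco

end Groth.L21.Bundle
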